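import Mathlib.GroupTheory.Transfer
import Cfsg.Agent.ConwayType.Basics

/-!
# Tools: central extensions split over a subgroup of odd index, and forms on eight bits
-/

set_option autoImplicit false

namespace CfsgLib.CoOneAmalgam

open CfsgLib.ConwayType

/-- A homomorphism into a group of exponent two that is trivial on a subgroup of odd index is
trivial. -/
theorem eq_one_of_odd_index {K E : Type*} [Group K] [Finite K] [Group E] [Finite E]
    (hE : ∀ y : E, y * y = 1) (f : K →* E) (H : Subgroup K) (hH : H ≤ f.ker) (hodd : Odd H.index)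
    (k : K) : f k = 1 := by
  have hdvd : f.ker.index ∣ H.index := Subgroup.index_dvd_of_le hH
  rw [Subgroup.index_ker] at hdvd
  have hp : IsPGroup 2 f.range := fun x => ⟨1, Subtype.ext (by simpa [pow_two] using hE x.1)⟩
  have : Fact (Nat.Prime 2) := ⟨Nat.prime_two⟩
  obtain ⟨n, hn⟩ := IsPGroup.iff_card.1 hp
  rw [hn] at hdvd
  have hn0 : n = 0 := by
    rcases Nat.eq_zero_or_pos n with h | h
    · exact h
    · have := (dvd_pow_self 2 h.ne').trans hdvd
      exact absurd this (fun h2 => (Nat.not_even_iff_odd.2 hodd) (even_iff_two_dvd.2 h2))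
  rw [hn0, pow_zero, Subgroup.card_eq_one] at hn
  exact Subgroup.mem_bot.1 (hn ▸ ⟨k, rfl⟩ : f k ∈ (⊥ : Subgroup E))

/-- A central element of order two outside a subgroup which, together with it, has odd index is
detected by a homomorphism to the group of order two. -/
theorem exists_hom_of_central {K : Type*} [Group K] [Finite K] (u : K) (hu2 : u * u = 1)
    (hu : ∀ k, k * u = u * k) (D B : Subgroup K) (huD : u ∉ D)
    (hB : ∀ b ∈ B, b ∈ D ∨ b * u ∈ D) (hodd : Odd B.index) :
    ∃ t : K →* Multiplicative (ZMod 2), t u ≠ 1 := by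
  classical
  let val : B → Multiplicative (ZMod 2) := fun b =>
    if (b : K) ∈ D then 1 else Multiplicative.ofAdd 1
  have hne : ∀ b ∈ B, b ∉ D → b * u ∈ D := fun b hb h => (hB b hb).resolve_left h
  have hmul : ∀ a b : B, val (a * b) = val a * val b := by
    intro a b
    have hab : ((a * b : B) : K) = (a : K) * b := rfl
    have hsq : Multiplicative.ofAdd (1 : ZMod 2) * Multiplicative.ofAdd 1 = 1 := by decide
    simp only [val, hab]
    by_cases ha : (a : K) ∈ D <;> by_cases hb : (b : K) ∈ D
    · simp [ha, hb, mul_mem ha hb]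
    · have hn : (a : K) * b ∉ D := fun h => hb (by
        have := mul_mem (inv_mem ha) h; rwa [inv_mul_cancel_left] at this)
      simp [ha, hb, hn]
    · have hn : (a : K) * b ∉ D := fun h => ha (by
        have := mul_mem h (inv_mem hb); rwa [mul_inv_cancel_right] at this)
      simp [ha, hb, hn]
    · have h := mul_mem (hne a a.2 ha) (hne b b.2 hb)
      have e : (a : K) * u * ((b : K) * u) = (a : K) * b := by
        rw [mul_assoc, ← mul_assoc u, ← hu b, mul_assoc (b : K), hu2, mul_one]
      rw [e] at h
      simp [ha, hb, h, hsq]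
  let φ : B →* Multiplicative (ZMod 2) := MonoidHom.mk' val hmul
  refine ⟨MonoidHom.transfer φ, ?_⟩
  rw [MonoidHom.transfer_eq_pow φ u fun k g₀ _ => by
    rw [mul_assoc, (Commute.pow_right (hu g₀) k).eq.symm, inv_mul_cancel_left]]
  obtain ⟨m, hm⟩ := hodd
  have e : u ^ B.index = u := by rw [hm, pow_succ, pow_mul, pow_two, hu2, one_pow, one_mul]
  show val ⟨_, _⟩ ≠ 1
  simp only [val, e, huD, if_false]
  decide

/-- An additive function to the truth values is given by the polar form. -/
theorem exists_dual8 {f : V8 → Bool} (hf : ∀ a b, f (a + b) = xor (f a) (f b)) :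
    ∃ m, ∀ a, f a = b8 a m := by
  have h0 : f 0 = false := by
    have := hf 0 0
    rw [add_zero] at this
    cases hf0 : f 0 <;> simp_all
  have hsm : ∀ (c : Bool) (v : V8), f (sm c v) = (c && f v) := fun c v => by
    cases c <;> simp [sm, h0]
  have hexp : ∀ a : V8, a = sm (b8 a (mk8 2)) (mk8 1) + sm (b8 a (mk8 1)) (mk8 2) +
      sm (b8 a (mk8 8)) (mk8 4) + sm (b8 a (mk8 4)) (mk8 8) + sm (b8 a (mk8 32)) (mk8 16) +
      sm (b8 a (mk8 16)) (mk8 32) + sm (b8 a (mk8 128)) (mk8 64) + sm (b8 a (mk8 64)) (mk8 128) := by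
    decide +kernel
  refine ⟨sm (f (mk8 1)) (mk8 2) + sm (f (mk8 2)) (mk8 1) + sm (f (mk8 4)) (mk8 8) +
    sm (f (mk8 8)) (mk8 4) + sm (f (mk8 16)) (mk8 32) + sm (f (mk8 32)) (mk8 16) +
    sm (f (mk8 64)) (mk8 128) + sm (f (mk8 128)) (mk8 64), fun a => ?_⟩
  conv_lhs => rw [hexp a]
  simp only [hf, hsm, b8_add_right, b8_sm_right, Bool.and_comm]

theorem not_orth : ∀ t : V8, ∀ u : V8, t = 0 ∨ u = 0 ∨ u = t ∨
    ((List.range 8).any fun i => (List.range 8).any fun j =>
      let v := if i = j then mk8 (2 ^ i) else mk8 (2 ^ i) + mk8 (2 ^ j)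
      !(b8 v t) && b8 v u) = true := by
  decide +kernel

theorem exists_partner : ∀ t : V8, t ≠ 0 → ∃ i : Fin 8, b8 (mk8 (2 ^ i.val)) t = true := by
  decide +kernel

/-- An isometry which is the identity on the orthogonal of a singular vector is the identity. -/
theorem eq_id_of_orth {f : V8 → V8} (hf : IsIso8 f) {t : V8} (ht : t ≠ 0) (hq : q8 t = false)
    (h : ∀ v, b8 v t = false → f v = v) (v : V8) : f v = v := by
  obtain ⟨i, hi⟩ := exists_partner t ht
  set d := mk8 (2 ^ i.val) with hd
  have key : f d = d := by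
    set u := f d + d with hu
    have hfd : f d = d + u := by rw [hu, add_comm, add_add_cancel8]
    have horth : ∀ w, b8 w t = false → b8 w u = false := by
      intro w hw
      have := hf.polar w d
      rw [h w hw, hfd, b8_add_right] at this
      cases hwu : b8 w u
      · rfl
      · rw [hwu] at this; simp at this
    rcases not_orth t u with e | e | e | e
    · exact absurd e ht
    · rw [hfd, e, add_zero]
    · have := hf.quad d
      rw [hfd, e, q8_add, hq, hi] at this
      simp at this
    · simp only [List.any_eq_true, Bool.and_eq_true, Bool.not_eq_true'] at e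
      obtain ⟨a, -, b, -, e1, e2⟩ := e
      rw [horth _ e1] at e2
      simp at e2
  cases hv : b8 v t
  · exact h v hv
  · have hvd : b8 (v + d) t = false := by
      rw [b8_comm, b8_add_right, b8_comm t, b8_comm t, hv, hi]; rfl
    have := h _ hvd
    rw [hf.add, key] at this
    exact add_right_cancel this

end CfsgLib.CoOneAmalgam
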