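import Cfsg.Agent.CoOneAmalgam.Match
import Cfsg.Agent.CoOneAmalgam.ToCTools
import Cfsg.Agent.CoOneInv.Centralizer

/-!
# Each element of the centralizer in the first Conway group is imitated in `G` on the extraspecial
subgroup
-/

set_option autoImplicit false

namespace CfsgLib.CoOneAmalgam

open Cfsg CfsgLib.ConwayType CfsgLib.ConwayGolay
open CfsgLib.CoOneInv (zOne C1 QOne)

theorem qOne_conj {c q : Spor.Co1} (hc : c ∈ C1) (hq : q ∈ qOne) : c * q * c⁻¹ ∈ qOne := by
  obtain ⟨k, hk, rfl⟩ := hq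
  exact ⟨⟨c, hc⟩ * k * ⟨c, hc⟩⁻¹, CfsgLib.CoOneInv.QOne_normal.conj_mem k hk _, rfl⟩

theorem qOne_le_C1 : qOne ≤ C1 := Subgroup.map_subtype_le _

theorem zOne_mul_self : zOne * zOne = 1 := by
  rw [← pow_two, ← CfsgLib.CoOneInv.orderOf_zOne, pow_orderOf_eq_one]

/-- Conjugation on the extraspecial subgroup. -/
noncomputable def cj (c : C1) (q : qOne) : qOne :=
  ⟨(c : Spor.Co1) * q * (c : Spor.Co1)⁻¹, qOne_conj c.2 q.2⟩

theorem cj_mul (c : C1) (q q' : qOne) : cj c (q * q') = cj c q * cj c q' :=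
  Subtype.ext (by show (c : Spor.Co1) * (q * q') * (c : Spor.Co1)⁻¹ = _ * _; simp only [cj]; group)

theorem cj_comp (c d : C1) (q : qOne) : cj (c * d) q = cj c (cj d q) :=
  Subtype.ext (by simp only [cj, Subgroup.coe_mul]; group)

theorem cj_one (q : qOne) : cj 1 q = q := Subtype.ext (by simp [cj])

/-- The permutations given by pairs of reflections. -/
def pairSet : Set (Equiv.Perm V8) := {σ | ∃ p, okPair p = true ∧ ∀ v, σ v = pr p v}

theorem mk8_bits (v : V8) : mk8 v.bits = v := V8.ext_bits (bits_mk8 v.bits_lt)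

theorem conj_pairSet {g : Equiv.Perm V8} (hg : IsIso8 g) {σ : Equiv.Perm V8} (hσ : σ ∈ pairSet) :
    g * σ * g⁻¹ ∈ pairSet := by
  obtain ⟨⟨a, b⟩, hp, hσ⟩ := hσ
  simp only [okPair, Bool.and_eq_true] at hp
  refine ⟨((g (mk8 a)).bits, (g (mk8 b)).bits), ?_, fun v => ?_⟩
  · simp [okPair, mk8_bits, hg.quad, hp.1, hp.2]
  · have key : ∀ x w, g (rf x w) = rf (g x) (g w) := fun x w => by
      simp only [rf, hg.polar]
      split_ifs
      · exact hg.add _ _
      · rfl
    rw [Equiv.Perm.mul_apply, Equiv.Perm.mul_apply, hσ, pr, pr, key, key,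
      show g (g⁻¹ v) = v from g.apply_symm_apply v, mk8_bits, mk8_bits]

variable {G : Type*} [Group G] {z : G} {Q : Subgroup G} {π : G → V8} {D : Data z Q π} (E : Emb D)

namespace Emb

include E

/-- The embedding on the extraspecial subgroup. -/
noncomputable def qf : qOne →* G := E.eP.comp (Subgroup.inclusion qOne_le_pOne)

theorem qf_apply (q : qOne) : E.qf q = E.eP ⟨q, qOne_le_pOne q.2⟩ := rfl

theorem qf_mem (q : qOne) : E.qf q ∈ Q := (E.qiff ⟨q, qOne_le_pOne q.2⟩).1 q.2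

theorem qf_injective : Function.Injective E.qf := E.inj.comp (Subgroup.inclusion_injective _)

theorem qf_surj (x : G) (hx : x ∈ Q) : ∃ q : qOne, E.qf q = x := by
  obtain ⟨y, hy⟩ := E.surj x (D.Q_comm hx) fun v hv => by rwa [D.act_of_mem hx]
  exact ⟨⟨y, (E.qiff y).2 (by rw [hy]; exact hx)⟩, hy⟩

theorem zOne_mem_qOne : zOne ∈ qOne := by
  have h := (E.qiff ⟨zOne, zOne_mem_pOne⟩).2 (by rw [E.map_z]; exact D.sub.z_mem)
  exact h

theorem qf_z : E.qf ⟨zOne, E.zOne_mem_qOne⟩ = z := E.map_z zOne_mem_pOne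

theorem qf_z_mul (q : qOne) : E.qf (⟨zOne, E.zOne_mem_qOne⟩ * q) = z * E.qf q := by
  rw [map_mul, E.qf_z]

theorem exists_pre (v : V8) : ∃ q : qOne, π (E.qf q) = v := by
  obtain ⟨x, hx, rfl⟩ := D.surj v
  obtain ⟨q, rfl⟩ := E.qf_surj x hx
  exact ⟨q, rfl⟩

/-- A chosen element over a vector. -/
noncomputable def pre (v : V8) : qOne := (E.exists_pre v).choose

theorem π_pre (v : V8) : π (E.qf (E.pre v)) = v := (E.exists_pre v).choose_spec

theorem cj_z (c : C1) : cj c ⟨zOne, E.zOne_mem_qOne⟩ = ⟨zOne, E.zOne_mem_qOne⟩ :=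
  Subtype.ext (mul_inv_eq_iff_eq_mul.2 (Subgroup.mem_centralizer_singleton_iff.1 c.2))

/-- The action on the coordinates. -/
noncomputable def act1 (c : C1) (v : V8) : V8 := π (E.qf (cj c (E.pre v)))

theorem act1_π (c : C1) (q : qOne) : E.act1 c (π (E.qf q)) = π (E.qf (cj c q)) := by
  rcases D.eq_or_eq_of_π_eq (E.qf_mem q) (E.qf_mem (E.pre (π (E.qf q)))) (E.π_pre _).symm with h | h
  · rw [act1, E.qf_injective h]
  · rw [← E.qf_z_mul] at h
    rw [act1, E.qf_injective h, cj_mul, E.cj_z, map_mul, E.qf_z, D.π_z_mul (E.qf_mem _)]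

theorem act1_comp (c d : C1) (v : V8) : E.act1 (c * d) v = E.act1 c (E.act1 d v) := by
  conv_lhs => rw [← E.π_pre v]
  rw [E.act1_π, cj_comp, ← E.act1_π, ← E.act1_π, E.π_pre]

theorem act1_one (v : V8) : E.act1 1 v = v := by
  conv_lhs => rw [← E.π_pre v]
  rw [E.act1_π, cj_one, E.π_pre]

theorem act1_iso (c : C1) : IsIso8 (E.act1 c) := by
  refine ⟨fun u v => ?_, fun v => ?_⟩
  · obtain ⟨a, rfl⟩ := E.exists_pre u
    obtain ⟨b, rfl⟩ := E.exists_pre v
    rw [← D.map_mul _ (E.qf_mem a) _ (E.qf_mem b), ← map_mul, E.act1_π, E.act1_π, E.act1_π, cj_mul,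
      map_mul, D.map_mul _ (E.qf_mem _) _ (E.qf_mem _)]
  · obtain ⟨a, rfl⟩ := E.exists_pre v
    rw [E.act1_π]
    have h : E.qf (cj c a) * E.qf (cj c a) = 1 ↔ E.qf a * E.qf a = 1 := by
      rw [← map_mul, ← map_mul, ← cj_mul, ← map_one E.qf, E.qf_injective.eq_iff, E.qf_injective.eq_iff,
        Subtype.ext_iff, Subtype.ext_iff]
      exact conj_eq_one_iff
    rw [D.sq _ (E.qf_mem _), D.sq _ (E.qf_mem _)] at h
    cases h1 : q8 (π (E.qf (cj c a))) <;> cases h2 : q8 (π (E.qf a)) <;> simp_all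

/-- The action as permutations. -/
noncomputable def act1Hom : C1 →* Equiv.Perm V8 where
  toFun c := ⟨E.act1 c, E.act1 c⁻¹,
    fun v => by rw [← E.act1_comp, inv_mul_cancel, E.act1_one],
    fun v => by rw [← E.act1_comp, mul_inv_cancel, E.act1_one]⟩
  map_one' := Equiv.ext E.act1_one
  map_mul' c d := Equiv.ext (E.act1_comp c d)

theorem act1Hom_apply (c : C1) (v : V8) : E.act1Hom c v = E.act1 c v := rfl

theorem exists_imitator_mod (c : C1) : ∃ d : G, d * z = z * d ∧ ∀ v, D.act d v = E.act1 c v := by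
  classical
  set Hp : Subgroup (Equiv.Perm V8) := Subgroup.closure pairSet with hHp
  set N1 : Subgroup C1 := Hp.comap E.act1Hom with hN1
  have hnorm : N1.Normal := ⟨fun n hn g => by
    show E.act1Hom (g * n * g⁻¹) ∈ Hp
    rw [map_mul, map_mul, map_inv]
    have hn' : E.act1Hom n ∈ Hp := hn
    clear hn
    generalize E.act1Hom n = σ at hn'
    induction hn' using Subgroup.closure_induction with
    | mem x hx => exact Subgroup.subset_closure (conj_pairSet (E.act1_iso g) hx)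
    | one => simp
    | mul a b _ _ ha hb => simpa [mul_assoc] using mul_mem ha hb
    | inv a _ ha => simpa [mul_assoc] using inv_mem ha⟩
  have hQ1 : QOne ≤ N1 := by
    intro k hk
    have hkq : (k : Spor.Co1) ∈ qOne := ⟨k, hk, rfl⟩
    have h1 : E.act1Hom k = 1 := Equiv.ext fun v => by
      rw [E.act1Hom_apply]
      conv_lhs => rw [← E.π_pre v]
      rw [E.act1_π, show cj k (E.pre v) = ⟨k, hkq⟩ * E.pre v * ⟨k, hkq⟩⁻¹ from rfl, map_mul, map_mul,
        map_inv, ← D.act_π (D.Q_comm (E.qf_mem _)) (E.qf_mem _), D.act_of_mem (E.qf_mem _), E.π_pre]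
      rfl
    show E.act1Hom k ∈ Hp
    rw [h1]
    exact one_mem _
  have hp0 : okPair (3, 7) = true ∧ (∀ v, InW v → InW (pr (3, 7) v)) ∧ ∃ v, pr (3, 7) v ≠ v := by
    decide +kernel
  obtain ⟨c0, hc0, hact0⟩ := D.exists_pr hp0.1
  obtain ⟨x, hx⟩ := E.surj c0 hc0 fun v hv => by rw [hact0]; exact hp0.2.1 v hv
  let x1 : C1 := ⟨x, x.2.2⟩
  have hx1 : ∀ v, E.act1 x1 v = pr (3, 7) v := fun v => by
    obtain ⟨q, rfl⟩ := E.exists_pre v
    rw [E.act1_π, ← hact0, D.act_π hc0 (E.qf_mem q), ← hx]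
    congr 1
    rw [qf_apply, qf_apply, ← map_inv, ← map_mul, ← map_mul]
    rfl
  have hN1top : N1 = ⊤ := by
    haveI := hnorm
    obtain ⟨eO⟩ := CfsgLib.CoOneInv.quotient_equiv
    haveI := CfsgLib.CoOneInv.omega_simple.1
    haveI : IsSimpleGroup (C1 ⧸ QOne) := eO.isSimpleGroup
    haveI : (N1.map (QuotientGroup.mk' QOne)).Normal :=
      Subgroup.Normal.map hnorm _ (QuotientGroup.mk'_surjective _)
    rcases Subgroup.Normal.eq_bot_or_eq_top (H := N1.map (QuotientGroup.mk' QOne)) inferInstance with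
      h | h
    · exfalso
      obtain ⟨v, hv⟩ := hp0.2.2
      have hmem : x1 ∈ N1 := Subgroup.subset_closure ⟨(3, 7), hp0.1, hx1⟩
      have hq : (QuotientGroup.mk' QOne) x1 = 1 :=
        Subgroup.mem_bot.1 (h ▸ Subgroup.mem_map_of_mem _ hmem)
      rw [QuotientGroup.mk'_apply, QuotientGroup.eq_one_iff] at hq
      have hxq : E.eP x ∈ Q := (E.qiff x).1 ⟨x1, hq, rfl⟩
      rw [hx] at hxq
      exact hv (by rw [← hact0, D.act_of_mem hxq])
    · rw [Subgroup.eq_top_iff']
      intro g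
      obtain ⟨n, hn, e⟩ : (QuotientGroup.mk' QOne) g ∈ N1.map (QuotientGroup.mk' QOne) :=
        h ▸ Subgroup.mem_top _
      have hg : n⁻¹ * g ∈ QOne := QuotientGroup.eq.1 e
      have := mul_mem hn (hQ1 hg)
      rwa [mul_inv_cancel_left] at this
  have hle : Hp ≤ D.actHom.range := by
    refine (Subgroup.closure_le _).2 ?_
    rintro σ ⟨p, hp, hσ⟩
    obtain ⟨d, hd, hdv⟩ := D.exists_pr hp
    exact ⟨⟨d, Subgroup.mem_centralizer_singleton_iff.2 hd⟩, Equiv.ext fun v => by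
      rw [D.actHom_apply, hdv, hσ]⟩
  obtain ⟨⟨d, hd⟩, hdc⟩ := hle (show E.act1Hom c ∈ Hp from
    (hN1top ▸ Subgroup.mem_top c : c ∈ N1))
  exact ⟨d, Subgroup.mem_centralizer_singleton_iff.1 hd, fun v => Equiv.congr_fun hdc v⟩

/-- Correcting by an element of the extraspecial subgroup. -/
theorem exists_inner (c : C1) {d : G} (hd : d * z = z * d) (h : ∀ v, D.act d v = E.act1 c v) :
    ∃ y ∈ Q, ∀ q : qOne, E.qf (cj c q) = d * y * E.qf q * (d * y)⁻¹ := by
  classical
  have hzd : ∀ w : G, d * (z * w) * d⁻¹ = z * (d * w * d⁻¹) := fun w => by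
    rw [← mul_assoc, hd]; group
  have hcases : ∀ q : qOne, E.qf (cj c q) = d * E.qf q * d⁻¹ ∨
      E.qf (cj c q) = z * (d * E.qf q * d⁻¹) := fun q =>
    D.eq_or_eq_of_π_eq (D.sub.conj_mem hd (E.qf_mem q)) (E.qf_mem _)
      (by rw [← D.act_π hd (E.qf_mem q), h, E.act1_π])
  let g : qOne → Bool := fun q => decide (E.qf (cj c q) ≠ d * E.qf q * d⁻¹)
  have hg : ∀ q, E.qf (cj c q) = (if g q then z else 1) * (d * E.qf q * d⁻¹) := fun q => by
    by_cases e : E.qf (cj c q) = d * E.qf q * d⁻¹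
    · simp [g, e]
    · simp [g, e, (hcases q).resolve_left e]
  have gmul : ∀ a b, g (a * b) = xor (g a) (g b) := by
    intro a b
    have key : ∀ (i j k : Bool), ((if i then z else 1) * (if j then z else 1) : G) =
        (if k then z else 1) → k = xor i j := by
      have hne := D.sub.ne_one
      have h2 := D.sub.mul_self
      intro i j k
      cases i <;> cases j <;> cases k <;> simp [h2, hne, Ne.symm hne]
    refine key _ _ _ ?_
    have hab := hg (a * b)
    rw [cj_mul, map_mul, map_mul, hg a, hg b] at hab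
    have hcomm : ∀ (j : Bool) (w : G), w ∈ Q → w * (if j then z else 1) = (if j then z else 1) * w := by
      intro j w hw
      cases j <;> simp [D.sub.z_comm hw]
    have hwa := D.sub.conj_mem hd (E.qf_mem a)
    rw [show d * (E.qf a * E.qf b) * d⁻¹ = (d * E.qf a * d⁻¹) * (d * E.qf b * d⁻¹) by group,
      mul_assoc, ← mul_assoc (d * E.qf a * d⁻¹) (if g b then z else 1), hcomm _ _ hwa,
      mul_assoc (if g b then z else 1) (d * E.qf a * d⁻¹), ← mul_assoc] at hab
    exact mul_right_cancel hab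
  let f : V8 → Bool := fun v => g (E.pre v)
  have gz : ∀ q : qOne, g (⟨zOne, E.zOne_mem_qOne⟩ * q) = g q := fun q => by
    have e : g ⟨zOne, E.zOne_mem_qOne⟩ = false := by
      simp [g, E.cj_z, E.qf_z, hd]
    rw [gmul, e]; simp
  have gf : ∀ q, g q = f (π (E.qf q)) := fun q => by
    rcases D.eq_or_eq_of_π_eq (E.qf_mem q) (E.qf_mem (E.pre (π (E.qf q)))) (E.π_pre _).symm with
      e | e
    · simp only [f]; rw [E.qf_injective e]
    · rw [← E.qf_z_mul] at e
      simp only [f]; rw [E.qf_injective e, gz]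
  obtain ⟨m, hm⟩ := exists_dual8 (f := f) fun u v => by
    obtain ⟨a, rfl⟩ := E.exists_pre u
    obtain ⟨b, rfl⟩ := E.exists_pre v
    rw [← D.map_mul _ (E.qf_mem a) _ (E.qf_mem b), ← map_mul, ← gf, ← gf, ← gf, gmul]
  refine ⟨D.sec m, D.sec_mem m, fun q => ?_⟩
  rw [hg q, gf q, hm, show d * D.sec m * E.qf q * (d * D.sec m)⁻¹ =
    d * (D.sec m * E.qf q * (D.sec m)⁻¹) * d⁻¹ by group]
  have hiff := D.commute_iff (E.qf_mem q) (D.sec_mem m)
  rw [D.π_sec] at hiff
  rcases D.sub.conj_eq (D.sec_mem m) (E.qf_mem q) with e | e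
  · have : b8 (π (E.qf q)) m = false := hiff.1 ((mul_inv_eq_iff_eq_mul.1 e).symm)
    simp [this, e]
  · have : b8 (π (E.qf q)) m = true := by
      by_contra hb
      rw [Bool.not_eq_true] at hb
      rw [mul_inv_eq_iff_eq_mul.2 (hiff.2 hb).symm] at e
      exact D.sub.ne_one (mul_eq_right.1 e.symm)
    rw [this, if_pos rfl, e, hzd]

/-- Every element is imitated exactly. -/
theorem exists_imitator (c : C1) : ∃ d : G, d * z = z * d ∧
    ∀ q : qOne, E.qf (cj c q) = d * E.qf q * d⁻¹ := by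
  obtain ⟨d, hd, h⟩ := E.exists_imitator_mod c
  obtain ⟨y, hy, hq⟩ := E.exists_inner c hd h
  exact ⟨d * y, (Commute.mul_left hd (D.Q_comm hy)).eq, hq⟩

/-- Only `1` and the octad involution centralize the extraspecial subgroup. -/
theorem cent_qOne {c : C1} (h : ∀ q : qOne, cj c q = q) :
    (c : Spor.Co1) = 1 ∨ (c : Spor.Co1) = zOne := by
  have hcQ : c ∈ QOne := CfsgLib.CoOneInv.centralizer_QOne (Subgroup.mem_centralizer_iff.2 fun k hk =>
    Subtype.ext (mul_inv_eq_iff_eq_mul.1 (congrArg Subtype.val (h ⟨k, k, hk, rfl⟩))).symm)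
  let cq : qOne := ⟨c, c, hcQ, rfl⟩
  rcases D.sub.mem_of_commutes (c := E.qf cq) (fun x hx => by
    obtain ⟨q, rfl⟩ := E.qf_surj x hx
    rw [← map_mul, ← map_mul]
    exact congrArg E.qf (Subtype.ext (mul_inv_eq_iff_eq_mul.1 (congrArg Subtype.val (h q))).symm))
    with e | e
  · exact Or.inl (congrArg Subtype.val (E.qf_injective (e.trans (map_one E.qf).symm)))
  · exact Or.inr (congrArg Subtype.val (E.qf_injective (e.trans E.qf_z.symm)))

/-- An element acting trivially on the coordinates lies in the extraspecial subgroup. -/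
theorem mem_of_act1 {c : C1} (h : ∀ v, E.act1 c v = v) : (c : Spor.Co1) ∈ qOne := by
  obtain ⟨y, hy, hq⟩ := E.exists_inner c (d := 1) (by simp) fun v => by rw [D.act_one, h]
  obtain ⟨k, rfl⟩ := E.qf_surj y hy
  obtain ⟨k', hk', e⟩ := k.2
  have hzq := E.zOne_mem_qOne
  rcases E.cent_qOne (c := k'⁻¹ * c) (fun q => E.qf_injective (by
    rw [cj_comp]
    have e1 : cj k'⁻¹ (cj c q) = k⁻¹ * cj c q * k := Subtype.ext (by
      show ((k'⁻¹ : C1) : Spor.Co1) * _ * ((k'⁻¹ : C1) : Spor.Co1)⁻¹ = _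
      rw [Subgroup.coe_inv, inv_inv, show ((k' : Spor.Co1)) = k from e]
      rfl)
    rw [e1, map_mul, map_mul, map_inv, hq]
    group)) with h1 | h1
  all_goals
    rw [Subgroup.coe_mul, Subgroup.coe_inv, inv_mul_eq_iff_eq_mul,
      show ((k' : Spor.Co1)) = k from e] at h1
    rw [h1]
  · exact mul_mem k.2 (one_mem _)
  · exact mul_mem k.2 hzq

end Emb

end CfsgLib.CoOneAmalgam
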