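import Cfsg.Agent.CoOneAmalgam.Letters
import Cfsg.Agent.CoOneInv.Centralizer

/-!
# The centralizer in the first Conway group is generated by its monomial part and the sextet involution
-/

set_option autoImplicit false

namespace CfsgLib.CoOneAmalgam

open Cfsg CfsgLib.Mathieu CfsgLib.Leech CfsgLib.CoOneInv CfsgLib.CoOneOut
open CfsgLib.StdForms CfsgLib.Spinor CfsgLib.Transpositions

/-- What the monomial part and the sextet involution generate. -/
noncomputable def genC : Subgroup C1 :=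
  Subgroup.closure {c : C1 | (c : Spor.Co1) ∈ nOne ∨ (c : Spor.Co1) = xOne}

/-- Its elements in the automorphism group of the lattice. -/
noncomputable def genC0 : Subgroup C0 := genC.comap projCen

/-- The move lists used are single moves. -/
def isSingle : List Mv → Bool
  | [_] => true
  | _ => false

theorem elt_mem_genC0 {g : C0} {ms : List Mv} (h1 : isSingle ms = true) (h2 : movesOK ms = true)
    (hg : ∀ (l : List ℤ) (hl : vec l ∈ leechLattice),
      (((g : Co0) • (⟨vec l, hl⟩ : leechLattice) : leechLattice) : GolayPt → ℤ) = vec (runMoves ms l)) :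
    g ∈ genC0 := by
  match ms, h1 with
  | [m], _ =>
    simp only [movesOK, Bool.and_eq_true] at h2
    have hok : m.ok = true := by simpa using h2.1
    have e : (g : Co0) = moveElt [m] := co0_eq_of_eight fun p => Subtype.ext (by
      have hm : vec (unitL (idx p)) ∈ leechLattice := unitL_mem _ (idx_lt p)
      rw [show eightL p = ⟨_, hm⟩ from Subtype.ext (eight_eq_unitL p), hg, moveElt_spec (by simp [hok])])
    refine Subgroup.subset_closure ?_
    show (projCen g : Spor.Co1) ∈ nOne ∨ (projCen g : Spor.Co1) = xOne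
    have e' : (projCen g : Spor.Co1) = pElt [m] := by rw [projCen_apply, e]; rfl
    rw [e']
    cases m with
    | xi => exact Or.inr rfl
    | mono t c => exact Or.inl (pElt_mono_mem hok rfl)

theorem singles_ok : (seedList.all fun x => isSingle x.1) = true ∧
    (genList.all fun x => isSingle x.1) = true := by decide +kernel

/-- The vectors whose transvection times the base one is an image of the generated part. -/
def InPart (v : I8 → ZMod 2) : Prop :=
  ∃ (hu : Q8 u0 = 1) (hv : Q8 v = 1), tv Q8 u0 hu * tv Q8 v hv ∈ genC0.map phiQ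

theorem inPart_seed : ∀ x ∈ seedList, InPart x.2 := by
  have hchk : ∀ x ∈ seedList, movesOK x.1 = true ∧ Cfsg.quadFormPlus 4 (ZMod 2) x.2 = 1 ∧
      ∀ c, psi (vec (runMoves x.1 (bL c))) = tvFun u0 (tvFun x.2 (Pi.single c 1)) := by
    decide +kernel
  intro x hx
  obtain ⟨h1, h2, h3⟩ := hchk x hx
  obtain ⟨g, hg⟩ := exists_elt h1
  refine ⟨u0_quad, by rw [q8_apply, h2], g,
    elt_mem_genC0 (List.all_eq_true.1 singles_ok.1 x hx) h1 hg, mat_ext Q8 ?_⟩
  rw [phiQ_mat]
  refine Matrix.ext fun r c => ?_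
  have e1 := congrFun (phiMat_of_moves hg c) r
  rw [h3 c] at e1
  rw [e1, mat_mul]
  have e2 : (mat Q8 (tv Q8 u0 u0_quad) * mat Q8 (tv Q8 x.2 (by rw [q8_apply, h2]))).mulVec
      (Pi.single c 1) = tvFun u0 (tvFun x.2 (Pi.single c 1)) := by
    rw [← Matrix.mulVec_mulVec, tv_apply, tv_apply]
    simp only [tvFun, ← coe_plusQ]
  rw [← e2, Matrix.mulVec_single_one]
  rfl

theorem InPart.move {g : C0} (hgK : g ∈ genC0) {v : I8 → ZMod 2}
    (hgu : InPart ((phiMat g).mulVec u0)) (hv : InPart v) : InPart ((phiMat g).mulVec v) := by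
  obtain ⟨hu, hv, hm⟩ := hv
  obtain ⟨_, hgu', hm'⟩ := hgu
  have hgv : Q8 ((phiMat g).mulVec v) = 1 := by rw [← phiQ_mat, quad_mulVec, hv]
  refine ⟨hu, hgv, ?_⟩
  have e1 : phiQ g * tv Q8 u0 hu * (phiQ g)⁻¹ = tv Q8 ((phiMat g).mulVec u0) hgu' :=
    conj_reflIso Q8 (phiQ g) u0 _
  have e2 : phiQ g * tv Q8 v hv * (phiQ g)⁻¹ = tv Q8 ((phiMat g).mulVec v) hgv :=
    conj_reflIso Q8 (phiQ g) v _
  have e : tv Q8 u0 hu * tv Q8 ((phiMat g).mulVec v) hgv =
      (tv Q8 u0 hu * tv Q8 ((phiMat g).mulVec u0) hgu') *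
        (phiQ g * (tv Q8 u0 hu * tv Q8 v hv) * (phiQ g)⁻¹) := by
    rw [← conj_mul, e1, e2, mul_assoc, ← mul_assoc (tv Q8 ((phiMat g).mulVec u0) hgu'), tv_mul_self,
      one_mul]
  rw [e]
  exact mul_mem hm' (mul_mem (mul_mem (Subgroup.mem_map_of_mem _ hgK) hm)
    (inv_mem (Subgroup.mem_map_of_mem _ hgK)))

theorem growN_part : ∀ (gs : List (List Mv × List ℕ)) (L : List ℕ), (∀ x ∈ gs, x ∈ genList) →
    (∀ k ∈ L, k < 256 ∧ InPart (vecOf k)) → ∀ k ∈ growN gs L, InPart (vecOf k)
  | [], L, _, hL, k, hk => (hL k hk).2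
  | (ms, M) :: rest, L, hgs, hL, k, hk => by
    rw [growN] at hk
    split at hk
    · rename_i hc
      rw [List.contains_iff_mem] at hc
      obtain ⟨h1, h3, hlen⟩ := genList_spec (ms, M) (hgs _ List.mem_cons_self)
      obtain ⟨g, hg⟩ := exists_elt h1
      have hgK := elt_mem_genC0 (List.all_eq_true.1 singles_ok.2 _ (hgs _ List.mem_cons_self)) h1 hg
      have hap : ∀ n < 256, (phiMat g).mulVec (vecOf n) = vecOf (xorSel M n) := fun n hn => funext fun r => by
        rw [vecOf_xorSel M hlen]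
        show ∑ c, phiMat g r c * vecOf n c = _
        refine Finset.sum_congr rfl fun c _ => ?_
        rw [show phiMat g r c = psi (vec (runMoves ms (bL c))) r from congrFun (phiMat_of_moves hg c) r]
        rcases c with c | c
        · rw [(h3 c).1]; rfl
        · rw [(h3 c).2]; rfl
      have hlt : ∀ x ∈ genList, ∀ n : Fin 256, xorSel x.2 n < 256 := by decide +kernel
      refine growN_part rest _ (fun x hx => hgs x (List.mem_cons_of_mem _ hx)) ?_ k hk
      intro n hn
      rcases List.mem_append.1 hn with hn | hn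
      · exact hL n hn
      · obtain ⟨m, hm, rfl⟩ := List.mem_map.1 (List.mem_filter.1 hn).1
        obtain ⟨hm1, hm2⟩ := hL m hm
        refine ⟨hlt (ms, M) (hgs _ List.mem_cons_self) ⟨m, hm1⟩, ?_⟩
        rw [← hap m hm1]
        refine InPart.move hgK ?_ hm2
        rw [show u0 = vecOf 38 by decide +kernel, hap 38 (by norm_num)]
        exact (hL _ hc).2
    · exact (hL k hk).2

theorem inPart_all (v : I8 → ZMod 2) (hv : Q8 v = 1) : InPart v := by
  have h : ∀ v : I8 → ZMod 2, Cfsg.quadFormPlus 4 (ZMod 2) v = 1 →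
      v ∈ (growN genList [38, 46, 68]).map vecOf := by decide +kernel
  obtain ⟨k, hk, rfl⟩ := List.mem_map.1 (h v (by rw [← q8_apply]; exact hv))
  refine growN_part genList _ (fun x hx => hx) ?_ k hk
  have e : ∀ k ∈ [38, 46, 68], k < 256 ∧
      (vecOf k = u0 ∨ ∃ x ∈ seedList, vecOf k = x.2) := by decide +kernel
  intro n hn
  obtain ⟨h1, h2⟩ := e n hn
  refine ⟨h1, ?_⟩
  rcases h2 with h2 | ⟨x, hx, h2⟩ <;> rw [h2]
  exacts [⟨u0_quad, u0_quad, by rw [tv_mul_self]; exact one_mem _⟩, inPart_seed x hx]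

theorem genC0_eq_top : genC0 = ⊤ := by
  have hmap : phiQ.range ≤ genC0.map phiQ := by
    rw [range_phiQ]
    refine omega_le_pairs_plusFour.trans ((Subgroup.closure_le _).2 ?_)
    rintro _ ⟨u, v, hu, hv, rfl⟩
    obtain ⟨h0, hu', hmu⟩ := inPart_all u hu
    obtain ⟨_, hv', hmv⟩ := inPart_all v hv
    have e : tv Q8 u hu * tv Q8 v hv =
        (tv Q8 u0 h0 * tv Q8 u hu')⁻¹ * (tv Q8 u0 h0 * tv Q8 v hv') := by
      rw [_root_.mul_inv_rev, tv_inv, tv_inv, mul_assoc, ← mul_assoc (tv Q8 u0 h0), tv_mul_self, one_mul]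
    rw [e]
    exact mul_mem (inv_mem hmu) hmv
  have hfix : ∀ k : C0, (k : Co0) ∈ fixK → k ∈ genC0 := by
    intro k hk
    obtain ⟨x, hx⟩ := exists_kElt hk
    refine Subgroup.subset_closure (Or.inl ?_)
    rw [projCen_apply, hx]
    exact ⟨_, monoCo0_mem_monoGroup _ _ _ _, rfl⟩
  have hneg : negC ∈ genC0 := by
    show projCen negC ∈ genC
    rw [show projCen negC = 1 from Subtype.ext (by rw [projCen_apply]; exact projC_negCo0)]
    exact one_mem _
  refine (Subgroup.eq_top_iff' _).2 fun g => ?_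
  obtain ⟨k, hk, e⟩ := hmap ⟨g, rfl⟩
  have hker : phiQ (k⁻¹ * g) = 1 := by rw [map_mul, map_inv, e, inv_mul_cancel]
  have hmem : k⁻¹ * g ∈ genC0 := by
    rcases ker_phiQ (k⁻¹ * g) hker with h | h
    · exact hfix _ h
    · have := mul_mem (inv_mem hneg) (hfix (negC * (k⁻¹ * g)) h)
      rwa [inv_mul_cancel_left] at this
  have := mul_mem hk hmem
  rwa [mul_inv_cancel_left] at this

theorem genC_eq_top : genC = ⊤ := by
  refine (Subgroup.eq_top_iff' _).2 fun c => ?_
  obtain ⟨g, rfl⟩ := projCen_surjective c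
  exact (genC0_eq_top ▸ Subgroup.mem_top g : g ∈ genC0)

end CfsgLib.CoOneAmalgam
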