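import Cfsg.Agent.CoOneAmalgam.Steps1

/-!
# Validity of rewriting certificates
-/

set_option autoImplicit false

namespace CfsgLib.CoOneAmalgam

open CfsgLib.Leech

theorem close2_98_ok : closeOK 2 close2_98 = true := by decide +kernel

theorem close3_0_ok : closeOK 3 close3_0 = true := by decide +kernel

theorem close3_1_ok : closeOK 3 close3_1 = true := by decide +kernel

theorem close3_2_ok : closeOK 3 close3_2 = true := by decide +kernel

theorem close3_5_ok : closeOK 3 close3_5 = true := by decide +kernel

theorem close3_8_ok : closeOK 3 close3_8 = true := by decide +kernel

theorem close3_9_ok : closeOK 3 close3_9 = true := by decide +kernel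

theorem close3_28_ok : closeOK 3 close3_28 = true := by decide +kernel

end CfsgLib.CoOneAmalgam
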