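import Cfsg.Agent.CoOneAmalgam.Steps3

/-!
# Validity of rewriting certificates
-/

set_option autoImplicit false

namespace CfsgLib.CoOneAmalgam

open CfsgLib.Leech

theorem close4_148_ok : closeOK 4 close4_148 = true := by decide +kernel

theorem close4_175_ok : closeOK 4 close4_175 = true := by decide +kernel

theorem close5_0_ok : closeOK 5 close5_0 = true := by decide +kernel

theorem close5_1_ok : closeOK 5 close5_1 = true := by decide +kernel

end CfsgLib.CoOneAmalgam
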