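import Cfsg.Agent.CoOneAmalgam.Steps4

/-!
# Validity of rewriting certificates
-/

set_option autoImplicit false

namespace CfsgLib.CoOneAmalgam

open CfsgLib.Leech

theorem close5_2_ok : closeOK 5 close5_2 = true := by decide +kernel

theorem close5_3_ok : closeOK 5 close5_3 = true := by decide +kernel

end CfsgLib.CoOneAmalgam
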