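import Cfsg.Agent.CoOneAmalgam.StepsOK0
import Cfsg.Agent.CoOneAmalgam.StepsOK1
import Cfsg.Agent.CoOneAmalgam.StepsOK2
import Cfsg.Agent.CoOneAmalgam.StepsOK3
import Cfsg.Agent.CoOneAmalgam.StepsOK4

/-!
# The lists of relations
-/

set_option autoImplicit false

namespace CfsgLib.CoOneAmalgam

open CfsgLib.Leech

/-- The relations. -/
def stabs1 : List Stab :=
  [stab1_0, stab1_1]

theorem stabs1_ok : ∀ x ∈ stabs1, stabOK 1 x = true := by
  simp [stabs1, stab1_0_ok, stab1_1_ok]

/-- The relations. -/
def stabs2 : List Stab :=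
  [stab2_0, stab2_1]

theorem stabs2_ok : ∀ x ∈ stabs2, stabOK 2 x = true := by
  simp [stabs2, stab2_0_ok, stab2_1_ok]

/-- The relations. -/
def stabs3 : List Stab :=
  [stab3_0, stab3_1]

theorem stabs3_ok : ∀ x ∈ stabs3, stabOK 3 x = true := by
  simp [stabs3, stab3_0_ok, stab3_1_ok]

/-- The relations. -/
def stabs4 : List Stab :=
  [stab4_0, stab4_1]

theorem stabs4_ok : ∀ x ∈ stabs4, stabOK 4 x = true := by
  simp [stabs4, stab4_0_ok, stab4_1_ok]

/-- The relations. -/
def stabs5 : List Stab :=
  [stab5_0, stab5_1]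

theorem stabs5_ok : ∀ x ∈ stabs5, stabOK 5 x = true := by
  simp [stabs5, stab5_0_ok, stab5_1_ok]

/-- The relations. -/
def closes1 : List Close :=
  [close1_0, close1_1, close1_2, close1_5, close1_229]

theorem closes1_ok : ∀ x ∈ closes1, closeOK 1 x = true := by
  simp [closes1, close1_0_ok, close1_1_ok, close1_2_ok, close1_5_ok, close1_229_ok]

/-- The relations. -/
def closes2 : List Close :=
  [close2_0, close2_1, close2_2, close2_98]

theorem closes2_ok : ∀ x ∈ closes2, closeOK 2 x = true := by
  simp [closes2, close2_0_ok, close2_1_ok, close2_2_ok, close2_98_ok]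

/-- The relations. -/
def closes3 : List Close :=
  [close3_0, close3_1, close3_2, close3_5, close3_8, close3_9, close3_28, close3_229]

theorem closes3_ok : ∀ x ∈ closes3, closeOK 3 x = true := by
  simp [closes3, close3_0_ok, close3_1_ok, close3_2_ok, close3_5_ok, close3_8_ok, close3_9_ok, close3_28_ok, close3_229_ok]

/-- The relations. -/
def closes4 : List Close :=
  [close4_0, close4_1, close4_2, close4_7, close4_148, close4_175]

theorem closes4_ok : ∀ x ∈ closes4, closeOK 4 x = true := by
  simp [closes4, close4_0_ok, close4_1_ok, close4_2_ok, close4_7_ok, close4_148_ok, close4_175_ok]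

/-- The relations. -/
def closes5 : List Close :=
  [close5_0, close5_1, close5_2, close5_3]

theorem closes5_ok : ∀ x ∈ closes5, closeOK 5 x = true := by
  simp [closes5, close5_0_ok, close5_1_ok, close5_2_ok, close5_3_ok]

end CfsgLib.CoOneAmalgam
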