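import Cfsg.Agent.CoOneAmalgam.CertBase
import Cfsg.Agent.CoOneAmalgam.Nodes

/-!
# Certified relations between words in the amalgam
-/

set_option autoImplicit false

namespace CfsgLib.CoOneAmalgam

open Cfsg CfsgLib.Leech CfsgLib.CoOneOut

/-- A representative, as a word. -/
def gW (i : ℕ) : List Mv := (gP i).map Prod.fst

/-- A relation `g s2 = s g`, with steps. -/
structure Stab where
  /-- the left letter -/
  s : Mv
  /-- its inverse -/
  si : Mv
  /-- the right letter -/
  s2 : Mv
  /-- the steps -/
  steps : List Step

/-- A relation `g y ξ = n g' n2`, with steps. -/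
structure Close where
  /-- the node -/
  node : ℕ
  /-- the orbit reached -/
  target : ℕ
  /-- the left letter -/
  n : Mv
  /-- its inverse -/
  ni : Mv
  /-- the right letter -/
  n2 : Mv
  /-- its inverse -/
  n2i : Mv
  /-- the steps -/
  steps : List Step

/-- Letters paired with their inverses. -/
def invOK (v : List (Mv × Mv)) : Bool :=
  v.all fun x => x.1.ok && x.2.ok && (isMono x.1 == isMono x.2) && sameVal [x.1, x.2] []

/-- The word inverse to the first components. -/
def invPart (v : List (Mv × Mv)) : List Mv := (v.map Prod.snd).reverse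

/-- The word `u` rewrites to the word of first components of `v`. -/
def relOK (u : List Mv) (v : List (Mv × Mv)) (ss : List Step) : Bool :=
  invOK v && closesOK (u ++ invPart v) ss

/-- The check of a stabilizer relation. -/
def stabOK (i : ℕ) (x : Stab) : Bool :=
  isMono x.s && isMono x.s2 && relOK (gW i ++ [x.s2]) ((x.s, x.si) :: gP i) x.steps

/-- The check of a closing relation. -/
def closeOK (i : ℕ) (x : Close) : Bool :=
  isMono x.n && isMono x.n2 && isMono (node x.node) && Nat.blt x.node numNodes &&
    Nat.blt x.target 6 &&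
    relOK (gW i ++ [node x.node, Mv.xi]) ((x.n, x.ni) :: (gP x.target ++ [(x.n2, x.n2i)])) x.steps

variable {G : Type*} [Group G] (A : AmalgamMap G)

theorem imgL_nil : imgL A [] = 1 := rfl

theorem imgL_single (m : Mv) : imgL A [m] = img A m := by simp [imgL]

theorem invOK_sound : ∀ {v : List (Mv × Mv)}, invOK v = true →
    (v.map Prod.fst).all Mv.ok = true ∧ (invPart v).all Mv.ok = true ∧
      pElt (v.map Prod.fst) * pElt (invPart v) = 1 ∧
      imgL A (v.map Prod.fst) * imgL A (invPart v) = 1
  | [], _ => ⟨rfl, rfl, by simp [invPart, pElt_nil], by simp [invPart, imgL_nil]⟩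
  | (m, mi) :: v, h => by
    rw [invOK, List.all_cons, Bool.and_eq_true] at h
    simp only [Bool.and_eq_true, beq_iff_eq] at h
    obtain ⟨⟨⟨⟨hm, hmi⟩, hk⟩, hv⟩, hrest⟩ := h
    obtain ⟨h1, h2, ep, ei⟩ := invOK_sound (v := v) hrest
    have e : pElt [m] * pElt [mi] = 1 := by
      rw [← pElt_append (by simp [hm]) (by simp [hmi]), ← pElt_nil]
      exact pElt_eq (by simp [hm, hmi]) rfl hv
    have e' : img A m * img A mi = 1 := by
      cases m with
      | xi =>
        cases mi with
        | xi =>
          rw [img_xi, ← map_mul, ← map_one A.toC]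
          exact congrArg A.toC (Subtype.ext xOne_mul_self)
        | mono t c => simp [isMono] at hk
      | mono t c =>
        cases mi with
        | xi => simp [isMono] at hk
        | mono t' c' =>
          rw [img_mono A hm rfl, img_mono A hmi rfl, ← map_mul, ← map_one A.toN]
          exact congrArg A.toN (Subtype.ext e)
    have hi : invPart ((m, mi) :: v) = invPart v ++ [mi] := by simp [invPart]
    refine ⟨by simp [List.all_cons, hm, h1], by rw [hi, List.all_append, h2]; simp [hmi], ?_, ?_⟩
    · rw [hi, List.map_cons, pElt_cons hm h1, pElt_append h2 (by simp [hmi]), mul_assoc,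
        ← mul_assoc (pElt (v.map Prod.fst)), ep, one_mul, e]
    · rw [hi, List.map_cons, imgL_append, imgL_single,
        show imgL A (m :: v.map Prod.fst) = img A m * imgL A (v.map Prod.fst) from List.prod_cons,
        mul_assoc, ← mul_assoc (imgL A (v.map Prod.fst)), ei, one_mul, e']

theorem relOK_sound {u : List Mv} {v : List (Mv × Mv)} {ss : List Step} (h : relOK u v ss = true) :
    u.all Mv.ok = true ∧ (v.map Prod.fst).all Mv.ok = true ∧
      pElt u = pElt (v.map Prod.fst) ∧ imgL A u = imgL A (v.map Prod.fst) := by
  rw [relOK, Bool.and_eq_true] at h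
  obtain ⟨hv, hc⟩ := h
  obtain ⟨h1, h2, ep, ei⟩ := invOK_sound A hv
  obtain ⟨hw, ep', ei'⟩ := closesOK_sound A hc
  rw [List.all_append, Bool.and_eq_true] at hw
  rw [pElt_append hw.1 h2] at ep'
  rw [imgL_append] at ei'
  exact ⟨hw.1, h1, mul_right_cancel (ep'.trans ep.symm), mul_right_cancel (ei'.trans ei.symm)⟩

end CfsgLib.CoOneAmalgam
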