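import Cfsg.Agent.CoOneAmalgam.Defs
import Cfsg.Agent.CoZeroInvol.Invol
import Cfsg.Agent.Leech.Co1
import Cfsg.Agent.MTwentyFourUnique.EndgameRep
import Mathlib.GroupTheory.SemidirectProduct

/-!
# The monomial group of the first Conway group as a semidirect product
-/

set_option autoImplicit false

namespace CfsgLib.CoOneAmalgam

open Cfsg CfsgLib.Mathieu CfsgLib.Leech CfsgLib.CoOneInv CfsgLib.M23Ext
open CfsgLib.MTwentyThreeUnique.Gl11 CfsgLib.MTwentyFourUnique.Gl11 Matrix
open scoped symmDiff

/-- The action of M24 on the code modulo the all-one word, multiplicatively. -/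
def codeAut : M24 →* MulAut (Multiplicative V) where
  toFun σ := AddEquiv.toMultiplicative
    { toFun := fun v => repM24 σ *ᵥ v
      invFun := fun v => repM24 σ⁻¹ *ᵥ v
      left_inv := fun v => by
        simp only [Matrix.mulVec_mulVec, ← map_mul, inv_mul_cancel, map_one, Matrix.one_mulVec]
      right_inv := fun v => by
        simp only [Matrix.mulVec_mulVec, ← map_mul, mul_inv_cancel, map_one, Matrix.one_mulVec]
      map_add' := fun u v => Matrix.mulVec_add _ u v }
  map_one' := MulEquiv.ext fun v => by
    show Multiplicative.ofAdd (repM24 1 *ᵥ v.toAdd) = v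
    rw [map_one, Matrix.one_mulVec, ofAdd_toAdd]
  map_mul' σ τ := MulEquiv.ext fun v => by
    show Multiplicative.ofAdd (repM24 (σ * τ) *ᵥ v.toAdd) =
      Multiplicative.ofAdd (repM24 σ *ᵥ (repM24 τ *ᵥ v.toAdd))
    rw [map_mul, Matrix.mulVec_mulVec]

theorem codeAut_apply (σ : M24) (v : V) :
    codeAut σ (Multiplicative.ofAdd v) = Multiplicative.ofAdd (repM24 σ *ᵥ v) := rfl

/-- The abstract group `2 ^ 11 : M24`. -/
abbrev N24 := Multiplicative V ⋊[codeAut] M24

theorem card_V : Nat.card (Multiplicative V) = 2048 := by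
  rw [Nat.card_congr Multiplicative.toAdd, Nat.card_fun, Nat.card_zmod, Nat.card_eq_fintype_card,
    Fintype.card_fin]
  norm_num

theorem card_N24 : Nat.card N24 = 2048 * 244823040 := by
  rw [SemidirectProduct.card, card_V, card_M24]

theorem supp_add (u w : Word) : support₂ (u + w) = support₂ u ∆ support₂ w := by
  ext p
  simp only [support₂, Finset.mem_filter, Finset.mem_univ, true_and, Finset.mem_symmDiff, Pi.add_apply]
  generalize u p = a
  generalize w p = b
  revert a b
  decide

theorem supp_mem {w : Word} (hw : w ∈ golayCode) :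
    support₂ w ∈ supports (golayCode : Set (GolayPt → ZMod 2)) := ⟨w, hw, rfl⟩

/-- The sign change of a code word. -/
def signW (w : golayCode) : Co0 := monoCo0 1 (one_mem _) (support₂ (w : Word)) (supp_mem w.2)

theorem signW_mul (u w : golayCode) : signW (u + w) = signW u * signW w := by
  rw [signW, signW, signW, monoCo0_mul]
  refine monoCo0_congr (mul_one 1).symm ?_
  rw [inv_one, Submodule.coe_add, supp_add]
  simp

/-- The image in the first Conway group. -/
noncomputable def signC (w : Word) (hw : w ∈ golayCode) : Spor.Co1 := projC (signW ⟨w, hw⟩)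

theorem signC_add {u w : Word} (hu : u ∈ golayCode) (hw : w ∈ golayCode) :
    signC (u + w) (add_mem hu hw) = signC u hu * signC w hw := by
  rw [signC, signC, signC, ← map_mul, ← signW_mul]
  rfl

theorem signC_congr {u w : Word} (e : u = w) {hu : u ∈ golayCode} {hw : w ∈ golayCode} :
    signC u hu = signC w hw := by subst e; rfl

theorem supp_oneW : support₂ oneW = Finset.univ := by
  ext p; simp [support₂, oneW]

theorem signC_oneW : signC oneW oneW_mem = 1 := by
  rw [← projC_negCo0, signC]
  exact congrArg projC (monoCo0_congr rfl supp_oneW)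

theorem signC_zero : signC 0 (zero_mem _) = 1 := by
  have := signC_add (zero_mem golayCode) (zero_mem golayCode)
  rw [signC_congr (add_zero (0 : Word)) (hw := zero_mem _)] at this
  exact mul_eq_left.1 this.symm

theorem signC_fixW {w : Word} (hw : w ∈ golayCode) :
    signC (fixW w) (fixW_short hw).1 = signC w hw := by
  rcases (by decide : ∀ a : ZMod 2, a = 0 ∨ a = 1) (w none) with h | h
  · refine signC_congr ?_
    rw [fixW_eq, h, zero_smul, add_zero]
  · rw [signC_congr (show fixW w = w + oneW by rw [fixW_eq, h, one_smul]) (hw := add_mem hw oneW_mem),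
      signC_add hw oneW_mem, signC_oneW, mul_one]

/-- The sign changes as a map from the code modulo the all-one word. -/
noncomputable def signHom : Multiplicative V →* Spor.Co1 where
  toFun v := signC (cw v.toAdd) (cw_mem _).1
  map_one' := (signC_congr (by simp)).trans signC_zero
  map_mul' u v := (signC_congr (by simp)).trans (signC_add (cw_mem u.toAdd).1 (cw_mem v.toAdd).1)

theorem perm_sign (σ : M24) {w : Word} (hw : w ∈ golayCode) :
    projC (permHom σ) * signC w hw * (projC (permHom σ))⁻¹ =
      signC (moveW (σ : Equiv.Perm GolayPt) w) (moveW_code σ.2 hw) := by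
  rw [mul_inv_eq_iff_eq_mul, signC, signC, ← map_mul, ← map_mul]
  congr 1
  simp only [permHom, signW, MonoidHom.coe_mk, OneHom.coe_mk]
  rw [monoCo0_mul, monoCo0_mul]
  refine monoCo0_congr ?_ ?_
  · rw [one_mul, mul_one]
  · rw [inv_inv, inv_one, support₂_moveW]
    simp [empty_symmDiff', symmDiff_empty']

/-- The map onto the monomial group. -/
noncomputable def nHom : N24 →* Spor.Co1 :=
  SemidirectProduct.lift signHom (projC.comp permHom) fun σ => MonoidHom.ext fun v => by
    show signC (cw (repM24 σ *ᵥ v.toAdd)) _ =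
      projC (permHom σ) * signC (cw v.toAdd) _ * (projC (permHom σ))⁻¹
    rw [perm_sign σ (cw_mem v.toAdd).1, ← signC_fixW (moveW_code σ.2 (cw_mem v.toAdd).1)]
    refine signC_congr ?_
    rw [← cw_act24]
    exact congrArg cw (LinearMap.toMatrix'_mulVec _ _)

theorem nHom_apply (x : N24) :
    nHom x = projC (monoCo0 ((x.right : M24) : Equiv.Perm GolayPt)⁻¹ (inv_mem x.right.2)
      (support₂ (cw x.left.toAdd)) (supp_mem (cw_mem _).1)) := by
  rw [nHom, SemidirectProduct.lift]
  show signC (cw x.left.toAdd) _ * projC (permHom x.right) = _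
  rw [signC, ← map_mul]
  congr 1
  simp only [permHom, signW, MonoidHom.coe_mk, OneHom.coe_mk]
  rw [monoCo0_mul]
  exact monoCo0_congr (mul_one _) (by simp [symmDiff_empty'])

theorem nHom_injective : Function.Injective nHom := by
  refine (injective_iff_map_eq_one _).2 fun x hx => ?_
  rw [nHom_apply, ← map_one projC] at hx
  set c := support₂ (cw x.left.toAdd) with hc
  have hnone : none ∉ c := by
    rw [hc]; simp [support₂, show cw x.left.toAdd none = 0 from (cw_mem _).2]
  have key : c = ∅ ∧ ((x.right : M24) : Equiv.Perm GolayPt)⁻¹ = 1 := by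
    rcases projC_eq_cases hx with e | e
    · have e1 : monoCo0 1 (one_mem _) ∅ empty_mem_supports = (1 : Co0) := co0_ext fun v => Subtype.ext (by
        rw [monoCo0_smul, one_smul]; funext p; simp [monoFun])
      have h := @monoOf_injective (⟨_, inv_mem x.right.2⟩, ⟨c, supp_mem (cw_mem _).1⟩)
        (⟨1, one_mem _⟩, ⟨∅, empty_mem_supports⟩) (e.symm.trans e1.symm)
      simp only [Prod.mk.injEq, Subtype.mk.injEq] at h
      exact ⟨h.2, h.1⟩
    · exfalso
      have e2 : monoCo0 ((x.right : M24) : Equiv.Perm GolayPt)⁻¹ (inv_mem x.right.2) c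
          (supp_mem (cw_mem _).1) = negCo0 := by
        have : negCo0 * negCo0 = 1 := negCo0_sq
        calc _ = negCo0 * negCo0 * monoCo0 _ _ c _ := by rw [this, one_mul]
          _ = negCo0 := by rw [mul_assoc, ← e, mul_one]
      have h := @monoOf_injective (⟨_, inv_mem x.right.2⟩, ⟨c, supp_mem (cw_mem _).1⟩)
        (⟨1, one_mem _⟩, ⟨Finset.univ, univ_mem_supports⟩) e2
      simp only [Prod.mk.injEq, Subtype.mk.injEq] at h
      exact hnone (h.2 ▸ Finset.mem_univ none)
  refine SemidirectProduct.ext ?_ (Subtype.ext (inv_eq_one.1 key.2))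
  have hw : cw x.left.toAdd = 0 := support₂_injective (key.1.trans (by simp [support₂]))
  have := congrArg coords hw
  rw [coords_cw, map_zero] at this
  exact toAdd_eq_zero.1 this

theorem nHom_inl_range : signHom.range = aOne := by
  refine le_antisymm ?_ ?_
  · rintro _ ⟨v, rfl⟩
    exact ⟨_, Subgroup.subset_closure ⟨_, supp_mem (cw_mem v.toAdd).1, rfl⟩, rfl⟩
  · rw [aOne, Subgroup.map_le_iff_le_comap, Subgroup.closure_le]
    rintro _ ⟨c, hc, rfl⟩
    obtain ⟨w, hw, rfl⟩ := hc
    refine ⟨Multiplicative.ofAdd (coords (fixW w)), ?_⟩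
    show signC (cw (coords (fixW w))) _ = projC (signW ⟨w, hw⟩)
    exact (signC_congr (cw_coords (fixW_short hw))).trans (signC_fixW hw)

theorem nHom_range : nHom.range = nOne := by
  refine le_antisymm ?_ ?_
  · rintro _ ⟨x, rfl⟩
    rw [nHom_apply]
    exact ⟨_, monoCo0_mem_monoGroup _ _ _ _, rfl⟩
  · rw [nOne, Subgroup.map_le_iff_le_comap, monoGroup, Subgroup.closure_le]
    rintro _ ⟨τ, hτ, c, hc, rfl⟩
    obtain ⟨w, hw, rfl⟩ := hc
    refine ⟨SemidirectProduct.inl (Multiplicative.ofAdd (coords (fixW w))) *
      SemidirectProduct.inr (⟨τ⁻¹, inv_mem hτ⟩ : M24), ?_⟩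
    rw [map_mul, nHom, SemidirectProduct.lift_inl, SemidirectProduct.lift_inr]
    show signC (cw (coords (fixW w))) _ * projC (permHom _) = _
    rw [(signC_congr (cw_coords (fixW_short hw))).trans (signC_fixW hw), signC, ← map_mul]
    congr 1
    simp only [permHom, signW, MonoidHom.coe_mk, OneHom.coe_mk]
    rw [monoCo0_mul]
    exact monoCo0_congr (by simp) (by simp [symmDiff_empty'])

/-- The monomial group is `2 ^ 11 : M24`. -/
noncomputable def nEquiv : N24 ≃* nOne :=
  (MonoidHom.ofInjective nHom_injective).trans (MulEquiv.subgroupCongr nHom_range)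

theorem nEquiv_apply (x : N24) : (nEquiv x : Spor.Co1) = nHom x := rfl

theorem octad_coords : (shortMask 2000 == CoOneInv.offMask) = true ∧ (CoOneInv.offMask == 16777215 ^^^ m24BaseOctad) = true ∧
    CoOneInv.offMask.testBit 23 = false := by decide +kernel

theorem cw_vecOf {a : ℕ} (ha : a < 2048) : cw (vecOf a) = wordOf (shortMask a) := by
  rw [← cw_coords (shortMask_code a)]
  congr 1
  funext i
  rw [coords_apply]
  show vecOf a i = if (shortMask a).testBit (idx (pt i.val)) then 1 else 0
  rw [idx_pt (by omega), shortMask_testBit ha i.isLt]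
  rfl

theorem nHom_octad : nHom (SemidirectProduct.inl (Multiplicative.ofAdd (vecOf 2000))) = zOne := by
  rw [nHom, SemidirectProduct.lift_inl, ← projC_wElt, wElt_eq_neg_mul]
  show signC (cw (vecOf 2000)) _ = _
  rw [signC_congr (cw_vecOf (by norm_num)) (hw := (shortMask_code 2000).1), signC]
  congr 1
  show monoCo0 _ _ _ _ = monoCo0 1 (one_mem _) Finset.univ _ * monoCo0 1 (one_mem _) octO octO_supports
  erw [monoCo0_mul]
  refine monoCo0_congr (mul_one 1).symm ?_
  rw [inv_one]
  erw [support₂_wordOf]
  rw [beq_iff_eq.1 octad_coords.1, beq_iff_eq.1 octad_coords.2.1, setOf24_xor]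
  have : setOf24 16777215 = Finset.univ := by decide +kernel
  rw [this]
  simp [octO]

theorem zOne_mem_nOne : zOne ∈ nOne := nHom_range ▸ ⟨_, nHom_octad⟩

end CfsgLib.CoOneAmalgam
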