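import Cfsg.Agent.CoOneAmalgam.CertBase
import Cfsg.Agent.CoOneAmalgam.NModel
import Cfsg.Agent.Mathieu.M24Order

/-!
# Four elements generate the monomial group
-/

set_option autoImplicit false

namespace CfsgLib.CoOneAmalgam

open Cfsg CfsgLib.Mathieu CfsgLib.Leech CfsgLib.CoOneInv CfsgLib.CoOneOut
open scoped symmDiff

/-- A generator, by number. -/
def genAt (k : ℕ) : Mv := genMvs.getD k zMv

theorem genMvs_ok : genMvs.all (fun m => m.ok && isMono m) = true := by decide +kernel

theorem genMvs_spec {s : Mv} (h : s ∈ genMvs) : s.ok = true ∧ isMono s = true := by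
  simpa using List.all_eq_true.1 genMvs_ok s h

/-- The generated subgroup. -/
noncomputable def genK : Subgroup Spor.Co1 := Subgroup.closure {g | ∃ s ∈ genMvs, pElt [s] = g}

theorem genAt_mem (k : Fin 4) : pElt [genAt k] ∈ genK := by
  refine Subgroup.subset_closure ⟨_, ?_, rfl⟩
  have h : (k : ℕ) < genMvs.length := lt_of_lt_of_eq k.2 (by decide +kernel : 4 = genMvs.length)
  rw [genAt, List.getD_eq_getElem _ _ h]
  exact List.getElem_mem h

/-- Checks a table against a function. -/
def isTable (m : Mv) (f : GolayPt → GolayPt) : Bool :=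
  match m with
  | .mono t c => tableOK f t && Nat.beq c 0
  | .xi => false

theorem pElt_table {m : Mv} (hm : m.ok = true) {σ : Equiv.Perm GolayPt} {f : GolayPt → GolayPt}
    (hf : ∀ p, σ p = f p) (hσ : σ ∈ M24) (h : isTable m f = true) :
    pElt [m] = projC (permHom (⟨σ, hσ⟩ : M24)⁻¹) := by
  cases m with
  | xi => simp [isTable] at h
  | mono t c =>
    simp only [isTable, Bool.and_eq_true] at h
    obtain rfl : c = 0 := Nat.eq_of_beq_eq_true h.2
    rw [pElt, List.reverse_singleton, coElt,
      moveElt_mono hm hσ (rep_of_tableOK f hf h.1) empty_mem_supports setOf24_zero]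
    simp only [permHom, MonoidHom.coe_mk, OneHom.coe_mk]
    exact congrArg projC (monoCo0_congr (inv_inv σ).symm rfl)

theorem gen_tables : isTable (genAt 0) shiftOne = true ∧ isTable (genAt 1) projInvFun = true ∧
    isTable (genAt 2) cubeTwistFun = true := by
  decide +kernel

theorem perm_mem_genK (σ : M24) : projC (permHom σ) ∈ genK := by
  have hK : ((genK.comap (projC.comp permHom)).map M24.subtype) = M24 := by
    refine le_antisymm (Subgroup.map_subtype_le _) (m24Gen_eq.ge.trans ((Subgroup.closure_le _).2 ?_))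
    have key : ∀ {m : Mv} {σ : Equiv.Perm GolayPt} {f : GolayPt → GolayPt}, m.ok = true →
        pElt [m] ∈ genK → (∀ p, σ p = f p) → (hσ : σ ∈ M24) → isTable m f = true →
        σ ∈ (genK.comap (projC.comp permHom)).map M24.subtype := by
      intro m σ f hm hmem hf hσ ht
      refine ⟨⟨σ, hσ⟩, ?_, rfl⟩
      have := inv_mem (pElt_table hm hf hσ ht ▸ hmem)
      rwa [← map_inv, ← map_inv, inv_inv] at this
    have hok : ∀ k : Fin 4, (genAt k).ok = true := by decide +kernel
    intro σ hσ
    simp only [Set.mem_insert_iff, Set.mem_singleton_iff] at hσ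
    rcases hσ with rfl | rfl | rfl
    · exact key (hok 0) (genAt_mem 0) (fun _ => rfl) shiftOne_mem_M24 gen_tables.1
    · exact key (hok 1) (genAt_mem 1) (fun _ => rfl) projInv_mem_M24 gen_tables.2.1
    · exact key (hok 2) (genAt_mem 2) (fun p => Equiv.ofBijective_apply (f := cubeTwistFun) _ p)
        cubeTwist_mem_M24 gen_tables.2.2
  obtain ⟨σ', h', e⟩ := hK.ge σ.2
  obtain rfl : σ' = σ := Subtype.ext e
  exact h'

/-- The letters of a word in the generators. -/
def genWord (ks : List ℕ) : List Mv := ks.map genAt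

/-- A word taking the base octad to an octad. -/
def octOK (x : ℕ × List ℕ) : Bool :=
  isCode x.1 && x.2.all (fun k => Nat.blt k 4) && (Mv.mono idTab x.1).ok &&
    sameVal (genWord x.2 ++ [genAt 3]) (Mv.mono idTab x.1 :: genWord x.2)

theorem octWords_ok : octWords.all octOK = true := by decide +kernel

theorem genWord_spec : ∀ {ks : List ℕ}, (∀ k ∈ ks, k < 4) →
    (genWord ks).all Mv.ok = true ∧ pElt (genWord ks) ∈ genK
  | [], _ => ⟨rfl, by rw [genWord, List.map_nil, pElt_nil]; exact one_mem _⟩
  | k :: ks, h => by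
    obtain ⟨h1, h2⟩ := genWord_spec (ks := ks) fun j hj => h j (List.mem_cons_of_mem _ hj)
    have hk := h k List.mem_cons_self
    have hok : (genAt k).ok = true :=
      (by decide +kernel : ∀ k : Fin 4, (genAt k).ok = true) ⟨k, hk⟩
    refine ⟨by simp [genWord, hok] at h1 ⊢; exact h1, ?_⟩
    rw [genWord, List.map_cons, ← genWord, pElt_cons hok h1]
    exact mul_mem (genAt_mem ⟨k, hk⟩) h2

theorem oct_mem_genK {x : ℕ × List ℕ} (hx : x ∈ octWords) :
    isCode x.1 = true ∧ pElt [Mv.mono idTab x.1] ∈ genK := by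
  have h := List.all_eq_true.1 octWords_ok x hx
  simp only [octOK, Bool.and_eq_true, List.all_eq_true, Nat.blt_eq] at h
  obtain ⟨⟨⟨hc, hlt⟩, hok⟩, hs⟩ := h
  obtain ⟨hw, hmem⟩ := genWord_spec hlt
  have h3 : (genAt 3).ok = true := by decide +kernel
  have e := pElt_eq (u := genWord x.2 ++ [genAt 3]) (v := Mv.mono idTab x.1 :: genWord x.2)
    (by simp [hw, h3]) (by simp [hw, hok]) hs
  rw [pElt_append hw (by simp [h3]), pElt_cons hok hw] at e
  refine ⟨hc, ?_⟩
  rw [← mul_inv_cancel_right (pElt [Mv.mono idTab x.1]) (pElt (genWord x.2)), ← e]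
  exact mul_mem (mul_mem hmem (genAt_mem 3)) (inv_mem hmem)

theorem idMono_ok {m : ℕ} (h : isCode m = true) : (Mv.mono idTab m).ok = true := by
  have : tableValid idTab = true ∧ preservesCode idTab = true := by decide +kernel
  simp [Mv.ok, this.1, this.2, h]

theorem pElt_idMono {m : ℕ} (h : isCode m = true) :
    pElt [Mv.mono idTab m] = projC (monoCo0 1 (one_mem _) (setOf24 m) (setOf24_mem_supports h)) := by
  rw [pElt, List.reverse_singleton, coElt, moveElt_mono (idMono_ok h) (one_mem _) rep_idTab
    (setOf24_mem_supports h) rfl]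

theorem rows_ok : rowOcts.map (fun l => l.foldr (fun i acc => (octWords.getD i (0, [])).1 ^^^ acc) 0) =
    codeRows := by
  decide +kernel

theorem sign_mem_genK {m : ℕ} (hm : isCode m = true) : pElt [Mv.mono idTab m] ∈ genK := by
  let S : ℕ → Prop := fun m => isCode m = true ∧ pElt [Mv.mono idTab m] ∈ genK
  have h0 : S 0 := by
    refine ⟨isCode_zero, ?_⟩
    rw [pElt_eq (u := [Mv.mono idTab 0]) (v := []) (by simp [idMono_ok isCode_zero]) rfl (by decide +kernel),
      pElt_nil]
    exact one_mem _
  have hx : ∀ a b, S a → S b → S (a ^^^ b) := by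
    rintro a b ⟨ha, ha'⟩ ⟨hb, hb'⟩
    refine ⟨isCode_xor ha hb, ?_⟩
    have := mul_mem ha' hb'
    rw [pElt_idMono ha, pElt_idMono hb, ← map_mul, monoCo0_mul] at this
    rw [pElt_idMono (isCode_xor ha hb)]
    convert this using 2
    exact monoCo0_congr (mul_one 1).symm (by rw [setOf24_xor, inv_one, Equiv.Perm.coe_one, Finset.image_id])
  have hgetD : ∀ i, S (octWords.getD i (0, [])).1 := fun i => by
    by_cases hi : i < octWords.length
    · rw [List.getD_eq_getElem _ _ hi]; exact oct_mem_genK (List.getElem_mem hi)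
    · rw [List.getD_eq_default _ _ (not_lt.1 hi)]; exact h0
  have hrow : ∀ r ∈ codeRows, S r := by
    intro r hr
    rw [← rows_ok] at hr
    obtain ⟨l, -, rfl⟩ := List.mem_map.1 hr
    clear hr
    induction l with
    | nil => exact h0
    | cons i l ih => exact hx _ _ (hgetD i) ih
  have := xorSel_induction S h0 hx codeRows m hrow
  rw [show xorSel codeRows m = m from isCode_iff.1 hm] at this
  exact this.2

theorem nOne_le_genK : nOne ≤ genK := by
  rw [nOne, Subgroup.map_le_iff_le_comap, monoGroup, Subgroup.closure_le]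
  rintro _ ⟨τ, hτ, c, hc, rfl⟩
  have hcode : isCode (maskOf c) = true := (mem_supports_iff c).1 hc
  have e : monoCo0 τ hτ c hc = monoCo0 1 (one_mem _) (setOf24 (maskOf c)) (setOf24_mem_supports hcode) *
      permHom ⟨τ⁻¹, inv_mem hτ⟩ := by
    simp only [permHom, MonoidHom.coe_mk, OneHom.coe_mk]
    rw [monoCo0_mul]
    refine monoCo0_congr (by simp) ?_
    rw [setOf24_maskOf, Finset.image_empty]
    exact (symmDiff_bot c).symm
  show projC _ ∈ genK
  rw [e, map_mul, ← pElt_idMono hcode]
  exact mul_mem (sign_mem_genK hcode) (perm_mem_genK _)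

end CfsgLib.CoOneAmalgam
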