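import Cfsg.Agent.CoOneAmalgam.CertDef

/-!
# Validity of a quarter of the representatives
-/

set_option autoImplicit false

namespace CfsgLib.CoOneAmalgam

open CfsgLib.Leech

theorem nodes_ok1 : ((nodeParts.drop 14).take 14).all (fun l => l.all fun m => m.ok && isMono m) = true := by
  decide +kernel

end CfsgLib.CoOneAmalgam
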