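import Cfsg.Agent.CoOneAmalgam.CertDef
import Cfsg.Agent.CoOneAmalgam.Targets0

/-!
# The action of a generator on the cosets
-/

set_option autoImplicit false

namespace CfsgLib.CoOneAmalgam

open CfsgLib.Leech

theorem targets_ok0 : tgtGo xiTab node numNodes (genMvs.getD 0 zMv) 0 targets0 = true := by
  decide +kernel

end CfsgLib.CoOneAmalgam
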