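import Cfsg.Agent.CoOneAmalgam.CertDef
import Cfsg.Agent.CoOneAmalgam.Tree4

/-!
# The spanning forest of an orbit
-/

set_option autoImplicit false

namespace CfsgLib.CoOneAmalgam

open CfsgLib.Leech

theorem tree_ok4 : coverOK xiTab node numNodes stabMvs4 roots4 tree4 = true := by
  decide +kernel

end CfsgLib.CoOneAmalgam
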