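import Cfsg.Agent.CoOneAmalgam.CertAll
import Cfsg.Agent.CoOneAmalgam.NGen
import Cfsg.Agent.CoOneAmalgam.NodesOK0
import Cfsg.Agent.CoOneAmalgam.NodesOK1
import Cfsg.Agent.CoOneAmalgam.NodesOK2
import Cfsg.Agent.CoOneAmalgam.NodesOK3
import Cfsg.Agent.CoOneAmalgam.TargetsOK0
import Cfsg.Agent.CoOneAmalgam.TargetsOK1
import Cfsg.Agent.CoOneAmalgam.TargetsOK2
import Cfsg.Agent.CoOneAmalgam.TargetsOK3
import Cfsg.Agent.CoOneAmalgam.TreeOK1
import Cfsg.Agent.CoOneAmalgam.TreeOK2
import Cfsg.Agent.CoOneAmalgam.TreeOK3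
import Cfsg.Agent.CoOneAmalgam.TreeOK4
import Cfsg.Agent.CoOneAmalgam.TreeOK5

/-!
# The amalgam collapses onto the first Conway group
-/

set_option autoImplicit false

namespace CfsgLib.CoOneAmalgam

open Cfsg CfsgLib.Mathieu CfsgLib.Leech CfsgLib.CoOneInv CfsgLib.CoOneOut

theorem getD_forall {α : Type*} (q : α → Prop) {l : List α} (h : ∀ x ∈ l, q x) {d : α} (hd : q d)
    (i : ℕ) : q (l.getD i d) := by
  by_cases hi : i < l.length
  · rw [List.getD_eq_getElem _ _ hi]; exact h _ (List.getElem_mem hi)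
  · rw [List.getD_eq_default _ _ (not_lt.1 hi)]; exact hd

theorem nodeParts_ok : ∀ l ∈ nodeParts, ∀ m ∈ l, m.ok = true ∧ isMono m = true := by
  have e : nodeParts = (nodeParts.drop (14 * 0)).take 14 ++ ((nodeParts.drop (14 * 1)).take 14 ++
      ((nodeParts.drop (14 * 2)).take 14 ++ (nodeParts.drop (14 * 3)).take 14)) := rfl
  have key : ∀ {L : List (List Mv)}, L.all (fun l => l.all fun m => m.ok && isMono m) = true →
      ∀ l ∈ L, ∀ m ∈ l, m.ok = true ∧ isMono m = true := fun h l hl m hm => by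
    simpa using List.all_eq_true.1 (List.all_eq_true.1 h l hl) m hm
  intro l hl
  rw [e] at hl
  simp only [List.mem_append] at hl
  rcases hl with hl | hl | hl | hl
  exacts [key nodes_ok0 l hl, key nodes_ok1 l hl, key nodes_ok2 l hl, key nodes_ok3 l hl]

theorem node_spec (y : ℕ) : (node y).ok = true ∧ isMono (node y) = true :=
  getD_forall (fun m => m.ok = true ∧ isMono m = true)
    (getD_forall (fun l => ∀ m ∈ l, m.ok = true ∧ isMono m = true) nodeParts_ok (by simp) _)
    ⟨zMv_ok, rfl⟩ _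

theorem node_zero : pElt [node 0] = 1 :=
  (pElt_eq (u := [node 0]) (v := []) (by simp [(node_spec 0).1]) rfl (by decide +kernel)).trans pElt_nil

theorem xiTab_ok : xiTabOK xiTab = true := by decide +kernel

theorem every_coset {b : Spor.Co1} (hb : b ∈ nOne) :
    ∃ y < numNodes, (pElt [node y])⁻¹ * b ∈ lSet := by
  refine nodes_cover xiTab_ok (fun y _ => node_spec y) (by decide +kernel) node_zero
    (fun s hs => genMvs_spec hs) nOne_le_genK ?_ hb
  intro s hs z hz
  obtain ⟨k, hk, rfl⟩ := List.mem_iff_getElem.1 hs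
  have h4 : genMvs.length = 4 := by decide +kernel
  rw [show genMvs[k] = genMvs.getD k zMv from (List.getD_eq_getElem _ _ hk).symm]
  match k, h4 ▸ hk with
  | 0, _ => exact tgtGo_spec _ _ targets_ok0 z (Nat.zero_le _) hz
  | 1, _ => exact tgtGo_spec _ _ targets_ok1 z (Nat.zero_le _) hz
  | 2, _ => exact tgtGo_spec _ _ targets_ok2 z (Nat.zero_le _) hz
  | 3, _ => exact tgtGo_spec _ _ targets_ok3 z (Nat.zero_le _) hz
  | _ + 4, h => exact absurd h (by omega)

theorem gW_ok : ∀ i : Fin 6, (gW i).all Mv.ok = true := by decide +kernel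

theorem gW_zero : gW 0 = [] := rfl

theorem gW_one : gW 1 = [Mv.xi] := rfl

/-- Some coordinate of the image of a unit vector is neither zero nor eight in absolute value. -/
def offCross (w : List Mv) : Bool :=
  (List.range 24).any fun i =>
    let f := fget (fRun w (fUnit 23)) i
    !(Nat.beq f 32760 || Nat.beq f 32768 || Nat.beq f 32776)

theorem not_mem_nOne_of_offCross {w : List Mv} (hw : w.all Mv.ok = true)
    (h : offCross w.reverse = true) : pElt w ∉ nOne := by
  have hr := all_reverse_ok hw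
  rintro ⟨g, hg, e⟩
  have hmem : moveElt w.reverse ∈ monoGroup := by
    rcases projC_eq_cases e with e' | e' <;> rw [e']
    · exact hg
    · exact mul_mem (monoCo0_mem_monoGroup _ _ _ _) hg
  have hc := mem_monoGroup_iff.1 hmem (eightL (pt 23)) (eightL_mem_stdCross _)
  rw [moveElt_eightL hr, idx_pt (by norm_num : (23 : ℕ) < 24)] at hc
  obtain ⟨q, hq⟩ := mem_stdCross_iff.1 hc
  obtain ⟨i, hi, hne⟩ := List.any_eq_true.1 h
  rw [List.mem_range] at hi
  have hrel := rel_fRun hr (by norm_num : (23 : ℕ) < 24) i hi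
  have hval : (runMoves w.reverse (unitL 23)).getD i 0 = eight q (pt i) ∨
      (runMoves w.reverse (unitL 23)).getD i 0 = -eight q (pt i) := by
    rcases hq with e' | e'
    · exact Or.inl (by rw [← idx_pt hi]; simpa [vec, idx_pt hi] using congrFun e' (pt i))
    · exact Or.inr (by rw [← idx_pt hi]; simpa [vec, idx_pt hi] using congrFun e' (pt i))
  have h8 : eight q (pt i) = 0 ∨ eight q (pt i) = 8 := by
    by_cases hq' : pt i = q
    · right; simp [eight, hq']
    · left; simp [eight, hq']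
  simp only [Bool.not_eq_true', Bool.or_eq_false_iff] at hne
  obtain ⟨⟨n1, n2⟩, n3⟩ := hne
  have k1 : fget (fRun w.reverse (fUnit 23)) i ≠ 32760 := fun e' => by rw [e'] at n1; simp at n1
  have k2 : fget (fRun w.reverse (fUnit 23)) i ≠ 32768 := fun e' => by rw [e'] at n2; simp at n2
  have k3 : fget (fRun w.reverse (fUnit 23)) i ≠ 32776 := fun e' => by rw [e'] at n3; simp at n3
  omega

theorem gW_off : ∀ i : Fin 6, (i : ℕ) ≠ 0 → offCross (gW i).reverse = true := by decide +kernel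

theorem gW_not_mem {i : ℕ} (hi : i < 6) (h0 : i ≠ 0) : pElt (gW i) ∉ nOne :=
  not_mem_nOne_of_offCross (gW_ok ⟨i, hi⟩) (gW_off ⟨i, hi⟩ h0)

variable {G : Type*} [Group G] (A : AmalgamMap G)

/-- The image of the sextet involution. -/
noncomputable def xHat : G := A.toC ⟨xOne, xOne_mem⟩

/-- The normal forms. -/
def InT (p : Spor.Co1 × G) : Prop :=
  ∃ i < 6, ∃ a b : nOne,
    p = (a * pElt (gW i) * b, A.toN a * imgL A (gW i) * A.toN b)

theorem InT.left {p : Spor.Co1 × G} (h : InT A p) (n : nOne) :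
    InT A ((n : Spor.Co1) * p.1, A.toN n * p.2) := by
  obtain ⟨i, hi, a, b, rfl⟩ := h
  exact ⟨i, hi, n * a, b, by simp [mul_assoc]⟩

theorem InT.right {p : Spor.Co1 × G} (h : InT A p) (n : nOne) :
    InT A (p.1 * (n : Spor.Co1), p.2 * A.toN n) := by
  obtain ⟨i, hi, a, b, rfl⟩ := h
  exact ⟨i, hi, a, b * n, by simp [mul_assoc]⟩

/-- The monomial elements after which the sextet involution keeps the normal form. -/
def uSet (i : ℕ) : Set Spor.Co1 :=
  {b | ∃ h : b ∈ nOne, InT A (pElt (gW i) * b * xOne, imgL A (gW i) * A.toN ⟨b, h⟩ * xHat A)}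

theorem uSet_right {i : ℕ} : ∀ b ∈ uSet A i, ∀ l ∈ lSet, b * l ∈ uSet A i := by
  rintro b ⟨hb, hT⟩ l hl
  obtain ⟨hl1, hl2, e⟩ := pass_of_mem A hl.1 hl.2
  refine ⟨mul_mem hb hl1, ?_⟩
  have := hT.right A ⟨_, hl2⟩
  convert this using 2
  · simp only [mul_assoc]
    rw [← mul_assoc xOne xOne, xOne_mul_self, one_mul]
  · rw [show (⟨b * l, mul_mem hb hl1⟩ : nOne) = ⟨b, hb⟩ * ⟨l, hl1⟩ from rfl, map_mul]
    simp only [xHat, mul_assoc, e]

theorem uSet_left {i : ℕ} (hi : i < 6) {x : Stab} (hx : stabOK i x = true) :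
    (x.s2.ok = true ∧ isMono x.s2 = true) ∧ ∀ b ∈ uSet A i, pElt [x.s2] * b ∈ uSet A i := by
  simp only [stabOK, Bool.and_eq_true] at hx
  obtain ⟨⟨hs, hs2⟩, hrel⟩ := hx
  obtain ⟨hu, hv, ep, ei⟩ := relOK_sound A hrel
  rw [List.map_cons] at hv ep ei
  change (x.s :: gW i).all Mv.ok = true at hv
  change pElt (gW i ++ [x.s2]) = pElt (x.s :: gW i) at ep
  change imgL A (gW i ++ [x.s2]) = imgL A (x.s :: gW i) at ei
  simp only [List.all_cons, Bool.and_eq_true] at hv
  have hs2' : x.s2.ok = true := by simp at hu; exact hu.2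
  refine ⟨⟨hs2', hs2⟩, fun b ⟨hb, hT⟩ => ⟨mul_mem (pElt_mono_mem hs2' hs2) hb, ?_⟩⟩
  rw [pElt_append hv.2 (by simp [hs2']), pElt_cons hv.1 hv.2] at ep
  rw [imgL_append, imgL_single, show imgL A (x.s :: gW i) = img A x.s * imgL A (gW i) from
    List.prod_cons, img_mono A hs2' hs2, img_mono A hv.1 hs] at ei
  have := hT.left A ⟨_, pElt_mono_mem hv.1 hs⟩
  convert this using 2
  · simp only [← mul_assoc, ep]
  · rw [show (⟨pElt [x.s2] * b, _⟩ : nOne) = ⟨pElt [x.s2], pElt_mono_mem hs2' hs2⟩ * ⟨b, hb⟩ from rfl,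
      map_mul]
    simp only [← mul_assoc, ei]

theorem uSet_close {i : ℕ} (hi : i < 6) {x : Close} (hx : closeOK i x = true) :
    pElt [node x.node] ∈ uSet A i := by
  simp only [closeOK, Bool.and_eq_true, Nat.blt_eq] at hx
  obtain ⟨⟨⟨⟨⟨hn, hn2⟩, hy⟩, -⟩, htgt⟩, hrel⟩ := hx
  obtain ⟨hu, hv, ep, ei⟩ := relOK_sound A hrel
  rw [List.map_cons, List.map_append] at hv ep ei
  change (x.n :: (gW x.target ++ [x.n2])).all Mv.ok = true at hv
  change pElt _ = pElt (x.n :: (gW x.target ++ [x.n2])) at ep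
  change imgL A _ = imgL A (x.n :: (gW x.target ++ [x.n2])) at ei
  simp only [List.all_cons, List.all_append, List.all_nil, Bool.and_true, Bool.and_eq_true] at hv
  obtain ⟨hnok, hg, hn2ok⟩ := hv
  have hgi := gW_ok ⟨i, hi⟩
  have hyok := (node_spec x.node).1
  refine ⟨pElt_mono_mem hyok hy, x.target, htgt, ⟨_, pElt_mono_mem hnok hn⟩,
    ⟨_, pElt_mono_mem hn2ok hn2⟩, ?_⟩
  refine Prod.ext ?_ ?_
  · show pElt (gW i) * pElt [node x.node] * xOne = pElt [x.n] * pElt (gW x.target) * pElt [x.n2]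
    have e1 : pElt (gW i ++ [node x.node, Mv.xi]) = pElt (gW i) * pElt [node x.node] * xOne := by
      rw [pElt_append hgi (by simp [hyok]; rfl), pElt_cons hyok rfl, ← xOne, mul_assoc]
    rw [← e1, ep, pElt_cons hnok (by simp [hg, hn2ok]), pElt_append hg (by simp [hn2ok]), mul_assoc]
  · show imgL A (gW i) * A.toN ⟨_, pElt_mono_mem hyok hy⟩ * xHat A = _
    have e2 : imgL A (gW i ++ [node x.node, Mv.xi]) =
        imgL A (gW i) * img A (node x.node) * img A Mv.xi := by
      rw [imgL_append, mul_assoc]; simp [imgL]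
    rw [xHat, ← img_xi, ← img_mono A hyok hy, ← e2, ei, ← img_mono A hnok hn, ← img_mono A hn2ok hn2]
    simp [imgL, List.prod_append, mul_assoc]

/-- The lists of stabilizer relations, by orbit. -/
def stabsAt : ℕ → List Stab
  | 1 => stabs1
  | 2 => stabs2
  | 3 => stabs3
  | 4 => stabs4
  | 5 => stabs5
  | _ => []

/-- The lists of closing relations, by orbit. -/
def closesAt : ℕ → List Close
  | 1 => closes1
  | 2 => closes2
  | 3 => closes3
  | 4 => closes4
  | 5 => closes5
  | _ => []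

/-- The right generators, by orbit. -/
def stabMvsAt : ℕ → List Mv
  | 1 => stabMvs1
  | 2 => stabMvs2
  | 3 => stabMvs3
  | 4 => stabMvs4
  | 5 => stabMvs5
  | _ => []

/-- The roots, by orbit. -/
def rootsAt : ℕ → List ℕ
  | 1 => roots1
  | 2 => roots2
  | 3 => roots3
  | 4 => roots4
  | 5 => roots5
  | _ => []

theorem lists_match : ∀ i : Fin 6,
    (stabMvsAt i).all (fun s => s.ok && (stabsAt i).any fun x => sameVal [x.s2] [s] && isMono s) = true ∧
      (rootsAt i).all (fun r => (closesAt i).any fun x => Nat.beq x.node r) = true := by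
  decide +kernel

theorem uSet_univ {i : ℕ} (hi : i < 6) (h0 : i ≠ 0) {b : Spor.Co1} (hb : b ∈ nOne) : b ∈ uSet A i := by
  have hstab : ∀ x ∈ stabsAt i, stabOK i x = true := by
    match i, hi, h0 with
    | 1, _, _ => exact stabs1_ok
    | 2, _, _ => exact stabs2_ok
    | 3, _, _ => exact stabs3_ok
    | 4, _, _ => exact stabs4_ok
    | 5, _, _ => exact stabs5_ok
  have hclose : ∀ x ∈ closesAt i, closeOK i x = true := by
    match i, hi, h0 with
    | 1, _, _ => exact closes1_ok
    | 2, _, _ => exact closes2_ok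
    | 3, _, _ => exact closes3_ok
    | 4, _, _ => exact closes4_ok
    | 5, _, _ => exact closes5_ok
  obtain ⟨hm1, hm2⟩ := lists_match ⟨i, hi⟩
  simp only [List.all_eq_true, Bool.and_eq_true, List.any_eq_true] at hm1 hm2
  have hS : ∀ s ∈ stabMvsAt i, s.ok = true ∧ isMono s = true := fun s hs => by
    obtain ⟨h1, x, -, -, h2⟩ := hm1 s hs
    exact ⟨h1, h2⟩
  have hleft : ∀ s ∈ stabMvsAt i, ∀ b ∈ uSet A i, pElt [s] * b ∈ uSet A i := by
    intro s hs b hb
    obtain ⟨h1, x, hx, hv, -⟩ := hm1 s hs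
    obtain ⟨⟨hok, -⟩, h⟩ := uSet_left A hi (hstab x hx)
    rw [← pElt_eq (u := [x.s2]) (v := [s]) (by simp [hok]) (by simp [h1]) hv]
    exact h b hb
  have hroots : ∀ r ∈ rootsAt i, pElt [node r] ∈ uSet A i := by
    intro r hr
    obtain ⟨x, hx, e⟩ := hm2 r hr
    rw [← Nat.eq_of_beq_eq_true e]
    exact uSet_close A hi (hclose x hx)
  have hnode : ∀ y < numNodes, pElt [node y] ∈ uSet A i := by
    intro y hy
    match i, hi, h0 with
    | 1, _, _ => exact coverOK_spec xiTab_ok (fun y _ => node_spec y) hS _ hleft (uSet_right A) tree_ok1 hroots hy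
    | 2, _, _ => exact coverOK_spec xiTab_ok (fun y _ => node_spec y) hS _ hleft (uSet_right A) tree_ok2 hroots hy
    | 3, _, _ => exact coverOK_spec xiTab_ok (fun y _ => node_spec y) hS _ hleft (uSet_right A) tree_ok3 hroots hy
    | 4, _, _ => exact coverOK_spec xiTab_ok (fun y _ => node_spec y) hS _ hleft (uSet_right A) tree_ok4 hroots hy
    | 5, _, _ => exact coverOK_spec xiTab_ok (fun y _ => node_spec y) hS _ hleft (uSet_right A) tree_ok5 hroots hy
  obtain ⟨y, hy, hl⟩ := every_coset hb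
  have := uSet_right A _ (hnode y hy) _ hl
  rwa [mul_inv_cancel_left] at this

theorem InT.xi {p : Spor.Co1 × G} (h : InT A p) : InT A (p.1 * xOne, p.2 * xHat A) := by
  obtain ⟨i, hi, a, b, rfl⟩ := h
  rcases Nat.eq_zero_or_pos i with rfl | hpos
  · refine ⟨1, by norm_num, a * b, 1, ?_⟩
    rw [gW_zero, pElt_nil, imgL_nil, gW_one, ← xOne, imgL_single, img_xi, map_mul, map_one]
    simp [xHat]
  · obtain ⟨hb, hT⟩ := uSet_univ A hi hpos.ne' b.2
    have := hT.left A a
    convert this using 2 <;> simp [mul_assoc]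

/-- The graph of the two maps. -/
def graphSet : Set (Spor.Co1 × G) :=
  {p | (∃ n : nOne, p = ((n : Spor.Co1), A.toN n)) ∨ p = (xOne, xHat A)}

theorem inT_of_mem {p : Spor.Co1 × G} (hp : p ∈ Subgroup.closure (graphSet A)) : InT A p := by
  have hXX : xHat A * xHat A = 1 := by
    rw [xHat, ← map_mul, ← map_one A.toC]
    exact congrArg A.toC (Subtype.ext xOne_mul_self)
  induction hp using Subgroup.closure_induction_right with
  | one =>
    refine ⟨0, by norm_num, 1, 1, ?_⟩
    simp [gW_zero, pElt_nil, imgL_nil]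
    rfl
  | mul_right x _ y hy ih =>
    rcases hy with ⟨n, rfl⟩ | rfl
    · exact ih.right A n
    · exact ih.xi A
  | mul_inv_cancel x _ y hy ih =>
    rcases hy with ⟨n, rfl⟩ | rfl
    · have := ih.right A n⁻¹
      convert this using 1
      ext <;> simp
    · have := ih.xi A
      convert this using 1
      ext <;> simp [inv_eq_of_mul_eq_one_right xOne_mul_self, inv_eq_of_mul_eq_one_right hXX]

theorem eq_one_of_fst {p : Spor.Co1 × G} (hp : p ∈ Subgroup.closure (graphSet A)) (h : p.1 = 1) :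
    p.2 = 1 := by
  obtain ⟨i, hi, a, b, rfl⟩ := inT_of_mem A hp
  change (a : Spor.Co1) * pElt (gW i) * b = 1 at h
  rcases Nat.eq_zero_or_pos i with rfl | hpos
  · rw [gW_zero, pElt_nil, mul_one] at h
    show A.toN a * imgL A (gW 0) * A.toN b = 1
    rw [gW_zero, imgL_nil, mul_one, ← map_mul, show a * b = 1 from Subtype.ext h, map_one]
  · refine absurd ?_ (gW_not_mem hi hpos.ne')
    have e : pElt (gW i) = (a : Spor.Co1)⁻¹ * (b : Spor.Co1)⁻¹ := by
      rw [eq_inv_mul_iff_mul_eq]; exact eq_inv_of_mul_eq_one_left h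
    rw [e]
    exact mul_mem (inv_mem a.2) (inv_mem b.2)

theorem fst_surjective (x : Spor.Co1) : ∃ y, (x, y) ∈ Subgroup.closure (graphSet A) := by
  have hle : (⊤ : Subgroup Co0) ≤
      ((Subgroup.closure (graphSet A)).map (MonoidHom.fst Spor.Co1 G)).comap projC := by
    rw [← moveGroup_eq_top, moveGroup, Subgroup.closure_le]
    have hmem : ∀ p ∈ graphSet A, (p : Spor.Co1 × G).1 ∈
        (Subgroup.closure (graphSet A)).map (MonoidHom.fst Spor.Co1 G) := fun p hp =>
      ⟨p, Subgroup.subset_closure hp, rfl⟩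
    intro g hg
    rcases hg with rfl | ⟨τ, hτ, c, hc, rfl⟩
    · show projC xiCo0 ∈ (Subgroup.closure (graphSet A)).map (MonoidHom.fst Spor.Co1 G)
      rw [← pElt_xi]
      exact hmem (xOne, xHat A) (Or.inr rfl)
    · let n : nOne := ⟨projC (monoCo0 τ hτ c hc), _, monoCo0_mem_monoGroup τ hτ c hc, rfl⟩
      exact hmem ((n : Spor.Co1), A.toN n) (Or.inl ⟨n, rfl⟩)
  obtain ⟨g, rfl⟩ := QuotientGroup.mk'_surjective _ x
  obtain ⟨p, hp, e⟩ := hle (Subgroup.mem_top g)
  refine ⟨p.2, ?_⟩
  have e' : p = (projC g, p.2) := Prod.ext e rfl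
  exact e' ▸ hp

/-- The amalgam map extends to the first Conway group. -/
theorem exists_hom : ∃ f : Spor.Co1 →* G, (∀ n : nOne, f n = A.toN n) ∧ f xOne = xHat A := by
  classical
  choose f hf using fst_surjective A
  have key : ∀ {x : Spor.Co1} {y : G}, (x, y) ∈ Subgroup.closure (graphSet A) → f x = y := by
    intro x y h
    have h2 := mul_mem (hf x) (inv_mem h)
    have := eq_one_of_fst A h2 (by simp)
    exact mul_inv_eq_one.1 (by simpa using this)
  exact ⟨MonoidHom.mk' f fun a b => key (mul_mem (hf a) (hf b)),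
    fun n => key (Subgroup.subset_closure (Or.inl ⟨n, rfl⟩)),
    key (Subgroup.subset_closure (Or.inr rfl))⟩

end CfsgLib.CoOneAmalgam
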