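import Cfsg.Agent.CoOneAmalgam.Rewrite

/-!
# Cosets of the normaliser of the coset of the sextet involution, joined by checked edges
-/

set_option autoImplicit false

namespace CfsgLib.CoOneAmalgam

open Cfsg CfsgLib.Mathieu CfsgLib.Leech CfsgLib.CoOneInv CfsgLib.CoOneOut

/-- The monomial elements normalising the coset of the sextet involution. -/
def lSet : Subgroup Spor.Co1 where
  carrier := {l | l ∈ nOne ∧ xOne * l * xOne ∈ nOne}
  mul_mem' := fun ha hb => ⟨mul_mem ha.1 hb.1, by rw [xconj_mul]; exact mul_mem ha.2 hb.2⟩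
  one_mem' := ⟨one_mem _, by rw [mul_one, xOne_mul_self]; exact one_mem _⟩
  inv_mem' := fun {a} ha => ⟨inv_mem ha.1, by
    have e : xOne * a⁻¹ * xOne = (xOne * a * xOne)⁻¹ := by
      rw [mul_inv_rev, mul_inv_rev, inv_eq_of_mul_eq_one_right xOne_mul_self, ← mul_assoc]
    rw [e]; exact inv_mem ha.2⟩

theorem mem_lSet {l : Spor.Co1} : l ∈ lSet ↔ l ∈ nOne ∧ xOne * l * xOne ∈ nOne := Iff.rfl

/-- The sextet involution, with a sign for the second half of the codes. -/
def xiU (c : ℕ) : List Mv := if c < 24 then [Mv.xi] else [Mv.xi, negMv]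

theorem xiU_ok (c : ℕ) : (xiU c).all Mv.ok = true := by
  rw [xiU]; split
  · rfl
  · exact (by decide +kernel : [Mv.xi, negMv].all Mv.ok = true)

theorem coElt_xiU (c : ℕ) : coElt (xiU c) = xOne := by
  rw [xiU]; split
  · rfl
  · rw [show [Mv.xi, negMv] = [Mv.xi] ++ [negMv] from rfl, coElt_append rfl negMv_ok]
    simp only [coElt, moveElt_neg, projC_negCo0, one_mul]
    rfl

/-- The table of the packed signed images of unit lists. -/
def xiTabOK (X : List ℕ) : Bool :=
  (List.range 48).all fun c => Nat.beq (X.getD c 0) (fRun (xiU c) (fUnit (c % 24)))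

/-- The product `s y` lies in the coset of `y'`. -/
def edgeOK (X : List ℕ) (s y y' : Mv) (c : ℕ) : Bool :=
  Nat.blt c 48 && Nat.beq (fAct s (fAct y (X.getD 23 0))) (fAct y' (X.getD c 0))

theorem edge_mem {X : List ℕ} (hX : xiTabOK X = true) {s y y' : Mv} {c : ℕ}
    (hs : s.ok = true ∧ isMono s = true) (hy : y.ok = true ∧ isMono y = true)
    (hy' : y'.ok = true ∧ isMono y' = true) (h : edgeOK X s y y' c = true) :
    (pElt [y'])⁻¹ * (pElt [s] * pElt [y]) ∈ lSet := by
  simp only [edgeOK, Bool.and_eq_true, Nat.blt_eq] at h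
  obtain ⟨hc, he⟩ := h
  have hX' : ∀ c < 48, X.getD c 0 = fRun (xiU c) (fUnit (c % 24)) := fun c hc =>
    Nat.eq_of_beq_eq_true (List.all_eq_true.1 hX c (List.mem_range.2 hc))
  set w : List Mv := xiU 23 ++ [y, s] with hwdef
  set u : List Mv := xiU c ++ [y'] with hudef
  have hw : w.all Mv.ok = true := by simp [hwdef, List.all_append, xiU_ok, hy.1, hs.1]
  have hu : u.all Mv.ok = true := by simp [hudef, List.all_append, xiU_ok, hy'.1]
  have e : fRun w (fUnit 23) = fRun u (fUnit (c % 24)) := by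
    simp only [hwdef, hudef, fRun, List.foldl_append, List.foldl_cons, List.foldl_nil]
    have := Nat.eq_of_beq_eq_true he
    rw [hX' 23 (by norm_num), hX' c hc] at this
    exact this
  have hq : c % 24 < 24 := Nat.mod_lt _ (by norm_num)
  have hvec : vec (runMoves w (unitL 23)) = vec (runMoves u (unitL (c % 24))) := by
    funext p
    have h1 := rel_fRun hw (by norm_num : (23 : ℕ) < 24) _ (idx_lt p)
    have h2 := rel_fRun hu hq _ (idx_lt p)
    rw [e] at h1
    show (runMoves w (unitL 23)).getD (idx p) 0 = (runMoves u (unitL (c % 24))).getD (idx p) 0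
    omega
  have hsm : moveElt w • eightL (pt 23) = moveElt u • eightL (pt (c % 24)) := Subtype.ext (by
    rw [moveElt_eightL hw, moveElt_eightL hu, idx_pt (by norm_num : (23 : ℕ) < 24), idx_pt hq, hvec])
  have hg : (moveElt u)⁻¹ * moveElt w ∈ monoGroup := by
    refine mem_monoGroup_iff.2 (preservesCross_of_mem (q := pt 23) ?_)
    rw [mul_smul, hsm, inv_smul_smul]
    exact eightL_mem_stdCross _
  have hN : (coElt u)⁻¹ * coElt w ∈ nOne := ⟨_, hg, by rw [map_mul, map_inv]; rfl⟩
  rw [hudef, hwdef, coElt_append (xiU_ok _) (by simp [hy'.1]),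
    coElt_append (xiU_ok _) (by simp [hy.1, hs.1]), coElt_xiU, coElt_xiU] at hN
  have e1 : coElt [y, s] = pElt [s] * pElt [y] := by
    rw [show [y, s] = [y] ++ [s] from rfl, coElt_append (by simp [hy.1]) (by simp [hs.1])]
    rfl
  rw [e1, show coElt [y'] = pElt [y'] from rfl] at hN
  refine ⟨mul_mem (inv_mem (pElt_mono_mem hy'.1 hy'.2))
    (mul_mem (pElt_mono_mem hs.1 hs.2) (pElt_mono_mem hy.1 hy.2)), ?_⟩
  rw [mul_inv_rev, inv_eq_of_mul_eq_one_right xOne_mul_self] at hN
  simpa [mul_assoc] using hN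

variable (X : List ℕ) (nd : ℕ → Mv) (M : ℕ)

/-- The table of targets of one generator, from the node `y` on. -/
def tgtGo (s : Mv) : ℕ → List ℕ → Bool
  | y, [] => Nat.beq y M
  | y, e :: es => Nat.blt (e / 64) M && edgeOK X s (nd y) (nd (e / 64)) (e % 64) && tgtGo s (y + 1) es

/-- Breadth first cover along the generators `S`, given the visited nodes as bits. -/
def coverGo (S : List Mv) : List ℕ → ℕ → Option ℕ
  | [], v => some v
  | e :: es, v =>
    if v.testBit (e / 256 % 4096) && Nat.blt (e / 64 % 4) S.length && Nat.blt (e / 256 % 4096) M &&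
        Nat.blt (e / 1048576) M &&
        edgeOK X (S.getD (e / 64 % 4) zMv) (nd (e / 256 % 4096)) (nd (e / 1048576)) (e % 64) then
      coverGo S es (v ||| 2 ^ (e / 1048576))
    else none

/-- The bits of a list of nodes. -/
def bitsOf : List ℕ → ℕ
  | [] => 0
  | r :: rs => 2 ^ r ||| bitsOf rs

/-- All nodes are reached. -/
def coverOK (S : List Mv) (reps es : List ℕ) : Bool :=
  match coverGo X nd M S es (bitsOf reps) with
  | some v => Nat.beq v (2 ^ M - 1)
  | none => false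

variable {X nd M}

theorem tgtGo_spec {s : Mv} : ∀ (es : List ℕ) (y : ℕ), tgtGo X nd M s y es = true →
    ∀ z, y ≤ z → z < M → ∃ z' < M, ∃ c, edgeOK X s (nd z) (nd z') c = true
  | [], y, h, z, hz, hzM => by
    have := Nat.eq_of_beq_eq_true h
    omega
  | e :: es, y, h, z, hz, hzM => by
    simp only [tgtGo, Bool.and_eq_true, Nat.blt_eq] at h
    rcases Nat.eq_or_lt_of_le hz with rfl | hlt
    · exact ⟨_, h.1.1, _, h.1.2⟩
    · exact tgtGo_spec es (y + 1) h.2 z hlt hzM

theorem testBit_bitsOf : ∀ (l : List ℕ) (y : ℕ), (bitsOf l).testBit y = true → y ∈ l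
  | [], y, h => by simp [bitsOf] at h
  | r :: rs, y, h => by
    rw [bitsOf, Nat.testBit_lor, Bool.or_eq_true, Nat.testBit_two_pow, decide_eq_true_eq] at h
    rcases h with rfl | h
    · exact List.mem_cons_self
    · exact List.mem_cons_of_mem _ (testBit_bitsOf rs y h)

theorem coverGo_spec (hX : xiTabOK X = true)
    (hnd : ∀ y < M, (nd y).ok = true ∧ isMono (nd y) = true) {S : List Mv}
    (hS : ∀ s ∈ S, s.ok = true ∧ isMono s = true) (U : Set Spor.Co1)
    (hleft : ∀ s ∈ S, ∀ b ∈ U, pElt [s] * b ∈ U) (hright : ∀ b ∈ U, ∀ l ∈ lSet, b * l ∈ U) :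
    ∀ (es : List ℕ) (v v' : ℕ), coverGo X nd M S es v = some v' →
      (∀ y, v.testBit y = true → pElt [nd y] ∈ U) → ∀ y, v'.testBit y = true → pElt [nd y] ∈ U
  | [], v, v', h, hv => by
    simp only [coverGo, Option.some.injEq] at h
    exact h ▸ hv
  | e :: es, v, v', h, hv => by
    simp only [coverGo] at h
    split at h
    · rename_i hc
      simp only [Bool.and_eq_true, Nat.blt_eq] at hc
      obtain ⟨⟨⟨⟨hb, hk⟩, hp⟩, hch⟩, he⟩ := hc
      refine coverGo_spec hX hnd hS U hleft hright es _ v' h fun y hy => ?_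
      rw [Nat.testBit_lor, Bool.or_eq_true, Nat.testBit_two_pow, decide_eq_true_eq] at hy
      rcases hy with hy | rfl
      · exact hv y hy
      · have hmem : S.getD (e / 64 % 4) zMv ∈ S := by
          rw [List.getD_eq_getElem _ _ hk]; exact List.getElem_mem hk
        have hl := edge_mem hX (hS _ hmem) (hnd _ hp) (hnd _ hch) he
        have := hright _ (hleft _ hmem _ (hv _ hb)) _ (inv_mem hl)
        rwa [mul_inv_rev, inv_inv, mul_inv_cancel_left] at this
    · simp at h

/-- A checked cover gives all nodes. -/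
theorem coverOK_spec (hX : xiTabOK X = true)
    (hnd : ∀ y < M, (nd y).ok = true ∧ isMono (nd y) = true) {S : List Mv}
    (hS : ∀ s ∈ S, s.ok = true ∧ isMono s = true) (U : Set Spor.Co1)
    (hleft : ∀ s ∈ S, ∀ b ∈ U, pElt [s] * b ∈ U) (hright : ∀ b ∈ U, ∀ l ∈ lSet, b * l ∈ U)
    {reps es : List ℕ} (h : coverOK X nd M S reps es = true)
    (hreps : ∀ r ∈ reps, pElt [nd r] ∈ U) {y : ℕ} (hy : y < M) : pElt [nd y] ∈ U := by
  simp only [coverOK] at h
  split at h
  · rename_i v e
    refine coverGo_spec hX hnd hS U hleft hright es _ v e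
      (fun y hy => hreps y (testBit_bitsOf _ _ hy)) y ?_
    rw [Nat.eq_of_beq_eq_true h, Nat.testBit_two_pow_sub_one]
    simpa using hy
  · simp at h

/-- The nodes meet every coset. -/
theorem nodes_cover (hX : xiTabOK X = true)
    (hnd : ∀ y < M, (nd y).ok = true ∧ isMono (nd y) = true) (hM : 0 < M) (h0 : pElt [nd 0] = 1)
    {S : List Mv} (hS : ∀ s ∈ S, s.ok = true ∧ isMono s = true)
    (hgen : nOne ≤ Subgroup.closure {g | ∃ s ∈ S, pElt [s] = g})
    (htgt : ∀ s ∈ S, ∀ z < M, ∃ z' < M, ∃ c, edgeOK X s (nd z) (nd z') c = true)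
    {b : Spor.Co1} (hb : b ∈ nOne) : ∃ y < M, (pElt [nd y])⁻¹ * b ∈ lSet := by
  have hfwd : ∀ s ∈ S, ∀ b : Spor.Co1, (∃ y < M, (pElt [nd y])⁻¹ * b ∈ lSet) →
      ∃ y < M, (pElt [nd y])⁻¹ * (pElt [s] * b) ∈ lSet := by
    rintro s hs b ⟨y, hy, hl⟩
    obtain ⟨y', hy', c, hc⟩ := htgt s hs y hy
    have := mul_mem (edge_mem hX (hS s hs) (hnd y hy) (hnd y' hy') hc) hl
    exact ⟨y', hy', by rwa [mul_assoc, mul_assoc (pElt [s]), mul_inv_cancel_left] at this⟩
  have hpow : ∀ s ∈ S, ∀ (n : ℕ) (b : Spor.Co1), (∃ y < M, (pElt [nd y])⁻¹ * b ∈ lSet) →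
      ∃ y < M, (pElt [nd y])⁻¹ * (pElt [s] ^ n * b) ∈ lSet := by
    intro s hs n
    induction n with
    | zero => intro b h; rwa [pow_zero, one_mul]
    | succ n ih => intro b h; rw [pow_succ', mul_assoc]; exact hfwd s hs _ (ih b h)
  refine Subgroup.closure_induction_left (p := fun b _ => ∃ y < M, (pElt [nd y])⁻¹ * b ∈ lSet)
    ⟨0, hM, by rw [h0, inv_one, one_mul]; exact one_mem _⟩ ?_ ?_ (hgen hb)
  · rintro _ ⟨s, hs, rfl⟩ b _ h
    exact hfwd s hs b h
  · rintro _ ⟨s, hs, rfl⟩ b _ h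
    obtain ⟨n, hn⟩ : ∃ n : ℕ, pElt [s] ^ n = (pElt [s])⁻¹ :=
      ⟨orderOf (pElt [s]) - 1, eq_inv_of_mul_eq_one_left (by
        rw [← pow_succ, Nat.sub_add_cancel (orderOf_pos (pElt [s])), pow_orderOf_eq_one])⟩
    exact hn ▸ hpow s hs n b h

end CfsgLib.CoOneAmalgam
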