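import Cfsg.Agent.CoOneInv.Centralizer

/-!
# The monomial group and the two octad involutions in the first Conway group, and their amalgam

The octads of `zOne` and `sOne` are unions of two tetrads of the standard sextet, and form a trio
with the complement, so the sextet involution commutes with both.
-/

set_option autoImplicit false

namespace CfsgLib.CoOneAmalgam

open Cfsg CfsgLib.Mathieu CfsgLib.Leech CfsgLib.CoOneInv

/-- The octad made of the tetrads 1 and 3. -/
def sMask : ℕ :=
  2 ^ 4 + 2 ^ 6 + 2 ^ 7 + 2 ^ 13 + 2 ^ 16 + 2 ^ 19 + 2 ^ 21 + 2 ^ 22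

theorem sMask_code : isCode sMask = true := by decide +kernel

/-- Its sign change. -/
def sCo0 : Co0 := monoCo0 1 (one_mem _) (setOf24 sMask) (setOf24_mem_supports sMask_code)

/-- The second involution. -/
noncomputable def sOne : Spor.Co1 := projC sCo0

/-- The monomial group. -/
noncomputable def nOne : Subgroup Spor.Co1 := monoGroup.map projC

/-- The sign changes. -/
noncomputable def aOne : Subgroup Spor.Co1 :=
  (Subgroup.closure {g : Co0 | ∃ (c : Finset GolayPt)
    (hc : c ∈ supports (golayCode : Set (GolayPt → ZMod 2))), g = monoCo0 1 (one_mem _) c hc}).map projC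

/-- The amalgam of the monomial group and the centralizer of `zOne` in `G`, with compatibility on the
normalizer of the four group `⟨zOne, sOne⟩`. -/
structure AmalgamMap (G : Type*) [Group G] where
  /-- the map on the monomial group -/
  toN : nOne →* G
  /-- the map on the centralizer -/
  toC : C1 →* G
  agree : ∀ (a : Spor.Co1) (hN : a ∈ nOne) (hC : a ∈ C1), toN ⟨a, hN⟩ = toC ⟨a, hC⟩
  compat : ∀ (n k : Spor.Co1) (hn : n ∈ nOne) (hk : k ∈ C1) (hnk : n * k * n⁻¹ ∈ C1),
    k * sOne = sOne * k → n * zOne * n⁻¹ ∈ ({zOne, sOne, zOne * sOne} : Set Spor.Co1) →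
    n * sOne * n⁻¹ ∈ ({zOne, sOne, zOne * sOne} : Set Spor.Co1) →
      toN ⟨n, hn⟩ * toC ⟨k, hk⟩ * (toN ⟨n, hn⟩)⁻¹ = toC ⟨n * k * n⁻¹, hnk⟩

end CfsgLib.CoOneAmalgam
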