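import Cfsg.Agent.Leech.Co0

/-!
Data: monomial elements normalising the coset of the sextet involution, each with its inverse and its
conjugate by that involution, and words taking the base octad to the fifteen unions of two tetrads.
-/

set_option autoImplicit false

namespace CfsgLib.CoOneAmalgam

open CfsgLib.Leech

/-- The elements; all but the last fix the base octad, the last normalises the four group. -/
def edgeGens : List (Mv × Mv × Mv) :=
  [(.mono 959322458736043737022837770766709804863903100620112151 441139, .mono 579198990887665526791730523849333851473463706910851351 5336373, .mono 50956985094981971909506014746038062105337370608750565121 2794227),
    (.mono 2112824278073136974723457862886826371039344346447413761 1767507, .mono 51154531852652635135512161998632315877423936269610713111 2569870, .mono 564348976100093652386217405111461168599447505980524331266 1767507),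
    (.mono 74716281016647991801558929263933053972354132788086965521 5657811, .mono 418565476883623447033215749404634199918358613481325724421 1960075, .mono 344047881197401089660410341579014945380598967110893506821 2878211),
    (.mono 1438228777071697584593849372771877946309311417957875991 337856, .mono 581439489914207758858603410305475401369510358538125591 7612992, .mono 963807738732041847068607147906239901919648624956014871 7903248),
    (.mono 344243931343431006691779929643912249973459507408668004611 7936709, .mono 124325969123375975290848193386813998956638019022395478286 3999224, .mono 418761541632850515627544183809935642943529293108671090181 3073533),
    (.mono 343957716742769095117707780954856533655759688581026874641 1826430, .mono 124617047538442716072461939904548016584362163013726309891 4441280, .mono 417419476815243288106392063679008035710195670425832588046 7645062),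
    (.mono 50094966583756110084063788268566051699047967520951703296 5972661, .mono 25194525702372500452337979631064094367514938796626346496 4578059, .mono 565016826879710339310402181637035949690280426150316474881 1973157),
    (.mono 418762282608449265483168075699770102750953072009512092421 5081773, .mono 344723604949569437890562400733900358617873100669878338321 6082678, .mono 74999143034958978731155086147146361656981532619623960846 3159421),
    (.mono 320679183166771460548817056403046669656050695840668586006 3736597, .mono 220680512568169702974842601545674490950633887792403977231 4231958, .mono 393279664321953916772032027743158277257149145413785619716 5252293)]

/-- The octads and the words. -/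
def edgeWords : List (ℕ × List ℕ) :=
  [(416040, [2, 8, 0, 8]),
    (1230376, [7, 8, 0, 8]),
    (1351424, [8]),
    (2769128, [8, 1, 8]),
    (2890176, [1, 8]),
    (3704512, [6, 0, 8]),
    (4415544, [8, 6, 0, 8]),
    (4536592, [7, 8]),
    (5350928, [0, 8]),
    (6889680, [8, 8]),
    (8536111, []),
    (8657159, [0, 8, 7, 8]),
    (9471495, [8, 8, 0, 8]),
    (11010247, [8, 7, 8]),
    (12656663, [8, 0, 8])]

end CfsgLib.CoOneAmalgam
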