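import Cfsg.Agent.CoOneAmalgam.Letters
import Cfsg.Agent.CoOneAmalgam.EdgeData

/-!
# A monomial element normalising the coset of the sextet involution passes through it in the amalgam
-/

set_option autoImplicit false

namespace CfsgLib.CoOneAmalgam

open Cfsg CfsgLib.Mathieu CfsgLib.Leech CfsgLib.CoOneInv CfsgLib.CoOneOut
open scoped symmDiff

/-- The sign change with a given support. -/
def signCo0 (c : Finset GolayPt) (hc : c ∈ supports (golayCode : Set (GolayPt → ZMod 2))) : Co0 :=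
  monoCo0 1 (one_mem _) c hc

theorem pElt_xi : xOne = projC xiCo0 := by
  rw [xOne, pElt, List.reverse_singleton, coElt]
  congr 1
  refine co0_eq_of_eight fun p => Subtype.ext ?_
  rw [moveElt_eightL rfl, xiCo0_smul]
  exact (by decide +kernel : ∀ p, vec (runMoves [Mv.xi] (unitL (idx p))) = xiFun (eight p)) p

theorem sign_conj_z {l : Spor.Co1} (hl : l ∈ nOne) :
    ∃ (c : Finset GolayPt) (hc : c ∈ supports (golayCode : Set (GolayPt → ZMod 2))),
      c.card = 8 ∧ l * zOne * l⁻¹ = projC (signCo0 c hc) := by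
  obtain ⟨g, hg, rfl⟩ := hl
  obtain ⟨τ, hτ, d, hd, rfl⟩ := eq_monoCo0 (mem_monoGroup_iff.1 hg)
  refine ⟨octO.image ⇑τ⁻¹, setSystemAut_image_mem (inv_mem hτ : τ⁻¹ ∈ M24) octO_supports, ?_, ?_⟩
  · rw [Finset.card_image_of_injective _ (τ⁻¹).injective]
    decide +kernel
  · have e : monoCo0 τ hτ d hd * epsCo0 =
        signCo0 (octO.image ⇑τ⁻¹)
          (setSystemAut_image_mem (inv_mem hτ : τ⁻¹ ∈ M24) octO_supports) * monoCo0 τ hτ d hd := by
      rw [epsCo0, signCo0, monoCo0_mul, monoCo0_mul]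
      refine monoCo0_congr (by rw [one_mul, mul_one]) ?_
      simp only [inv_one, Equiv.Perm.coe_one, Finset.image_id]
      exact symmDiff_comm _ _
    rw [zOne, ← map_mul, e, map_mul, mul_inv_cancel_right]

/-- The tetrad of a point. -/
def tetSet (p : GolayPt) : Finset GolayPt := Finset.univ.filter (tetOf · = tetOf p)

theorem xiFun_eight (p q : GolayPt) : xiFun (eight p) q =
    if q ∈ tetSet p then (if tetOf p = 0 then -1 else 1) * (if q = p then 4 else -4) else 0 := by
  classical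
  have hs : ∀ k, tetSum (eight p) k = if tetOf p = k then 8 else 0 := fun k => by
    simp [tetSum, eight, Finset.sum_pi_single']
  rw [xiFun, hs]
  by_cases hq : tetOf p = tetOf q
  · have hm : q ∈ tetSet p := by simp [tetSet, hq]
    rw [if_pos hm, if_pos hq, hq]
    by_cases e : q = p
    · subst e; simp [eight]
    · simp [eight, e]
  · have hm : q ∉ tetSet p := by simp [tetSet, Ne.symm hq]
    have e : q ≠ p := by rintro rfl; exact hq rfl
    simp [hm, hq, eight, e]

theorem xi_tet_pattern (p : GolayPt) (c : Finset GolayPt)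
    (h : xiFun (monoFun 1 c (xiFun (eight p))) p = 8 ∨ xiFun (monoFun 1 c (xiFun (eight p))) p = -8) :
    p ∈ c ↔ ∀ q ∈ tetSet p, q ∈ c := by
  classical
  set s : ℤ := if tetOf p = 0 then -1 else 1
  have hs : s = 1 ∨ s = -1 := by simp only [s]; split_ifs <;> simp
  set T := (tetSet p).erase p
  have hp : p ∈ tetSet p := by simp [tetSet]
  have hcard : T.card = 3 := by
    rw [Finset.card_erase_of_mem hp, tetSet, tetOf_card]
  set k := (T.filter (· ∈ c)).card
  have hk : k ≤ 3 := hcard ▸ Finset.card_filter_le _ _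
  have hsum : ∑ q ∈ T, monoFun 1 c (xiFun (eight p)) q = s * (8 * k - 12) := by
    calc ∑ q ∈ T, monoFun 1 c (xiFun (eight p)) q
        = ∑ q ∈ T, (s * (-4) + if q ∈ c then s * 8 else 0) := by
          refine Finset.sum_congr rfl fun q hq => ?_
          obtain ⟨hne, hq'⟩ := Finset.mem_erase.1 hq
          rw [monoFun, Equiv.Perm.one_apply, xiFun_eight, if_pos hq', if_neg hne,
            show (if tetOf p = 0 then (-1 : ℤ) else 1) = s from rfl]
          split_ifs <;> ring
      _ = _ := by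
          rw [Finset.sum_add_distrib, Finset.sum_const, hcard, ← Finset.sum_filter, Finset.sum_const]
          simp only [nsmul_eq_mul, k]
          push_cast
          ring
  have hw : monoFun 1 c (xiFun (eight p)) p = if p ∈ c then -(s * 4) else s * 4 := by
    rw [monoFun, Equiv.Perm.one_apply, xiFun_eight, if_pos hp, if_pos rfl]
  have hv : xiFun (monoFun 1 c (xiFun (eight p))) p =
      s * (monoFun 1 c (xiFun (eight p)) p -
        (monoFun 1 c (xiFun (eight p)) p + s * (8 * k - 12)) / 2) := by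
    rw [xiFun, tetSum, ← hsum, ← Finset.sum_insert (Finset.notMem_erase p _), Finset.insert_erase hp]
    rfl
  rw [hv, hw] at h
  constructor
  · intro hpc q hq
    rw [if_pos hpc] at h
    have h3 : k = 3 := by rcases hs with e | e <;> rw [e] at h <;> omega
    by_cases e : q = p
    · exact e ▸ hpc
    · have : T.filter (· ∈ c) = T :=
        Finset.eq_of_subset_of_card_le (Finset.filter_subset _ _) (by omega)
      have hqT : q ∈ T.filter (· ∈ c) := by rw [this]; exact Finset.mem_erase.2 ⟨e, hq⟩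
      exact (Finset.mem_filter.1 hqT).2
  · exact fun h => h p hp

theorem sign_of_tet {c : Finset GolayPt} {hc : c ∈ supports (golayCode : Set (GolayPt → ZMod 2))}
    {c' : Finset GolayPt} {hc' : c' ∈ supports (golayCode : Set (GolayPt → ZMod 2))}
    (h : xOne * projC (signCo0 c hc) * xOne = projC (signCo0 c' hc')) (p : GolayPt) :
    p ∈ c ↔ ∀ q ∈ tetSet p, q ∈ c := by
  classical
  have hv : ((xiCo0 * signCo0 c hc * xiCo0) • eightL p : leechLattice).1 p = 8 ∨
      ((xiCo0 * signCo0 c hc * xiCo0) • eightL p : leechLattice).1 p = -8 := by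
    rw [pElt_xi, ← map_mul, ← map_mul] at h
    have h8 : eight p p = 8 := by simp [eight]
    rcases projC_eq_cases h.symm with e | e <;> rw [e]
    · rw [signCo0, monoCo0_smul, monoFun]
      by_cases hp : p ∈ c' <;> simp [hp, eightL, h8]
    · rw [mul_smul, negCo0_smul, Pi.neg_apply, signCo0, monoCo0_smul, monoFun]
      by_cases hp : p ∈ c' <;> simp [hp, eightL, h8]
  rw [mul_smul, mul_smul, xiCo0_smul, signCo0, monoCo0_smul, xiCo0_smul] at hv
  rw [show ((eightL p : leechLattice) : GolayPt → ℤ) = eight p from rfl] at hv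
  exact xi_tet_pattern p c hv

/-- The mask of a union of tetrads. -/
def unionMask (S : ℕ) : ℕ :=
  ((List.range 24).map fun i => if S.testBit (tetList.getD i 0) then 2 ^ i else 0).sum

theorem union_octads : ∀ S : Fin 64, (setOf24 (unionMask S)).card = 8 →
    unionMask S ∈ edgeWords.map Prod.fst := by decide +kernel

theorem mem_edgeWords_of_tet {c : Finset GolayPt} (hcard : c.card = 8)
    (h : ∀ p, p ∈ c ↔ ∀ q ∈ tetSet p, q ∈ c) : ∃ x ∈ edgeWords, setOf24 x.1 = c := by
  classical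
  have key : ∀ k : Fin 6, ∃ p : GolayPt, tetOf p = k.val := by decide +kernel
  choose P hP using key
  let b : Fin 6 → Bool := fun k => decide (P k ∈ c)
  let S : ℕ := ∑ k : Fin 6, if b k then 2 ^ (k : ℕ) else 0
  have hS : S < 64 ∧ ∀ k : Fin 6, S.testBit k = b k := by
    have : ∀ b : Fin 6 → Bool, (∑ k : Fin 6, if b k then 2 ^ (k : ℕ) else 0) < 64 ∧
        ∀ k : Fin 6, (∑ k : Fin 6, if b k then 2 ^ (k : ℕ) else 0).testBit k = b k := by
      decide +kernel
    exact this b
  have hmem : ∀ p, p ∈ setOf24 (unionMask S) ↔ S.testBit (tetOf p) = true := by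
    intro p
    have := (by decide +kernel : ∀ S : Fin 64, ∀ p : GolayPt,
      (unionMask S).testBit (idx p) = S.val.testBit (tetOf p)) ⟨S, hS.1⟩ p
    rw [mem_setOf24, this]
  have e : setOf24 (unionMask S) = c := by
    ext p
    obtain ⟨k, hk⟩ : ∃ k : Fin 6, k.val = tetOf p :=
      (by decide +kernel : ∀ p : GolayPt, ∃ k : Fin 6, k.val = tetOf p) p
    rw [hmem, ← hk, hS.2 k]
    simp only [b, decide_eq_true_eq]
    have ht : tetSet (P k) = tetSet p := by simp [tetSet, hP, hk]
    rw [h (P k), h p, ht]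
  obtain ⟨x, hx, hx1⟩ := List.mem_map.1 (union_octads ⟨S, hS.1⟩ (by rw [e]; exact hcard))
  exact ⟨x, hx, by rw [hx1]; exact e⟩

/-! ### Passing through the sextet involution -/

variable {G : Type*} [Group G] (A : AmalgamMap G)

/-- `l` passes through the sextet involution in the amalgam. -/
def Pass (l : Spor.Co1) : Prop :=
  ∃ (hl : l ∈ nOne) (hl' : xOne * l * xOne ∈ nOne),
    A.toN ⟨l, hl⟩ * A.toC ⟨xOne, xOne_mem⟩ = A.toC ⟨xOne, xOne_mem⟩ * A.toN ⟨xOne * l * xOne, hl'⟩

theorem xconj_mul (a b : Spor.Co1) : xOne * (a * b) * xOne = xOne * a * xOne * (xOne * b * xOne) := by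
  rw [show xOne * a * xOne * (xOne * b * xOne) = xOne * a * (xOne * xOne) * b * xOne by group,
    xOne_mul_self, mul_one]
  group

theorem pass_one : Pass A 1 := by
  have h1 : xOne * 1 * xOne = 1 := by rw [mul_one, xOne_mul_self]
  refine ⟨one_mem _, by rw [h1]; exact one_mem _, ?_⟩
  simp only [h1]
  rw [show (⟨(1 : Spor.Co1), one_mem _⟩ : nOne) = 1 from rfl, map_one, one_mul, mul_one]

theorem Pass.mul {a b : Spor.Co1} (ha : Pass A a) (hb : Pass A b) : Pass A (a * b) := by
  obtain ⟨ha1, ha2, ea⟩ := ha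
  obtain ⟨hb1, hb2, eb⟩ := hb
  refine ⟨mul_mem ha1 hb1, by rw [xconj_mul]; exact mul_mem ha2 hb2, ?_⟩
  have e1 : (⟨a * b, mul_mem ha1 hb1⟩ : nOne) = ⟨a, ha1⟩ * ⟨b, hb1⟩ := rfl
  have e2 : (⟨xOne * (a * b) * xOne, by rw [xconj_mul]; exact mul_mem ha2 hb2⟩ : nOne) =
      ⟨_, ha2⟩ * ⟨_, hb2⟩ := Subtype.ext (xconj_mul a b)
  rw [e1, e2, map_mul, map_mul, mul_assoc, eb, ← mul_assoc, ea, mul_assoc]

theorem pass_cent {l : Spor.Co1} (hl : l ∈ nOne) (hl' : xOne * l * xOne ∈ nOne) (hC : l ∈ C1) :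
    Pass A l := by
  refine ⟨hl, hl', ?_⟩
  have hC' : xOne * l * xOne ∈ C1 := mul_mem (mul_mem xOne_mem hC) xOne_mem
  rw [A.agree l hl hC, A.agree _ hl' hC', ← map_mul, ← map_mul]
  congr 1
  refine Subtype.ext ?_
  show l * xOne = xOne * (xOne * l * xOne)
  rw [← mul_assoc, ← mul_assoc, xOne_mul_self, one_mul]

/-- An element normalising the four group. -/
theorem pass_compat {n : Spor.Co1} (hn : n ∈ nOne) (hn' : xOne * n * xOne ∈ nOne)
    (hz : n * zOne * n⁻¹ ∈ ({zOne, sOne, zOne * sOne} : Set Spor.Co1))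
    (hs : n * sOne * n⁻¹ ∈ ({zOne, sOne, zOne * sOne} : Set Spor.Co1))
    (hC : n * xOne * n⁻¹ ∈ C1) : Pass A n := by
  refine ⟨hn, hn', ?_⟩
  have hk := A.compat n xOne hn xOne_mem hC xOne_comm_s hz hs
  have ha : xOne * n * xOne * n⁻¹ ∈ nOne := mul_mem hn' (inv_mem hn)
  have ha' : xOne * n * xOne * n⁻¹ ∈ C1 := by
    rw [show xOne * n * xOne * n⁻¹ = xOne * (n * xOne * n⁻¹) by group]
    exact mul_mem xOne_mem hC
  have e : A.toC ⟨n * xOne * n⁻¹, hC⟩ = A.toC ⟨xOne, xOne_mem⟩ * A.toN ⟨_, ha⟩ := by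
    rw [A.agree _ ha ha', ← map_mul]
    congr 1
    refine Subtype.ext ?_
    show n * xOne * n⁻¹ = xOne * (xOne * n * xOne * n⁻¹)
    rw [← mul_assoc, ← mul_assoc, ← mul_assoc, xOne_mul_self, one_mul]
  have e2 : (⟨_, ha⟩ : nOne) = ⟨xOne * n * xOne, hn'⟩ * (⟨n, hn⟩ : nOne)⁻¹ := rfl
  rw [e, e2, map_mul, map_inv, ← mul_assoc] at hk
  exact mul_right_cancel hk

/-- The checks on the data. -/
def edgeGenOK (x : Mv × Mv × Mv) : Bool :=
  x.1.ok && x.2.1.ok && x.2.2.ok && isMono x.1 && isMono x.2.2 && sameVal [x.1, x.2.1] [] &&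
    sameVal [Mv.xi, x.1, Mv.xi] [x.2.2] &&
    (isCent x.1 ||
      (([[zMv], [sMv], [zMv, sMv]] : List (List Mv)).any fun v => sameVal [x.1, zMv, x.2.1] v) &&
      (([[zMv], [sMv], [zMv, sMv]] : List (List Mv)).any fun v => sameVal [x.1, sMv, x.2.1] v) &&
      sameVal [x.1, Mv.xi, x.2.1, zMv] [zMv, x.1, Mv.xi, x.2.1])

theorem edgeGens_ok : edgeGens.all edgeGenOK = true := by decide +kernel

theorem pElt_three {a b c : Mv} (ha : a.ok = true) (hb : b.ok = true) (hc : c.ok = true) :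
    pElt [a, b, c] = pElt [a] * pElt [b] * pElt [c] := by
  rw [pElt_cons ha (by simp [hb, hc]), pElt_cons hb (by simp [hc]), mul_assoc]

theorem four_mem {x : Spor.Co1} {w : List Mv} (hw : w.all Mv.ok = true) (e : pElt w = x)
    (h : (([[zMv], [sMv], [zMv, sMv]] : List (List Mv)).any fun v => sameVal w v) = true) :
    x ∈ ({zOne, sOne, zOne * sOne} : Set Spor.Co1) := by
  obtain ⟨v, hv, hs⟩ := List.any_eq_true.1 h
  have hz := zMv_ok
  have hsm := sMv_ok
  simp only [List.mem_cons, List.not_mem_nil, or_false] at hv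
  rcases hv with rfl | rfl | rfl
  · left; rw [← e, pElt_eq hw (by simp [hz]) hs, pElt_zMv]
  · right; left; rw [← e, pElt_eq hw (by simp [hsm]) hs, pElt_sMv]
  · right; right
    rw [Set.mem_singleton_iff, ← e, pElt_eq hw (by simp [hz, hsm]) hs, ← pElt_zMv, ← pElt_sMv,
      ← pElt_append (by simp [hz]) (by simp [hsm])]
    rfl

theorem pass_gen {x : Mv × Mv × Mv} (hx : x ∈ edgeGens) : Pass A (pElt [x.1]) := by
  obtain ⟨n, ni, n'⟩ := x
  have h := List.all_eq_true.1 edgeGens_ok _ hx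
  simp only [edgeGenOK, Bool.and_eq_true] at h
  obtain ⟨⟨⟨⟨⟨⟨⟨h1, h2⟩, h3⟩, hm⟩, hm'⟩, hinv⟩, hconj⟩, hrest⟩ := h
  have hx0 : Mv.xi.ok = true := rfl
  have hnn : xOne * pElt [n] * xOne = pElt [n'] := by
    rw [xOne, ← pElt_three hx0 h1 hx0]
    exact pElt_eq (by simp [h1, hx0]) (by simp [h3]) hconj
  have hn' : xOne * pElt [n] * xOne ∈ nOne := hnn ▸ pElt_mono_mem h3 hm'
  simp only [Bool.or_eq_true, Bool.and_eq_true] at hrest
  rcases hrest with hc | ⟨⟨hz, hs⟩, hcen⟩
  · exact pass_cent A (pElt_mono_mem h1 hm) hn' (pElt_cent_mem h1 hc)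
  · have einv : (pElt [n])⁻¹ = pElt [ni] := by
      refine inv_eq_of_mul_eq_one_right ?_
      rw [← pElt_append (by simp [h1]) (by simp [h2]), ← pElt_nil]
      exact pElt_eq (by simp [h1, h2]) rfl hinv
    refine pass_compat A (pElt_mono_mem h1 hm) hn' ?_ ?_ ?_
    · refine four_mem (by simp [h1, h2, zMv_ok]) ?_ hz
      rw [pElt_three h1 zMv_ok h2, pElt_zMv, einv]
    · refine four_mem (by simp [h1, h2, sMv_ok]) ?_ hs
      rw [pElt_three h1 sMv_ok h2, pElt_sMv, einv]
    · have e := pElt_eq (by simp [h1, h2, zMv_ok, hx0]) (by simp [h1, h2, zMv_ok, hx0]) hcen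
      have ea : pElt [n, Mv.xi, ni, zMv] = pElt [n, Mv.xi, ni] * zOne := by
        rw [← pElt_zMv, ← pElt_append (by simp [h1, h2, hx0]) (by simp [zMv_ok])]
        rfl
      have eb : pElt [zMv, n, Mv.xi, ni] = zOne * pElt [n, Mv.xi, ni] := by
        rw [pElt_cons zMv_ok (by simp [h1, h2, hx0]), pElt_zMv]
      rw [ea, eb] at e
      rw [Subgroup.mem_centralizer_singleton_iff, einv, xOne, ← pElt_three h1 hx0 h2]
      exact e

/-- The letters of a word in the generators. -/
def edgeLetters (ks : List ℕ) : List Mv :=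
  ks.map fun k => (edgeGens.getD k (zMv, zMv, zMv)).1

theorem pass_word : ∀ ks : List ℕ, (∀ k ∈ ks, k < edgeGens.length) →
    (edgeLetters ks).all Mv.ok = true ∧ Pass A (pElt (edgeLetters ks))
  | [], _ => ⟨rfl, by rw [edgeLetters, List.map_nil, pElt_nil]; exact pass_one A⟩
  | k :: ks, h => by
    obtain ⟨h1, h2⟩ := pass_word ks fun j hj => h j (List.mem_cons_of_mem _ hj)
    have hk := h k List.mem_cons_self
    have hmem : edgeGens.getD k (zMv, zMv, zMv) ∈ edgeGens := by
      rw [List.getD_eq_getElem _ _ hk]; exact List.getElem_mem hk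
    have hok : (edgeGens.getD k (zMv, zMv, zMv)).1.ok = true := by
      have := List.all_eq_true.1 edgeGens_ok _ hmem
      simp only [edgeGenOK, Bool.and_eq_true] at this
      exact this.1.1.1.1.1.1.1
    refine ⟨?_, ?_⟩
    · rw [edgeLetters] at h1
      simp only [edgeLetters, List.map_cons, List.all_cons, hok, h1, Bool.and_self]
    · rw [edgeLetters, List.map_cons, ← edgeLetters, pElt_cons hok h1]
      exact (pass_gen A hmem).mul A h2

theorem edgeWords_ok : edgeWords.all (fun x => isCode x.1 && x.2.all (fun k => Nat.blt k edgeGens.length)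
    && sameVal (edgeLetters x.2 ++ [zMv]) (Mv.mono idTab x.1 :: edgeLetters x.2)) = true := by
  decide +kernel

/-- Every monomial element normalising the coset passes through. -/
theorem pass_of_mem {l : Spor.Co1} (hl : l ∈ nOne) (hl' : xOne * l * xOne ∈ nOne) : Pass A l := by
  obtain ⟨c, hc, hcard, ec⟩ := sign_conj_z hl
  obtain ⟨c', hc', -, ec'⟩ := sign_conj_z hl'
  have hxc : xOne * projC (signCo0 c hc) * xOne = projC (signCo0 c' hc') := by
    rw [← ec, ← ec']
    have hzx : xOne * zOne = zOne * xOne := Subgroup.mem_centralizer_singleton_iff.1 xOne_mem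
    have hi : xOne⁻¹ = xOne := inv_eq_of_mul_eq_one_right xOne_mul_self
    calc xOne * (l * zOne * l⁻¹) * xOne
        = xOne * l * (xOne * xOne) * zOne * l⁻¹ * xOne := by rw [xOne_mul_self]; group
      _ = xOne * l * xOne * (xOne * zOne) * l⁻¹ * xOne := by group
      _ = xOne * l * xOne * (zOne * xOne) * l⁻¹ * xOne := by rw [hzx]
      _ = xOne * l * xOne * zOne * (xOne⁻¹ * l * xOne⁻¹)⁻¹ := by group
      _ = xOne * l * xOne * zOne * (xOne * l * xOne)⁻¹ := by rw [hi]
  obtain ⟨x, hx, hxe⟩ := mem_edgeWords_of_tet hcard fun p => sign_of_tet hxc p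
  have h := List.all_eq_true.1 edgeWords_ok x hx
  simp only [Bool.and_eq_true, List.all_eq_true, Nat.blt_eq] at h
  obtain ⟨⟨hcode, hlt⟩, hconj⟩ := h
  obtain ⟨hok, hr⟩ := pass_word A x.2 hlt
  have hsign : (Mv.mono idTab x.1).ok = true := by
    have : tableValid idTab = true ∧ preservesCode idTab = true := by decide +kernel
    simp [Mv.ok, this.1, this.2, hcode]
  set r := pElt (edgeLetters x.2) with hr0
  have hrz : r * zOne = projC (signCo0 c hc) * r := by
    have e := pElt_eq (u := edgeLetters x.2 ++ [zMv]) (v := Mv.mono idTab x.1 :: edgeLetters x.2)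
      (by simp [hok, zMv_ok]) (by simp [hok, hsign]) hconj
    rw [pElt_append hok (by simp [zMv_ok]), pElt_zMv, pElt_cons hsign hok] at e
    rw [hr0, e]
    congr 1
    rw [pElt, List.reverse_singleton, coElt, moveElt_mono hsign (one_mem _) rep_idTab hc hxe]
    rfl
  obtain ⟨hr1, hr2, hre⟩ := hr
  have hri : xOne * r⁻¹ * xOne = (xOne * r * xOne)⁻¹ := by
    rw [mul_inv_rev, mul_inv_rev, inv_eq_of_mul_eq_one_right xOne_mul_self, ← mul_assoc]
  have hm : r⁻¹ * l ∈ nOne := mul_mem (inv_mem hr1) hl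
  have hm' : xOne * (r⁻¹ * l) * xOne ∈ nOne := by
    rw [xconj_mul, hri]
    exact mul_mem (inv_mem hr2) hl'
  have hmC : r⁻¹ * l ∈ C1 := by
    rw [Subgroup.mem_centralizer_singleton_iff]
    have e : r * zOne * r⁻¹ = l * zOne * l⁻¹ := by rw [hrz, mul_inv_cancel_right, ec]
    calc r⁻¹ * l * zOne = r⁻¹ * (l * zOne * l⁻¹) * l := by group
      _ = r⁻¹ * (r * zOne * r⁻¹) * l := by rw [e]
      _ = zOne * (r⁻¹ * l) := by group
  have := Pass.mul A ⟨hr1, hr2, hre⟩ (pass_cent A hm hm' hmC)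
  rwa [mul_inv_cancel_left] at this

end CfsgLib.CoOneAmalgam
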