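import Cfsg.Agent.CoOneAmalgam.Defs
import Cfsg.Agent.CoOneOut.Moves
import Cfsg.Agent.CoOneMult.Mat
import Cfsg.Agent.Leech.CrossMax

/-!
# Move lists in product order, compared on one packed vector
-/

set_option autoImplicit false

namespace CfsgLib.CoOneAmalgam

open Cfsg CfsgLib.Mathieu CfsgLib.Leech CfsgLib.CoOneInv CfsgLib.CoOneOut
open CfsgLib.CoOneMult (horner horner_inj pk sum_smul_eight)

/-- The packed start value. -/
def v0 : List ℤ := (List.range 24).map fun i => 8 * (32 : ℤ) ^ i

theorem vec_v0 : vec v0 =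
    ((∑ q, ((32 : ℤ) ^ idx q) • eightL q : leechLattice) : GolayPt → ℤ) := by
  funext p
  rw [sum_smul_eight, vec, v0, getD_map_range _ (idx_lt p)]

theorem v0_mem : vec v0 ∈ leechLattice := by
  rw [vec_v0]
  exact (∑ q, ((32 : ℤ) ^ idx q) • eightL q : leechLattice).2

/-- The image of the packed start value, the last letter of `w` acting first. -/
def valSt (w : List Mv) : List ℤ := w.foldr (fun m l => m.act l) v0

theorem valSt_eq (w : List Mv) : valSt w = runMoves w.reverse v0 := by
  rw [valSt, runMoves, List.foldl_reverse]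

/-- The element of a list, in the order of multiplication. -/
noncomputable def pElt (w : List Mv) : Spor.Co1 := coElt w.reverse

theorem pElt_nil : pElt [] = 1 := coElt_nil

theorem all_reverse_ok {w : List Mv} (hw : w.all Mv.ok = true) : w.reverse.all Mv.ok = true := by
  rwa [List.all_reverse]

theorem pElt_append {u v : List Mv} (hu : u.all Mv.ok = true) (hv : v.all Mv.ok = true) :
    pElt (u ++ v) = pElt u * pElt v := by
  rw [pElt, List.reverse_append, coElt_append (all_reverse_ok hv) (all_reverse_ok hu)]
  rfl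

theorem pElt_cons {m : Mv} {w : List Mv} (hm : m.ok = true) (hw : w.all Mv.ok = true) :
    pElt (m :: w) = pElt [m] * pElt w := by
  rw [← pElt_append (by simp [hm]) hw]
  rfl

/-- Two members of `Co0` with the same image of the packed start value are equal. -/
theorem eq_of_v0 {g h : Co0}
    (e : ((g • (⟨vec v0, v0_mem⟩ : leechLattice) : leechLattice) : GolayPt → ℤ) =
      ((h • (⟨vec v0, v0_mem⟩ : leechLattice) : leechLattice) : GolayPt → ℤ)) : g = h := by
  have hsub : (⟨vec v0, v0_mem⟩ : leechLattice) = ∑ q, ((32 : ℤ) ^ idx q) • eightL q :=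
    Subtype.ext vec_v0
  have hsingle : ∀ q : GolayPt, pk (Pi.single q 1) = (32 : ℤ) ^ idx q := by decide +kernel
  have key : ∀ (g : Co0) (p : GolayPt),
      ((g • (⟨vec v0, v0_mem⟩ : leechLattice) : leechLattice) : GolayPt → ℤ) p =
        pk (fun q => ((g • eightL q : leechLattice) : GolayPt → ℤ) p) := by
    intro g p
    rw [hsub, show g • ∑ q, ((32 : ℤ) ^ idx q) • eightL q = co0Hom g _ from rfl]
    simp only [map_sum, map_zsmul, AddSubmonoidClass.coe_finsetSum, AddSubgroupClass.coe_zsmul,
      Finset.sum_apply, Pi.smul_apply, smul_eq_mul]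
    conv_rhs => rw [show (fun q => ((g • eightL q : leechLattice) : GolayPt → ℤ) p) =
      ∑ q, ((g • eightL q : leechLattice) : GolayPt → ℤ) p • Pi.single q (1 : ℤ) from by
        funext r; simp [Pi.single_apply]]
    rw [map_sum]
    refine Finset.sum_congr rfl fun q _ => ?_
    rw [map_zsmul, hsingle, smul_eq_mul, mul_comm]
    rfl
  refine co0_eq_of_eight fun q => Subtype.ext (funext fun p => ?_)
  have e' := congrFun e p
  rw [key g p, key h p] at e'
  have hb : ∀ (g : Co0) (q : GolayPt),
      (((g • eightL q : leechLattice) : GolayPt → ℤ) p).natAbs ≤ 8 := fun g q =>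
    natAbs_le_eight (by rw [co0_norm, eightL, sqNorm_eight]; norm_num) p
  have := horner_inj (f := fun i => ((g • eightL (pt i) : leechLattice) : GolayPt → ℤ) p)
    (g := fun i => ((h • eightL (pt i) : leechLattice) : GolayPt → ℤ) p)
    (fun j => (hb g (pt j)).trans (by omega)) (fun j => (hb h (pt j)).trans (by omega)) 24 0 e'
    (idx q) (idx_lt q)
  simpa [pt_idx] using this

/-- The two lists agree modulo signs. -/
def sameVal (u v : List Mv) : Bool :=
  decide (valSt u = valSt v) || decide (valSt u = (valSt v).map fun x => -x)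

theorem pElt_eq {u v : List Mv} (hu : u.all Mv.ok = true) (hv : v.all Mv.ok = true)
    (h : sameVal u v = true) : pElt u = pElt v := by
  have spec : ∀ {w : List Mv}, w.all Mv.ok = true →
      ((moveElt w.reverse • (⟨vec v0, v0_mem⟩ : leechLattice) : leechLattice) : GolayPt → ℤ) =
        vec (valSt w) := fun {w} hw => by
    rw [moveElt_spec (all_reverse_ok hw), valSt_eq]
  simp only [sameVal, Bool.or_eq_true, decide_eq_true_eq] at h
  rcases h with h | h
  · rw [pElt, coElt, eq_of_v0 (g := moveElt u.reverse) (h := moveElt v.reverse)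
      (by rw [spec hu, spec hv, h])]
    rfl
  · rw [pElt, coElt, eq_of_v0 (g := moveElt u.reverse) (h := negCo0 * moveElt v.reverse) (by
      rw [mul_smul, negCo0_smul, spec hu, spec hv, h]
      funext p
      simp only [vec, Pi.neg_apply, List.getD_eq_getElem?_getD, List.getElem?_map]
      cases (valSt v)[idx p]? <;> simp), map_mul, projC_negCo0, one_mul]
    rfl

/-! ### The distinguished letters -/

/-- The identity table. -/
def idTab : ℕ := ((List.range 24).map fun i => i * 2 ^ (8 * i)).sum

/-- The sign change on the base octad. -/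
def zMv : Mv := .mono idTab m24BaseOctad

/-- The sign change on the second octad. -/
def sMv : Mv := .mono idTab sMask

theorem rep_idTab : Rep enc (1 : Equiv.Perm GolayPt) idTab :=
  rep_of_tableOK id (fun _ => rfl) (by decide +kernel)

theorem zMv_ok : zMv.ok = true := by decide +kernel

theorem sMv_ok : sMv.ok = true := by decide +kernel

theorem pElt_zMv : pElt [zMv] = zOne := by
  rw [pElt, List.reverse_singleton, coElt, zMv,
    moveElt_mono zMv_ok (one_mem _) rep_idTab octO_supports rfl]
  rfl

theorem pElt_sMv : pElt [sMv] = sOne := by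
  rw [pElt, List.reverse_singleton, coElt, sMv,
    moveElt_mono sMv_ok (one_mem _) rep_idTab (setOf24_mem_supports sMask_code) rfl]
  rfl

/-- The sextet involution. -/
noncomputable def xOne : Spor.Co1 := pElt [Mv.xi]

/-- A monomial letter. -/
def isMono : Mv → Bool
  | .mono _ _ => true
  | .xi => false

theorem pElt_mono_mem {m : Mv} (hm : m.ok = true) (h : isMono m = true) : pElt [m] ∈ nOne := by
  cases m with
  | xi => simp [isMono] at h
  | mono t c =>
    obtain ⟨τ, hτ, hc, -, e⟩ := ok_mono hm
    exact ⟨_, monoCo0_mem_monoGroup τ hτ (setOf24 c) hc, by rw [pElt, List.reverse_singleton, coElt, e]⟩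

/-- A monomial letter or the sextet involution, commuting with the base involution. -/
def isCent (m : Mv) : Bool := sameVal [m, zMv] [zMv, m]

theorem pElt_cent_mem {m : Mv} (hm : m.ok = true) (h : isCent m = true) : pElt [m] ∈ C1 := by
  rw [Subgroup.mem_centralizer_singleton_iff]
  have e := pElt_eq (u := [m, zMv]) (v := [zMv, m]) (by simp [hm, zMv_ok]) (by simp [hm, zMv_ok]) h
  rw [pElt_cons hm (by simp [zMv_ok]), pElt_zMv, pElt_cons zMv_ok (by simp [hm]), pElt_zMv] at e
  exact e

theorem xOne_mem : xOne ∈ C1 := pElt_cent_mem rfl (by decide +kernel)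

theorem xOne_mul_self : xOne * xOne = 1 := by
  have e := pElt_eq (u := [Mv.xi, Mv.xi]) (v := []) rfl rfl (by decide +kernel)
  rwa [pElt_cons rfl rfl, pElt_nil] at e

theorem xOne_comm_s : xOne * sOne = sOne * xOne := by
  have e := pElt_eq (u := [Mv.xi, sMv]) (v := [sMv, Mv.xi]) (by simp [sMv_ok]; rfl)
    (by simp [sMv_ok]; rfl) (by decide +kernel)
  have h1 := pElt_append (u := [Mv.xi]) (v := [sMv]) rfl (by simp [sMv_ok])
  have h2 := pElt_append (u := [sMv]) (v := [Mv.xi]) (by simp [sMv_ok]) rfl
  rw [pElt_sMv] at h1 h2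
  exact h1.symm.trans (e.trans h2)

end CfsgLib.CoOneAmalgam
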