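import Cfsg.Agent.CoOneAmalgam.Theta
import Cfsg.Agent.CoOneAmalgam.Letters

/-!
# The amalgam map into a group of Conway type
-/

set_option autoImplicit false

namespace CfsgLib.CoOneAmalgam

open Cfsg CfsgLib.ConwayType CfsgLib.ConwayGolay
open CfsgLib.CoOneInv (zOne C1)

/-- The elements of `C1` commuting with the second involution. -/
noncomputable def kOne : Subgroup Spor.Co1 := C1 ⊓ Subgroup.centralizer ({sOne} : Set Spor.Co1)

theorem sOne_mul_self : sOne * sOne = 1 := by
  rw [← pElt_sMv, ← pElt_append (by simp [sMv_ok]) (by simp [sMv_ok]), ← pElt_nil]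
  exact pElt_eq (by simp [sMv_ok]) rfl (by decide +kernel)

theorem sOne_ne : sOne ≠ 1 ∧ sOne ≠ zOne := by
  have key : (∀ n ∈ pOne, n * sOne * n⁻¹ = sOne) → False := fun h => by
    have h2 : orb pOne sOne ⊆ {sOne} := fun a ha => by
      obtain ⟨n, hn, rfl⟩ := mem_orb.1 ha
      rw [Finset.mem_singleton, h n hn]
    have := Finset.card_le_card h2
    rw [orb_sOne.2, Finset.card_singleton] at this
    omega
  exact ⟨fun e => key fun n _ => by rw [e]; group, fun e => key fun n hn => by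
    rw [e, Subgroup.mem_centralizer_singleton_iff.1 hn.2, mul_inv_cancel_right]⟩

/-- The index of the monomial part of `kOne` is odd. -/
theorem odd_index_kOne {G : Type*} [Group G] {z : G} {Q : Subgroup G} {π : G → V8}
    {D : Data z Q π} (E : Emb D) : Odd (nOne.subgroupOf kOne).index := by
  classical
  have hK := card_orb C1 sOne
  have hP := card_orb pOne sOne
  rw [orb_sOne.2, E.card] at hP
  rw [card_C1] at hK
  -- the orbit of `sOne` is closed under multiplication by `zOne`
  have heven : 2 ∣ (orb C1 sOne).card := by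
    obtain ⟨hs, -⟩ := orb_sOne
    have hmove : ∀ a ∈ orb C1 sOne, zOne * a ∈ orb C1 sOne := by
      intro a ha
      obtain ⟨c, hc, rfl⟩ := mem_orb.1 ha
      let sq : qOne := ⟨sOne, hs⟩
      obtain ⟨q, hq⟩ : ∃ q : qOne, sq * q ≠ q * sq := by
        by_contra hno
        push Not at hno
        rcases D.sub.mem_of_commutes (c := E.qf sq) (fun x hx => by
          obtain ⟨q, rfl⟩ := E.qf_surj x hx
          rw [← map_mul, ← map_mul, hno q]) with e | e
        · exact sOne_ne.1 (congrArg Subtype.val (E.qf_injective (e.trans (map_one E.qf).symm)))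
        · exact sOne_ne.2 (congrArg Subtype.val (E.qf_injective (e.trans E.qf_z.symm)))
      have hc2 : q * sq * q⁻¹ = ⟨zOne, E.zOne_mem_qOne⟩ * sq := by
        refine E.qf_injective ?_
        rw [map_mul, map_mul, map_mul, map_inv, E.qf_z]
        exact (D.sub.conj_eq (E.qf_mem q) (E.qf_mem sq)).resolve_left fun e => hq (E.qf_injective (by
          rw [map_mul, map_mul]; exact (mul_inv_eq_iff_eq_mul.1 e).symm))
      have hc2' : (q : Spor.Co1) * sOne * (q : Spor.Co1)⁻¹ = zOne * sOne := congrArg Subtype.val hc2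
      refine mem_orb.2 ⟨c * q, mul_mem hc (qOne_le_C1 q.2), ?_⟩
      rw [show c * q * sOne * (c * q)⁻¹ = c * ((q : Spor.Co1) * sOne * (q : Spor.Co1)⁻¹) * c⁻¹ by group,
        hc2', ← mul_assoc, Subgroup.mem_centralizer_singleton_iff.1 hc]
      group
    have h0 : ∑ _a ∈ orb C1 sOne, (1 : ZMod 2) = 0 :=
      Finset.sum_involution (fun a _ => zOne * a) (fun _ _ => by decide) (fun a _ _ h => by
        have := mul_eq_right.1 h
        exact (by
          have h2 := CfsgLib.CoOneInv.orderOf_zOne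
          rw [this, orderOf_one] at h2
          exact absurd h2 (by norm_num))) hmove (fun a _ => by
        rw [← mul_assoc, zOne_mul_self, one_mul])
    rw [Finset.sum_const, nsmul_eq_mul, mul_one] at h0
    exact (ZMod.natCast_eq_zero_iff _ 2).1 h0
  have hH : Nat.card (nOne.subgroupOf kOne) =
      Nat.card ↥(pOne ⊓ Subgroup.centralizer ({sOne} : Set Spor.Co1)) := by
    refine Nat.card_congr
      { toFun := fun x => ⟨(x : kOne).1, ⟨x.2, (x : kOne).2.1⟩, (x : kOne).2.2⟩
        invFun := fun x => ⟨⟨x.1, x.2.1.2, x.2.2⟩, x.2.1.1⟩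
        left_inv := fun _ => rfl
        right_inv := fun _ => rfl }
  have hi := (nOne.subgroupOf kOne).card_mul_index
  rw [hH] at hi
  obtain ⟨j, hj⟩ := heven
  change _ = Nat.card ↥(C1 ⊓ Subgroup.centralizer ({sOne} : Set Spor.Co1)) at hi
  rw [← hi, hj] at hK
  generalize Nat.card ↥(pOne ⊓ Subgroup.centralizer ({sOne} : Set Spor.Co1)) = h at hP hK
  generalize (nOne.subgroupOf kOne).index = i at hK ⊢
  have hh : h = 22020096 := by omega
  subst hh
  have h2 : j * i = 2025 := by
    have e : 2 * j * (22020096 * i) = 44040192 * (j * i) := by ring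
    rw [e] at hK
    omega
  rcases Nat.even_or_odd i with ⟨r, hr⟩ | h
  · exfalso
    have e : j * i = 2 * (j * r) := by rw [hr]; ring
    omega
  · exact h

variable {G : Type*} [Group G] [Finite G] {z s : G} {Q P : Subgroup G} {π : G → V8}

/-- Only the four group centralizes the part of the extraspecial subgroup commuting with `sOne`. -/
theorem cent_of_cent_s {D : Data z Q π} (E : Emb D) (hs : sOne ∈ qOne) {c : C1}
    (h : ∀ q : qOne, (q : Spor.Co1) * sOne = sOne * q → cj c q = q) :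
    (c : Spor.Co1) = 1 ∨ (c : Spor.Co1) = zOne ∨ (c : Spor.Co1) = sOne ∨
      (c : Spor.Co1) = zOne * sOne := by
  let sq : qOne := ⟨sOne, hs⟩
  set t := π (E.qf sq) with ht
  have ht0 : t ≠ 0 := by
    intro e
    rcases D.mem_of_π_zero (E.qf_mem sq) e with h1 | h1
    · exact sOne_ne.1 (congrArg Subtype.val (E.qf_injective (h1.trans (map_one E.qf).symm)))
    · exact sOne_ne.2 (congrArg Subtype.val (E.qf_injective (h1.trans E.qf_z.symm)))
  have htq : q8 t = false := (D.sq _ (E.qf_mem sq)).1 (by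
    rw [← map_mul, show sq * sq = 1 from Subtype.ext sOne_mul_self, map_one])
  have hfix : ∀ q : qOne, b8 (π (E.qf q)) t = false → cj c q = q := fun q hq => h q
    (congrArg Subtype.val (E.qf_injective (a₁ := q * sq) (a₂ := sq * q) (by
      rw [map_mul, map_mul]; exact (D.commute_iff (E.qf_mem q) (E.qf_mem sq)).2 hq)))
  have hid : ∀ v, E.act1 c v = v := eq_id_of_orth (E.act1_iso c) ht0 htq fun v hv => by
    obtain ⟨q, rfl⟩ := E.exists_pre v
    rw [E.act1_π, hfix q hv]
  have hcq := E.mem_of_act1 hid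
  let cq : qOne := ⟨c, hcq⟩
  set t' := π (E.qf cq) with ht'
  have horth : ∀ v, b8 v t = false → b8 v t' = false := fun v hv => by
    obtain ⟨q, rfl⟩ := E.exists_pre v
    refine (D.commute_iff (E.qf_mem q) (E.qf_mem cq)).1 ?_
    rw [← map_mul, ← map_mul]
    exact congrArg E.qf (Subtype.ext
      (mul_inv_eq_iff_eq_mul.1 (congrArg Subtype.val (hfix q hv))).symm)
  rcases not_orth t t' with e | e | e | e
  · exact absurd e ht0
  · rcases D.mem_of_π_zero (E.qf_mem cq) e with h1 | h1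
    · exact Or.inl (congrArg Subtype.val (E.qf_injective (h1.trans (map_one E.qf).symm)))
    · exact Or.inr (Or.inl (congrArg Subtype.val (E.qf_injective (h1.trans E.qf_z.symm))))
  · rcases D.eq_or_eq_of_π_eq (E.qf_mem sq) (E.qf_mem cq) e.symm with h1 | h1
    · exact Or.inr (Or.inr (Or.inl (congrArg Subtype.val (E.qf_injective h1))))
    · rw [← E.qf_z_mul] at h1
      exact Or.inr (Or.inr (Or.inr (congrArg Subtype.val (E.qf_injective h1))))
  · simp only [List.any_eq_true, Bool.and_eq_true, Bool.not_eq_true'] at e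
    obtain ⟨a, -, b, -, e1, e2⟩ := e
    rw [horth _ e1] at e2
    simp at e2

/-- The amalgam map, injective on the centralizer and onto the centralizer of `z`. -/
theorem exists_amalgamMap (F : Frame z Q π P s) (hgood : Good F)
    (e : nOne ≃* Subgroup.normalizer (theA F.data : Set G))
    (hz : ((e ⟨zOne, zOne_mem_nOne⟩ : _) : G) = z)
    (hA : ∀ x : nOne, (x : Spor.Co1) ∈ aOne ↔ (e x : G) ∈ theA F.data) :
    ∃ A : AmalgamMap G, (∀ a, A.toN a = (e a : G)) ∧ Function.Injective A.toC ∧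
      A.toC.range = Subgroup.centralizer ({z} : Set G) := by
  classical
  obtain ⟨E, hE⟩ := exists_emb F hgood e hz hA
  obtain ⟨θ, hθi, hθr, hθe⟩ := E.exists_theta
  let toN : nOne →* G := (Subgroup.normalizer (theA F.data : Set G)).subtype.comp e.toMonoidHom
  have hagree : ∀ (a : Spor.Co1) (hN : a ∈ nOne) (hC : a ∈ C1), toN ⟨a, hN⟩ = θ ⟨a, hC⟩ :=
    fun a hN hC => ((hθe ⟨a, hN, hC⟩).trans (hE ⟨a, hN, hC⟩)).symm
  refine ⟨⟨toN, θ, hagree, ?_⟩, fun _ => rfl, hθi, hθr⟩
  intro n k hn hk hnk hks hnz hns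
  obtain ⟨hs, -⟩ := orb_sOne
  have hsz : sOne * zOne = zOne * sOne :=
    Subgroup.mem_centralizer_singleton_iff.1 (qOne_le_C1 hs)
  -- a member of the four group going to `zOne`
  obtain ⟨a, haC, hna⟩ : ∃ a, (∀ m ∈ kOne, m * a = a * m) ∧ n * a * n⁻¹ = zOne := by
    have hcz : ∀ m ∈ kOne, m * zOne = zOne * m := fun m hm =>
      Subgroup.mem_centralizer_singleton_iff.1 hm.1
    have hcs : ∀ m ∈ kOne, m * sOne = sOne * m := fun m hm =>
      Subgroup.mem_centralizer_singleton_iff.1 hm.2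
    have hne : n * zOne * n⁻¹ ≠ n * sOne * n⁻¹ := fun h =>
      sOne_ne.2 (mul_left_cancel (mul_right_cancel h)).symm
    simp only [Set.mem_insert_iff, Set.mem_singleton_iff] at hnz hns
    have hmul : n * (zOne * sOne) * n⁻¹ = (n * zOne * n⁻¹) * (n * sOne * n⁻¹) := by group
    have hczs : ∀ m ∈ kOne, m * (zOne * sOne) = zOne * sOne * m := fun m hm => by
      rw [← mul_assoc, hcz m hm, mul_assoc, hcs m hm, mul_assoc]
    rcases hnz with e1 | e1 | e1
    · exact ⟨zOne, hcz, e1⟩
    all_goals rcases hns with e2 | e2 | e2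
    · exact ⟨sOne, hcs, e2⟩
    · exact absurd (e1.trans e2.symm) hne
    · exact ⟨zOne * sOne, hczs, by
        rw [hmul, e1, e2, ← mul_assoc, hsz, mul_assoc, sOne_mul_self, mul_one]⟩
    · exact ⟨sOne, hcs, e2⟩
    · exact ⟨zOne * sOne, hczs, by rw [hmul, e1, e2, mul_assoc, sOne_mul_self, mul_one]⟩
    · exact absurd (e1.trans e2.symm) hne
  have hmC : ∀ m ∈ kOne, n * m * n⁻¹ ∈ C1 := fun m hm => by
    rw [Subgroup.mem_centralizer_singleton_iff, ← hna]
    calc n * m * n⁻¹ * (n * a * n⁻¹) = n * (m * a) * n⁻¹ := by group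
      _ = n * (a * m) * n⁻¹ := by rw [haC m hm]
      _ = n * a * n⁻¹ * (n * m * n⁻¹) := by group
  set x : G := toN ⟨n, hn⟩ with hx
  let cn : kOne →* C1 := MonoidHom.mk' (fun m => ⟨n * m * n⁻¹, hmC m m.2⟩) fun a b =>
    Subtype.ext (by show n * ((a : Spor.Co1) * b) * n⁻¹ = _ * _; simp only; group)
  let inc : kOne →* C1 := Subgroup.inclusion (show kOne ≤ C1 from fun _ h => h.1)
  let γ : kOne →* G := (MulAut.conj x⁻¹).toMonoidHom.comp (θ.comp cn)
  have hγ : ∀ m, γ m = x⁻¹ * θ (cn m) * x := fun m => by simp [γ]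
  -- on the monomial part the two maps agree
  have hsame : ∀ m : kOne, (m : Spor.Co1) ∈ nOne → γ m = θ (inc m) := by
    intro m hm
    have h1 : n * m * n⁻¹ ∈ nOne := mul_mem (mul_mem hn hm) (inv_mem hn)
    rw [hγ, show θ (inc m) = toN ⟨m, hm⟩ from (hagree _ hm _).symm, show θ (cn m) = toN ⟨_, h1⟩ from (hagree _ h1 _).symm, hx,
      ← map_inv, ← map_mul, ← map_mul]
    congr 1
    exact Subtype.ext (by show n⁻¹ * (n * m * n⁻¹) * n = m; group)
  -- the quotient of the two maps
  have hzk : zOne ∈ kOne :=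
    ⟨Subgroup.mem_centralizer_singleton_iff.2 rfl, Subgroup.mem_centralizer_singleton_iff.2 hsz.symm⟩
  have hθz : ∀ h : zOne ∈ C1, θ ⟨zOne, h⟩ = z := fun h => by
    rw [← hagree zOne zOne_mem_nOne h]; exact hz
  have hγz : ∀ m : kOne, γ m * z = z * γ m := by
    intro m
    have h1 : γ ⟨zOne, hzk⟩ = z := (hsame _ zOne_mem_nOne).trans (hθz _)
    rw [← h1, ← map_mul, ← map_mul]
    exact congrArg γ (Subtype.ext (Subgroup.mem_centralizer_singleton_iff.1 m.2.1))
  have hD : ∀ m : kOne, ∃ c : C1, ((c : Spor.Co1) = 1 ∨ (c : Spor.Co1) = zOne ∨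
      (c : Spor.Co1) = sOne ∨ (c : Spor.Co1) = zOne * sOne) ∧ γ m = θ (inc m) * θ c := by
    intro m
    obtain ⟨c, hc⟩ : (θ (inc m))⁻¹ * γ m ∈ θ.range := by
      refine mul_mem (inv_mem ⟨_, rfl⟩) ?_
      rw [hθr]; exact Subgroup.mem_centralizer_singleton_iff.2 (hγz m)
    refine ⟨c, cent_of_cent_s E hs fun q hq => ?_, by rw [hc, mul_inv_cancel_left]⟩
    have hqk : (q : Spor.Co1) ∈ kOne :=
      ⟨qOne_le_C1 q.2, Subgroup.mem_centralizer_singleton_iff.2 hq⟩
    let r : kOne := ⟨q, hqk⟩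
    have hqn : ∀ w : qOne, (w : Spor.Co1) ∈ nOne := fun w => (qOne_le_pOne w.2).1
    have hr' : ((m * r * m⁻¹ : kOne) : Spor.Co1) ∈ nOne := hqn (cj (inc m) q)
    have h1 := hsame (m * r * m⁻¹) hr'
    simp only [map_mul, map_inv, hsame r (hqn q)] at h1
    have hγm : γ m = θ (inc m) * θ c := by rw [hc, mul_inv_cancel_left]
    rw [hγm] at h1
    have h2 : θ c * θ (inc r) * (θ c)⁻¹ = θ (inc r) := by
      have h1' : θ (inc m) * (θ c * θ (inc r) * (θ c)⁻¹) * (θ (inc m))⁻¹ =
          θ (inc m) * θ (inc r) * (θ (inc m))⁻¹ := by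
        rw [← h1]; group
      exact mul_left_cancel (mul_right_cancel h1')
    rw [← map_inv, ← map_mul, ← map_mul] at h2
    have h3 : c * inc r * c⁻¹ = inc r := hθi h2
    have h4 := congrArg (fun w : C1 => (w : Spor.Co1)) h3
    exact Subtype.ext h4
  choose cD hcD hγD using hD
  have hcen : ∀ (m m' : kOne), cD m * inc m' = inc m' * cD m := fun m m' => Subtype.ext (by
    have h1 := Subgroup.mem_centralizer_singleton_iff.1 m'.2.1
    have h2 := Subgroup.mem_centralizer_singleton_iff.1 m'.2.2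
    show (cD m : Spor.Co1) * m' = m' * (cD m : Spor.Co1)
    rcases hcD m with h | h | h | h <;> rw [h]
    · simp
    · exact h1.symm
    · exact h2.symm
    · rw [mul_assoc, ← h2, ← mul_assoc, ← h1, mul_assoc])
  let δ : kOne →* C1 := MonoidHom.mk' cD fun a b => hθi (by
    have h := hγD (a * b)
    rw [map_mul γ, hγD a, hγD b, map_mul inc, map_mul θ] at h
    rw [map_mul]
    refine mul_left_cancel (a := θ (inc a) * θ (inc b)) ?_
    rw [← h, mul_assoc, mul_assoc (θ (inc a)), ← mul_assoc (θ (cD a)), ← map_mul θ (cD a), hcen,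
      map_mul θ]
    group)
  haveI := finite_C1
  have hsq : ∀ y : δ.range, y * y = 1 := by
    rintro ⟨y, m, rfl⟩
    refine Subtype.ext (Subtype.ext ?_)
    show (cD m : Spor.Co1) * (cD m : Spor.Co1) = 1
    rcases hcD m with h | h | h | h <;> rw [h]
    · exact one_mul 1
    · exact zOne_mul_self
    · exact sOne_mul_self
    · rw [mul_assoc, ← mul_assoc sOne, hsz, mul_assoc, sOne_mul_self, mul_one, zOne_mul_self]
  have hone := eq_one_of_odd_index hsq δ.rangeRestrict (nOne.subgroupOf kOne) (fun m hm => by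
    refine Subtype.ext ?_
    show cD m = 1
    refine hθi ?_
    have h := hγD m
    rw [hsame m hm] at h
    rw [map_one]
    exact mul_eq_left.1 h.symm) (odd_index_kOne E)
  have hk' : k ∈ kOne := ⟨hk, Subgroup.mem_centralizer_singleton_iff.2 hks⟩
  have h1 : cD ⟨k, hk'⟩ = 1 := congrArg Subtype.val (hone ⟨k, hk'⟩)
  have h := hγD ⟨k, hk'⟩
  rw [h1, map_one, mul_one, hγ] at h
  show x * θ ⟨k, hk⟩ * x⁻¹ = θ ⟨n * k * n⁻¹, hnk⟩
  change x⁻¹ * θ ⟨n * k * n⁻¹, _⟩ * x = θ ⟨k, _⟩ at h
  rw [← h]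
  group

end CfsgLib.CoOneAmalgam
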