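import Cfsg.Agent.CoOneAmalgam.WholeData
import Cfsg.Agent.Mathieu.Code
import Cfsg.Agent.Mathieu.Chain

/-!
# Constant weight twelve subgroups of the Golay code leave an octad uncovered
-/

set_option autoImplicit false
set_option maxRecDepth 100000
set_option maxHeartbeats 2000000

namespace CfsgLib.CoOneAmalgam.Cover

open CfsgLib.Mathieu

/-- Weight of a 24-bit mask by parallel addition. -/
def pc (a : ℕ) : ℕ :=
  let a1 := a - ((Nat.shiftRight a 1).land 5592405)
  let a2 := (a1.land 3355443) + ((Nat.shiftRight a1 2).land 3355443)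
  let a3 := (a2 + Nat.shiftRight a2 4).land 986895
  (Nat.shiftRight (a3 * 65793) 16).land 255

theorem pc_eq {a : ℕ} (h : isCode a = true) : pc a = wt a := by
  have key : allBelow 4096 (fun m => Nat.beq (pc (codeMask m)) (wt (codeMask m))) = true := by
    decide +kernel
  obtain ⟨m, hm, rfl⟩ := exists_codeMask h
  exact Nat.eq_of_beq_eq_true (allBelow_iff.1 key m hm)

/-- Both members of the pair of `c` have product of weight twelve with `o`. -/
def unc (c o : ℕ) : Bool := Nat.beq (pc (c.xor o)) 12 && Nat.beq (pc ((c.xor uMask).xor o)) 12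

/-- The test octads left uncovered. -/
def mask (c : ℕ) : List ℕ → ℕ → ℕ
  | [], _ => 0
  | o :: os, k => (if unc c o then Nat.shiftLeft 1 k else 0) + mask c os (k + 1)

/-- Some test octad is left uncovered by the span. -/
def anyUnc (e m : ℕ) : List ℕ → ℕ → Bool
  | [], _ => false
  | o :: os, k => (Nat.beq ((Nat.shiftRight m k).land 1) 1 && unc e o) || anyUnc e m os (k + 1)

/-- Compatible pairs. -/
def compat (c d : ℕ) : Bool := Nat.beq (pc (c.xor d)) 12 && Nat.beq (pc ((c.xor d).xor uMask)) 12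

/-- All pairs are fine. -/
def pairsOK : List (ℕ × ℕ) → Bool
  | [] => true
  | (c, M) :: rest =>
    (rest.all fun q => !compat c q.1 || anyUnc (c.xor q.1) (M.land q.2) testOct 0) && pairsOK rest

theorem pairsOK_spec : pairsOK dodReps = true := by decide +kernel

theorem masks_spec : (dodReps.all fun q => Nat.beq (mask q.1 testOct 0) q.2) = true := by decide +kernel

theorem singles_spec : (dodReps.all fun q => !(Nat.beq q.2 0)) = true := by decide +kernel

theorem reps_complete : allBelow 4096 (fun m =>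
    let a := codeMask m
    !(Nat.ble (a + 1) 8388608 && Nat.beq (pc a) 12 && Nat.beq (pc (a.xor uMask)) 12) ||
      dodReps.any (fun q => Nat.beq q.1 a || Nat.beq q.1 (a.xor uMask))) = true := by decide +kernel

theorem testOct_spec : (testOct.all fun o =>
    isCode o && Nat.beq (wt o) 8 && Nat.beq (wt (o.xor uMask)) 12) = true := by decide +kernel

theorem masks_spec' {q : ℕ × ℕ} (hq : q ∈ dodReps) : mask q.1 testOct 0 = q.2 :=
  Nat.eq_of_beq_eq_true (List.all_eq_true.1 masks_spec q hq)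

theorem mask_lt (c : ℕ) : ∀ (os : List ℕ) (k : ℕ),
    ∃ r, mask c os k = 2 ^ k * r ∧ (∀ i (h : i < os.length), r.testBit i = unc c os[i]) := by
  intro os
  induction os with
  | nil => intro k; exact ⟨0, by simp [mask], fun i h => absurd h (by simp)⟩
  | cons o os ih =>
    intro k
    obtain ⟨r, hr, hbit⟩ := ih (k + 1)
    refine ⟨(if unc c o then 1 else 0) + 2 * r, ?_, fun i hi => ?_⟩
    · rw [mask, hr, show Nat.shiftLeft 1 k = 1 <<< k from rfl, Nat.one_shiftLeft]
      split_ifs <;> ring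
    · rcases i with _ | i
      · cases hu : unc c o <;> simp [hu, Nat.testBit_zero]
      · have h2 : ((if unc c o then 1 else 0) + 2 * r) / 2 = r := by split_ifs <;> omega
        rw [Nat.testBit_succ, h2, hbit i (by simpa using hi)]
        simp

theorem anyUnc_spec (e m : ℕ) : ∀ (os : List ℕ) (k : ℕ), anyUnc e m os k = true →
    ∃ i, ∃ h : i < os.length, m.testBit (k + i) = true ∧ unc e os[i] = true := by
  intro os
  induction os with
  | nil => intro k h; simp [anyUnc] at h
  | cons o os ih =>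
    intro k h
    rw [anyUnc, Bool.or_eq_true, Bool.and_eq_true] at h
    rcases h with ⟨h1, h2⟩ | h
    · refine ⟨0, by simp, ?_, h2⟩
      have h3 : (m >>> k) &&& 1 = 1 := Nat.eq_of_beq_eq_true h1
      rw [Nat.add_zero, Nat.testBit, Nat.one_and_eq_mod_two, ← Nat.and_one_is_mod, h3]; rfl
    · obtain ⟨i, hi, h1, h2⟩ := ih (k + 1) h
      exact ⟨i + 1, by simpa using hi, by rw [show k + (i + 1) = k + 1 + i by omega]; exact h1, by
        simpa using h2⟩

theorem pairsOK_mem : ∀ {l : List (ℕ × ℕ)}, pairsOK l = true → ∀ (p q : ℕ × ℕ), p ∈ l → q ∈ l → p ≠ q →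
    compat p.1 q.1 = true →
    anyUnc (p.1 ^^^ q.1) (p.2 &&& q.2) testOct 0 = true ∨ anyUnc (q.1 ^^^ p.1) (q.2 &&& p.2) testOct 0 = true
  | [], _ => fun p q hp => by simp at hp
  | (c, M) :: rest, h => by
    intro p q hp hq hne hc
    rw [pairsOK, Bool.and_eq_true, List.all_eq_true] at h
    obtain ⟨h1, h2⟩ := h
    rcases List.mem_cons.1 hp with rfl | hp'
    · rcases List.mem_cons.1 hq with rfl | hq'
      · exact absurd rfl hne
      · have := h1 q hq'
        rw [hc] at this
        exact Or.inl this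
    · rcases List.mem_cons.1 hq with rfl | hq'
      · have := h1 p hp'
        rw [show compat c p.1 = compat p.1 c by simp only [compat]; rw [show c.xor p.1 = p.1.xor c from Nat.xor_comm c p.1], hc] at this
        exact Or.inr this
      · exact pairsOK_mem h2 p q hp' hq' hne hc

theorem eq_of_xor_eq_zero {a b : ℕ} (h : a ^^^ b = 0) : a = b := by
  have := congrArg (· ^^^ b) h
  simpa using this

/-- A finite set of masks closed under exclusive or. -/
theorem card_doubles {s : Finset ℕ} (hs : ∀ a ∈ s, ∀ b ∈ s, a ^^^ b ∈ s) {c : ℕ} (hc : c ∉ s) :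
    (s ∪ s.image (· ^^^ c)).card = 2 * s.card ∧
      ∀ a ∈ s ∪ s.image (· ^^^ c), ∀ b ∈ s ∪ s.image (· ^^^ c), a ^^^ b ∈ s ∪ s.image (· ^^^ c) := by
  refine ⟨?_, fun a ha b hb => ?_⟩
  · rw [Finset.card_union_of_disjoint, Finset.card_image_of_injective _ (fun a b h => Nat.xor_left_injective h)]
    · omega
    · refine Finset.disjoint_left.2 fun a ha him => hc ?_
      obtain ⟨b, hb', e⟩ := Finset.mem_image.1 him
      subst e
      have := hs _ hb' _ ha
      rwa [Nat.xor_xor_cancel_left] at this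
  · simp only [Finset.mem_union, Finset.mem_image] at ha hb ⊢
    rcases ha with ha | ⟨a', ha, rfl⟩ <;> rcases hb with hb | ⟨b', hb, rfl⟩
    · exact Or.inl (hs a ha b hb)
    · exact Or.inr ⟨a ^^^ b', hs a ha b' hb, Nat.xor_assoc a b' c⟩
    · exact Or.inr ⟨a' ^^^ b, hs a' ha b hb, by rw [Nat.xor_assoc, Nat.xor_comm b c, ← Nat.xor_assoc]⟩
    · refine Or.inl ?_
      rw [show a' ^^^ c ^^^ (b' ^^^ c) = a' ^^^ b' by
        rw [Nat.xor_comm b' c, Nat.xor_assoc, Nat.xor_xor_cancel_left]]
      exact hs a' ha b' hb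

theorem wt_eq_sum (a : ℕ) : wt a = ∑ i ∈ Finset.range 24, if a.testBit i then 1 else 0 := by
  rw [wt, pop_eq, Finset.card_filter]

/-- No sixteen masks below `2 ^ 23` closed under exclusive or all have weight twelve. -/
theorem card_ne_sixteen {s : Finset ℕ} (hs : ∀ a ∈ s, ∀ b ∈ s, a ^^^ b ∈ s) (h0 : 0 ∈ s)
    (hlt : ∀ a ∈ s, a < 2 ^ 23) (h12 : ∀ a ∈ s, a ≠ 0 → wt a = 12) : s.card ≠ 16 := by
  intro hcard
  have hcol : ∀ i, 8 ∣ ∑ a ∈ s, (if a.testBit i then 1 else 0) := by
    intro i
    rw [← Finset.card_filter]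
    by_cases h : ∃ b ∈ s, b.testBit i = true
    · obtain ⟨b, hb, hbi⟩ := h
      have e : (s.filter fun a => a.testBit i = true).card = (s.filter fun a => ¬ a.testBit i = true).card := by
        refine Finset.card_bij' (fun a _ => a ^^^ b) (fun a _ => a ^^^ b) ?_ ?_ ?_ ?_
        · intro a ha
          rw [Finset.mem_filter] at ha ⊢
          exact ⟨hs a ha.1 b hb, by rw [Nat.testBit_xor, ha.2, hbi]; simp⟩
        · intro a ha
          rw [Finset.mem_filter] at ha ⊢
          exact ⟨hs a ha.1 b hb, by rw [Nat.testBit_xor, hbi]; simpa using ha.2⟩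
        · intro a _; exact Nat.xor_xor_cancel_right a b
        · intro a _; exact Nat.xor_xor_cancel_right a b
      have := Finset.card_filter_add_card_filter_not (s := s) (fun a => a.testBit i = true)
      rw [← e, hcard] at this
      omega
    · push Not at h
      rw [Finset.filter_false_of_mem fun a ha => by simp [h a ha]]
      exact dvd_zero _
  have htot : ∑ a ∈ s, wt a = 180 := by
    rw [← Finset.add_sum_erase _ _ h0, Finset.sum_congr rfl fun a ha =>
      h12 a (Finset.mem_of_mem_erase ha) (Finset.ne_of_mem_erase ha), Finset.sum_const,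
      Finset.card_erase_of_mem h0, hcard]
    rfl
  have : 8 ∣ ∑ a ∈ s, wt a := by
    simp only [wt_eq_sum]
    rw [Finset.sum_comm]
    exact Finset.dvd_sum fun i _ => hcol i
  rw [htot] at this
  norm_num at this

/-- A group of sign changes of constant weight twelve containing the dodecad leaves some octad meeting it
in four points uncovered. -/
theorem exists_uncovered (S : Set ℕ) (h0 : 0 ∈ S) (hu : uMask ∈ S) (hx : ∀ a ∈ S, ∀ b ∈ S, a ^^^ b ∈ S)
    (hcode : ∀ a ∈ S, isCode a = true ∧ a < 2 ^ 23) (h12 : ∀ a ∈ S, a ≠ 0 → wt a = 12) :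
    ∃ o, isCode o = true ∧ wt o = 8 ∧ wt (o ^^^ uMask) = 12 ∧
      ∀ a ∈ S, a ≠ 0 → a ≠ uMask → wt (a ^^^ o) = 12 := by
  classical
  have hoct : ∀ o ∈ testOct, isCode o = true ∧ wt o = 8 ∧ wt (o ^^^ uMask) = 12 := by
    intro o ho
    have h := List.all_eq_true.1 testOct_spec o ho
    simp only [Bool.and_eq_true] at h
    exact ⟨h.1.1, Nat.eq_of_beq_eq_true h.1.2, Nat.eq_of_beq_eq_true h.2⟩
  have hucode : isCode uMask = true := (hcode _ hu).1
  have hpc : ∀ a ∈ S, a ≠ 0 → pc a = 12 := fun a ha h => by rw [pc_eq (hcode a ha).1, h12 a ha h]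
  have hxu : ∀ a, a ^^^ uMask = 0 → a = uMask := fun a => eq_of_xor_eq_zero
  -- representatives
  have hrep : ∀ a ∈ S, a ≠ 0 → a ≠ uMask → ∃ q ∈ dodReps, q.1 ∈ S ∧ (q.1 = a ∨ q.1 = a ^^^ uMask) := by
    intro a ha h1 h2
    obtain ⟨m, hm, e⟩ := exists_codeMask (hcode a ha).1
    have h := allBelow_iff.1 reps_complete m hm
    simp only [← e] at h
    rw [Bool.or_eq_true, Bool.not_eq_true', List.any_eq_true] at h
    rcases h with h | ⟨q, hq, h⟩
    · exfalso
      have e1 : Nat.ble (a + 1) 8388608 = true := Nat.ble_eq_true_of_le (hcode a ha).2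
      have e2 := hpc a ha h1
      have e3 : pc (a.xor uMask) = 12 := hpc _ (hx a ha _ hu) fun e => h2 (hxu a e)
      rw [e1, e2, e3] at h
      exact Bool.noConfusion h
    · rw [Bool.or_eq_true] at h
      rcases h with h | h <;> have h' := Nat.eq_of_beq_eq_true h
      · exact ⟨q, hq, h' ▸ ha, Or.inl h'⟩
      · exact ⟨q, hq, h' ▸ hx a ha _ hu, Or.inr h'⟩
  have huncmem : ∀ {c o : ℕ}, isCode c = true → isCode o = true → unc c o = true →
      wt (c ^^^ o) = 12 ∧ wt (c ^^^ uMask ^^^ o) = 12 := by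
    intro c o hc ho h
    rw [unc, Bool.and_eq_true] at h
    exact ⟨(pc_eq (isCode_xor hc ho)).symm.trans (Nat.eq_of_beq_eq_true h.1),
      (pc_eq (isCode_xor (isCode_xor hc hucode) ho)).symm.trans (Nat.eq_of_beq_eq_true h.2)⟩
  have hbit : ∀ q ∈ dodReps, ∀ i (h : i < testOct.length), q.2.testBit i = true → unc q.1 testOct[i] = true := by
    intro q hq i hi h
    obtain ⟨r, hr, hb⟩ := mask_lt q.1 testOct 0
    rw [masks_spec' hq, pow_zero, one_mul] at hr
    rwa [← hb i hi, ← hr]
  set s0 : Finset ℕ := {0, uMask}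
  have hs0 : ∀ a ∈ s0, ∀ b ∈ s0, a ^^^ b ∈ s0 := by decide
  by_cases h1 : ∃ a ∈ S, a ∉ s0
  swap
  · push Not at h1
    obtain ⟨o, ho⟩ : ∃ o, o ∈ testOct := ⟨testOct.headI, by decide⟩
    refine ⟨o, (hoct o ho).1, (hoct o ho).2.1, (hoct o ho).2.2, fun a ha h2 h3 => ?_⟩
    have := h1 a ha
    simp only [s0, Finset.mem_insert, Finset.mem_singleton] at this
    exact absurd this (by tauto)
  obtain ⟨a, ha, has⟩ := h1
  simp only [s0, Finset.mem_insert, Finset.mem_singleton, not_or] at has
  obtain ⟨p, hp, hpS, hpa⟩ := hrep a ha has.1 has.2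
  have hpcode := (hcode _ hpS).1
  set c := p.1 with hc
  have hc1 : c ∉ s0 := by
    simp only [s0, Finset.mem_insert, Finset.mem_singleton, not_or]
    rcases hpa with e | e <;> rw [e]
    · exact has
    · exact ⟨fun e => has.2 (hxu a e), fun e => has.1 (by
        have h := congrArg (· ^^^ uMask) e
        simp only [Nat.xor_xor_cancel_right, Nat.xor_self] at h
        exact h)⟩
  set s1 := s0 ∪ s0.image (· ^^^ c) with hs1
  obtain ⟨hcard1, hs1x⟩ := card_doubles hs0 hc1
  have hs1S : ∀ b ∈ s1, b ∈ S := by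
    intro b hb
    simp only [hs1, s0, Finset.mem_union, Finset.mem_insert, Finset.mem_singleton, Finset.mem_image] at hb
    rcases hb with (rfl | rfl) | ⟨d, rfl | rfl, rfl⟩
    exacts [h0, hu, hx _ h0 _ hpS, hx _ hu _ hpS]
  have hmem1 : ∀ b ∈ s1, b = 0 ∨ b = uMask ∨ b = c ∨ b = c ^^^ uMask := by
    intro b hb
    simp only [hs1, s0, Finset.mem_union, Finset.mem_insert, Finset.mem_singleton, Finset.mem_image] at hb
    rcases hb with (rfl | rfl) | ⟨d, rfl | rfl, rfl⟩
    · exact Or.inl rfl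
    · exact Or.inr (Or.inl rfl)
    · exact Or.inr (Or.inr (Or.inl (Nat.zero_xor c)))
    · exact Or.inr (Or.inr (Or.inr (Nat.xor_comm _ _)))
  by_cases h2 : ∃ b ∈ S, b ∉ s1
  swap
  · push Not at h2
    obtain ⟨i, hi, hbi⟩ : ∃ i, ∃ h : i < testOct.length, p.2.testBit i = true := by
      have hne : ¬ p.2 = 0 := fun e => by
        have := List.all_eq_true.1 singles_spec p hp
        rw [e] at this
        exact Bool.noConfusion this
      obtain ⟨r, hr, hb⟩ := mask_lt c testOct 0
      by_contra hcon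
      push Not at hcon
      have hz : ∀ os k, (∀ i (h : i < os.length), unc c os[i] = false) → mask c os k = 0 := by
        intro os
        induction os with
        | nil => intro k _; rfl
        | cons o os ih =>
          intro k h
          rw [mask, ih (k + 1) fun i hi => h (i + 1) (Nat.succ_lt_succ hi),
            show unc c o = false from h 0 (by simp)]
          rfl
      refine hne ((masks_spec' hp).symm.trans (hz _ _ fun i hi => ?_))
      rw [masks_spec' hp, pow_zero, one_mul] at hr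
      rw [← hb i hi, ← hr]
      exact Bool.not_eq_true _ ▸ hcon i hi
    obtain ⟨ho1, ho2, ho3⟩ := hoct _ (List.getElem_mem hi)
    obtain ⟨e1, e2⟩ := huncmem hpcode ho1 (hbit p hp i hi hbi)
    refine ⟨_, ho1, ho2, ho3, fun b hb hb0 hbu => ?_⟩
    rcases hmem1 b (h2 b hb) with rfl | rfl | rfl | rfl
    exacts [absurd rfl hb0, absurd rfl hbu, e1, e2]
  obtain ⟨b, hb, hbs⟩ := h2
  have hb0 : b ≠ 0 ∧ b ≠ uMask := by
    constructor <;> rintro rfl <;> exact hbs (Finset.mem_union_left _ (by simp [s0]))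
  obtain ⟨q, hq, hqS, hqb⟩ := hrep b hb hb0.1 hb0.2
  have hqcode := (hcode _ hqS).1
  set d := q.1 with hd
  have hus1 : uMask ∈ s1 := Finset.mem_union_left _ (by simp [s0])
  have hd1 : d ∉ s1 := fun h => hbs (by
    rcases hqb with e | e <;> rw [e] at h
    · exact h
    · have := hs1x _ h _ hus1
      rwa [Nat.xor_xor_cancel_right] at this)
  set s2 := s1 ∪ s1.image (· ^^^ d) with hs2
  obtain ⟨hcard2, hs2x⟩ := card_doubles hs1x hd1
  have hs2S : ∀ b ∈ s2, b ∈ S := by
    intro b hb
    simp only [hs2, Finset.mem_union, Finset.mem_image] at hb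
    rcases hb with h | ⟨e, he, rfl⟩
    exacts [hs1S b h, hx _ (hs1S e he) _ hqS]
  have hall : ∀ e ∈ S, e ∈ s2 := by
    intro e he
    by_contra hes
    obtain ⟨hcard3, hs3x⟩ := card_doubles hs2x hes
    refine card_ne_sixteen hs3x ?_ ?_ ?_ ?_
    · exact Finset.mem_union_left _ (Finset.mem_union_left _ (Finset.mem_union_left _ (by simp [s0])))
    · intro x hx'
      rcases Finset.mem_union.1 hx' with h | h'
      rotate_left
      obtain ⟨y, hy, rfl⟩ := Finset.mem_image.1 h'
      rotate_left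
      exacts [(hcode _ (hs2S x h)).2, (hcode _ (hx _ (hs2S y hy) _ he)).2]
    · intro x hx'
      rcases Finset.mem_union.1 hx' with h | h'
      rotate_left
      obtain ⟨y, hy, rfl⟩ := Finset.mem_image.1 h'
      rotate_left
      exacts [h12 _ (hs2S x h), h12 _ (hx _ (hs2S y hy) _ he)]
    · rw [hcard3, hcard2, hcard1]
      have : uMask ≠ 0 := by decide
      simp [s0, Finset.card_pair this.symm]
  have hne : p ≠ q := fun e => hd1 (by
    rw [hd, ← e, ← hc]
    exact Finset.mem_union_right _ (Finset.mem_image.2 ⟨0, by simp [s0], Nat.zero_xor c⟩))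
  have hcd : c ^^^ d ∈ S := hx _ hpS _ hqS
  have hcds : ∀ v ∈ s1, d ≠ v := fun v hv e => hd1 (e ▸ hv)
  have hc_s1 : c ∈ s1 := Finset.mem_union_right _ (Finset.mem_image.2 ⟨0, by simp [s0], Nat.zero_xor c⟩)
  have hcd0 : c ^^^ d ≠ 0 := fun e => hcds c hc_s1 (eq_of_xor_eq_zero e).symm
  have hcdu : c ^^^ d ^^^ uMask ≠ 0 := fun e => hcds _ (hs1x _ hc_s1 _ hus1) (by
    have h1 := hxu _ e
    rw [← h1, Nat.xor_xor_cancel_left])
  have hcompat : compat p.1 q.1 = true := by
    rw [compat, Bool.and_eq_true]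
    exact ⟨by rw [show pc (c.xor d) = 12 from hpc _ hcd hcd0]; rfl,
      by rw [show pc ((c.xor d).xor uMask) = 12 from hpc _ (hx _ hcd _ hu) hcdu]; rfl⟩
  obtain ⟨i, hi, hb1, hb2, hb3⟩ : ∃ i, ∃ h : i < testOct.length, p.2.testBit i = true ∧ q.2.testBit i = true ∧
      unc (c ^^^ d) testOct[i] = true := by
    rcases pairsOK_mem pairsOK_spec p q hp hq hne hcompat with h | h <;>
      obtain ⟨i, hi, h1, h2⟩ := anyUnc_spec _ _ _ _ h <;>
      rw [Nat.zero_add, Nat.testBit_and, Bool.and_eq_true] at h1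
    · exact ⟨i, hi, h1.1, h1.2, h2⟩
    · exact ⟨i, hi, h1.2, h1.1, by rw [Nat.xor_comm]; exact h2⟩
  obtain ⟨ho1, ho2, ho3⟩ := hoct _ (List.getElem_mem hi)
  obtain ⟨e1, e1'⟩ := huncmem hpcode ho1 (hbit p hp i hi hb1)
  obtain ⟨e2, e2'⟩ := huncmem hqcode ho1 (hbit q hq i hi hb2)
  obtain ⟨e3, e3'⟩ := huncmem (isCode_xor hpcode hqcode) ho1 hb3
  refine ⟨_, ho1, ho2, ho3, fun e he he0 heu => ?_⟩
  have := hall e he
  rw [hs2, Finset.mem_union, Finset.mem_image] at this
  rcases this with h | ⟨v, hv, hev⟩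
  · rcases hmem1 e h with h' | h' | h' | h'
    · exact absurd h' he0
    · exact absurd h' heu
    · rw [h']; exact e1
    · rw [h']; exact e1'
  · rw [← hev]
    rcases hmem1 v hv with h' | h' | h' | h' <;> rw [h']
    · rw [Nat.zero_xor]; exact e2
    · rw [Nat.xor_comm uMask d]; exact e2'
    · exact e3
    · rw [Nat.xor_assoc c, Nat.xor_comm uMask, ← Nat.xor_assoc]; exact e3'

end CfsgLib.CoOneAmalgam.Cover
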