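import Cfsg.Agent.CoOneAmalgam.WholeSigns
import Cfsg.Agent.CoOneAmalgam.WholeCover
import Cfsg.Agent.ConwayType.Main

/-!
# A group of Conway type containing `Co1` over the centralizer of `z` is `Co1`

Involutions of `G₀ = f(Co1)` fuse in `G` only as in `G₀`, both sides having three classes. A point of
`G/G₀` fixed by a dodecad involution is unique since the sign changes fixing a second one would be a
group of constant weight twelve, leaving an octad sign change uncovered.
-/

set_option autoImplicit false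
set_option linter.style.haveILetI false
set_option maxHeartbeats 1000000

namespace CfsgLib.CoOneAmalgam

open Cfsg CfsgLib.Mathieu CfsgLib.Leech CfsgLib.CoOneInv CfsgLib.CoZeroInvol

/-- The sign change on a code word. -/
noncomputable def sgn (c : ℕ) : Spor.Co1 :=
  if h : isCode c = true then projC (diag (setOf24 c) (setOf24_mem_supports h)) else 1

theorem sgn_eq {c : ℕ} (h : isCode c = true) :
    sgn c = projC (diag (setOf24 c) (setOf24_mem_supports h)) := dif_pos h

theorem sgn_xor {a b : ℕ} (ha : isCode a = true) (hb : isCode b = true) : sgn (a ^^^ b) = sgn a * sgn b := by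
  rw [sgn_eq ha, sgn_eq hb, sgn_eq (isCode_xor ha hb), ← map_mul, diag_mul]
  exact congrArg projC (diag_congr (setOf24_xor a b))

theorem sgn_zero : sgn 0 = 1 := by
  rw [sgn_eq isCode_zero]
  refine Eq.trans (congrArg projC ?_) (map_one projC)
  exact (diag_congr (hd := mem_supports_empty) setOf24_zero).trans (monoCo0_one_empty _)

theorem sgn_full : sgn 16777215 = 1 := by
  rw [sgn_eq isCode_full]
  refine Eq.trans (congrArg projC ?_) projC_negCo0
  rw [negCo0_eq_diag]
  exact diag_congr setOf24_full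

/-- The representative of the class of dodecad sign changes. -/
noncomputable def tOne : Spor.Co1 := sgn Cover.uMask

theorem uMask_code : isCode Cover.uMask = true ∧ wt Cover.uMask = 12 := by decide +kernel

theorem oMask_code : isCode Cover.oMask = true ∧ (wt Cover.oMask = 8 ∨ wt Cover.oMask = 16) ∧
    (wt (Cover.oMask ^^^ Cover.uMask) = 8 ∨ wt (Cover.oMask ^^^ Cover.uMask) = 16) := by decide +kernel

theorem isConj_zOne_sgn {c : ℕ} (h : isCode c = true) (hw : wt c = 8 ∨ wt c = 16) :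
    IsConj zOne (sgn c) := by
  rw [sgn_eq h]
  rcases hw with hw | hw
  · exact projC.map_isConj (isConj_eps_diag _ ((card_setOf24 c).trans hw))
  · rw [← projC_wElt]
    exact projC.map_isConj (isConj_wElt_diag _ ((card_setOf24 c).trans hw))

theorem isConj_tOne_sgn {c : ℕ} (h : isCode c = true) (hw : wt c = 12) : IsConj tOne (sgn c) := by
  rw [tOne, sgn_eq h, sgn_eq uMask_code.1]
  exact projC.map_isConj ((isConj_dod_diag _ ((card_setOf24 _).trans uMask_code.2)).symm.trans
    (isConj_dod_diag _ ((card_setOf24 c).trans hw)))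

theorem card_centralizer_conj {K : Type*} [Group K] {u v : K} (h : IsConj u v) :
    Nat.card (Subgroup.centralizer ({v} : Set K)) = Nat.card (Subgroup.centralizer ({u} : Set K)) := by
  obtain ⟨a, rfl⟩ := isConj_iff.1 h
  refine (Nat.card_congr (Equiv.subtypeEquiv (MulAut.conj a).toEquiv fun k => ?_)).symm
  show k ∈ Subgroup.centralizer ({u} : Set K) ↔ a * k * a⁻¹ ∈ Subgroup.centralizer ({a * u * a⁻¹} : Set K)
  rw [Subgroup.mem_centralizer_singleton_iff, Subgroup.mem_centralizer_singleton_iff]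
  exact (Commute.conj_iff a).symm

theorem not_isConj_zOne_tOne : ¬ IsConj zOne tOne := by
  intro h
  obtain ⟨a, ha⟩ := isConj_iff.1 h
  obtain ⟨a', rfl⟩ := QuotientGroup.mk'_surjective (Subgroup.center Co0) a
  change projC a' * zOne * (projC a')⁻¹ = tOne at ha
  rw [zOne, tOne, sgn_eq uMask_code.1, ← map_mul, ← map_inv, ← map_mul] at ha
  have hd := isConj_dod_diag (setOf24_mem_supports uMask_code.1) ((card_setOf24 _).trans uMask_code.2)
  refine CoZeroStd.card_centralizer_dod_ne ?_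
  rw [← card_centralizer_conj hd]
  rcases projC_eq_cases ha with e | e
  · rw [card_centralizer_conj (isConj_iff.2 ⟨a', e.symm⟩), CoZeroStd.centralizer_wElt]
  · refine card_centralizer_conj (isConj_iff.2 ⟨a', ?_⟩)
    rw [e, wElt_eq_neg_mul, ← mul_assoc a' negCo0, ← CoZeroStd.neg_comm a']
    simp only [mul_assoc]

theorem testOct_head : isCode (Cover.testOct.headI) = true ∧ wt (Cover.testOct.headI) = 8 ∧
    wt (Cover.testOct.headI ^^^ Cover.uMask) = 12 := by decide +kernel

theorem orderOf_tOne' : orderOf tOne = 2 := by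
  haveI : Fact (Nat.Prime 2) := ⟨Nat.prime_two⟩
  refine orderOf_eq_prime ?_ fun h => ?_
  · rw [pow_two, tOne, ← sgn_xor uMask_code.1 uMask_code.1, Nat.xor_self, sgn_zero]
  · obtain ⟨h1, h2, h3⟩ := testOct_head
    have h4 := isConj_tOne_sgn (isCode_xor h1 uMask_code.1) h3
    rw [sgn_xor h1 uMask_code.1, show sgn Cover.uMask = tOne from rfl] at h4
    nth_rw 2 [h] at h4
    rw [mul_one] at h4
    exact not_isConj_zOne_tOne ((isConj_zOne_sgn h1 (Or.inl h2)).trans h4.symm)

/-- In the classes of the octad or of the dodecad sign changes. -/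
def IsAC (a : Spor.Co1) : Prop := IsConj zOne a ∨ IsConj tOne a

theorem IsAC.conj {a b : Spor.Co1} (ha : IsAC a) (h : IsConj a b) : IsAC b :=
  ha.imp (·.trans h) (·.trans h)

theorem exists_lift_zOne_class {a : Spor.Co1} (ha : IsAC a) : ∃ x : Co0, projC x = a ∧ x * x = 1 := by
  have key : ∀ {c : ℕ}, isCode c = true → IsConj (sgn c) a → ∃ x : Co0, projC x = a ∧ x * x = 1 := by
    intro c hc h
    obtain ⟨k, rfl⟩ := isConj_iff.1 h
    obtain ⟨k', rfl⟩ := QuotientGroup.mk'_surjective (Subgroup.center Co0) k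
    refine ⟨k' * diag _ (setOf24_mem_supports hc) * k'⁻¹, ?_, ?_⟩
    · rw [map_mul, map_mul, map_inv, sgn_eq hc]; rfl
    · rw [show ∀ d : Co0, k' * d * k'⁻¹ * (k' * d * k'⁻¹) = k' * (d * d) * k'⁻¹ from fun d => by group,
        diag_sq, mul_one, mul_inv_cancel]
  rcases ha with h | h
  · exact key oMask_code.1 ((isConj_zOne_sgn oMask_code.1 oMask_code.2.1).symm.trans h)
  · exact key uMask_code.1 h

/-- An involution of `Co1` with an involutory lift. -/
theorem isAC_of_lift {x : Co0} (h : x * x = 1) (h1 : projC x ≠ 1) : IsAC (projC x) := by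
  rcases involution_cases h with hx | hx | hx | hx
  · exact absurd ((QuotientGroup.eq_one_iff x).2 hx) h1
  · exact Or.inl (projC.map_isConj hx)
  · exact Or.inl (projC_wElt ▸ projC.map_isConj hx)
  · refine Or.inr (IsConj.trans ?_ (projC.map_isConj hx))
    rw [tOne, sgn_eq uMask_code.1]
    exact projC.map_isConj
      (isConj_dod_diag _ ((card_setOf24 _).trans uMask_code.2)).symm

/-- A product of commuting involutions, one an octad and the other an octad or dodecad one. -/
theorem isAC_mul {w : Spor.Co1} (hw : IsAC w) (hc : w * zOne = zOne * w) (hne : zOne * w ≠ 1) :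
    IsAC (zOne * w) := by
  obtain ⟨x, rfl, hx⟩ := exists_lift_zOne_class hw
  have hcom : x * epsCo0 = epsCo0 * x := by
    rw [zOne, ← map_mul, ← map_mul] at hc
    rcases projC_eq_cases hc with e | e
    · exact e.symm
    · refine (not_eps_mul (g := x) ?_).elim
      rw [wElt_eq_neg_mul, mul_assoc, e, ← mul_assoc, negCo0_sq, one_mul]
  have h2 : epsCo0 * x * (epsCo0 * x) = 1 := by
    rw [mul_assoc, ← mul_assoc x, hcom, mul_assoc, hx, mul_one, epsCo0_eq_diag, diag_sq]
  rw [zOne, ← map_mul] at hne ⊢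
  exact isAC_of_lift h2 hne

/-- The centralizer of a dodecad sign change permutes the sign changes. -/
theorem exists_sgn_of_commute {η : Spor.Co1} (h : η * tOne = tOne * η) {c : ℕ} (hc : isCode c = true) :
    ∃ c', isCode c' = true ∧ η * sgn c * η⁻¹ = sgn c' := by
  obtain ⟨g, rfl⟩ := QuotientGroup.mk'_surjective (Subgroup.center Co0) η
  change projC g * tOne = tOne * projC g at h
  rw [tOne, sgn_eq uMask_code.1, ← map_mul, ← map_mul] at h
  have hg : g ∈ monoGroup := by
    refine mem_monoGroup_of_dod (setOf24_mem_supports uMask_code.1)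
      ((card_setOf24 _).trans uMask_code.2) ?_
    rcases projC_eq_cases h with e | e
    · exact Or.inl e.symm
    · refine Or.inr ?_
      rw [e, ← mul_assoc, negCo0_sq, one_mul]
  obtain ⟨τ, hτ, e, he, rfl⟩ := eq_monoCo0 (mem_monoGroup_iff.1 hg)
  have hS := setSystemAut_image_mem (inv_mem hτ : τ⁻¹ ∈ M24) (setOf24_mem_supports hc)
  refine ⟨maskOf ((setOf24 c).image ⇑τ⁻¹), (mem_supports_iff _).1 hS, ?_⟩
  show projC _ * sgn c * (projC _)⁻¹ = _
  rw [sgn_eq hc, sgn_eq ((mem_supports_iff _).1 hS), mul_inv_eq_iff_eq_mul, ← map_mul, ← map_mul]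
  refine congrArg projC ?_
  rw [diag_congr (hd := hS) (setOf24_maskOf _), diag, diag, monoCo0_mul, monoCo0_mul]
  refine monoCo0_congr (by rw [one_mul, mul_one]) ?_
  rw [inv_one, Equiv.Perm.coe_one, Finset.image_id, symmDiff_comm]

theorem three_classes_Co1 : ∃ a b c : Spor.Co1, orderOf a = 2 ∧ orderOf b = 2 ∧ orderOf c = 2 ∧
    ¬ IsConj a b ∧ ¬ IsConj a c ∧ ¬ IsConj b c ∧
    ∀ x : Spor.Co1, orderOf x = 2 → IsConj x a ∨ IsConj x b ∨ IsConj x c := by
  obtain ⟨e⟩ := quotient_equiv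
  have hQ : (⇑Q8 : _ → ZMod 2) = Cfsg.quadFormPlus 4 (ZMod 2) := funext q8_apply
  obtain ⟨Q', π, D⟩ := ConwayType.exists_data zOne orderOf_zOne QOne generalizedFitting_eq
    extraspecial_QOne card_QOne (hQ ▸ e) not_weakly_closed
  obtain ⟨P, s, F⟩ := ConwayType.exists_frame D
  exact F.three_classes

/-- The dihedral group on two involutions not conjugate in it has a central involution. -/
theorem exists_between {K : Type*} [Group K] [Finite K] (S : Subgroup K) {x y : K} (hxS : x ∈ S)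
    (hyS : y ∈ S) (hx : x * x = 1) (hy : y * y = 1) (hnc : ∀ h ∈ S, h * x * h⁻¹ ≠ y) :
    ∃ F ∈ S, F * F = 1 ∧ F ≠ 1 ∧ F * x = x * F ∧ F * y = y * F ∧
      ((∃ h ∈ S, h * x * h⁻¹ = F * x) ∨ ∃ h ∈ S, h * y * h⁻¹ = F * x) := by
  have hxi : x⁻¹ = x := inv_eq_of_mul_eq_one_right hx
  have hyi : y⁻¹ = y := inv_eq_of_mul_eq_one_right hy
  obtain ⟨r, hr⟩ : ∃ r, r = x * y := ⟨_, rfl⟩
  have hflip : x * r * x⁻¹ = r⁻¹ := by
    rw [hr, hxi, mul_inv_rev, hxi, hyi, ← mul_assoc, hx, one_mul]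
  have hi : ∀ i : ℤ, r ^ i * x * (r ^ i)⁻¹ = r ^ (2 * i) * x := by
    intro i
    have h1 : x * (r ^ i)⁻¹ * x⁻¹ = r ^ i := by
      rw [← zpow_neg, ← conj_zpow, hflip, inv_zpow, zpow_neg, inv_inv]
    calc r ^ i * x * (r ^ i)⁻¹ = r ^ i * (x * (r ^ i)⁻¹ * x⁻¹) * x := by group
      _ = r ^ (2 * i) * x := by rw [h1, ← zpow_add, two_mul]
  have hyr : y = r⁻¹ * x := by rw [hr, mul_inv_rev, hxi, hyi, mul_assoc, hx, mul_one]
  have hrS : r ∈ S := hr ▸ mul_mem hxS hyS
  rcases Nat.even_or_odd' (orderOf r) with ⟨m, hm | hm⟩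
  swap
  · refine absurd ?_ (hnc (r ^ (m : ℤ)) (zpow_mem hrS _))
    rw [hi, hyr]
    congr 1
    have e : r ^ ((2 * (m : ℤ)) + 1) = 1 := by
      rw [show (2 * (m : ℤ)) + 1 = ((orderOf r : ℕ) : ℤ) by rw [hm]; push_cast; ring, zpow_natCast,
        pow_orderOf_eq_one]
    rw [zpow_add, zpow_one] at e
    exact eq_inv_of_mul_eq_one_left e
  have hpos := orderOf_pos r
  have hF2 : r ^ (m : ℤ) * r ^ (m : ℤ) = 1 := by
    rw [← zpow_add, show (m : ℤ) + m = ((orderOf r : ℕ) : ℤ) by rw [hm]; push_cast; ring, zpow_natCast,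
      pow_orderOf_eq_one]
  have hFinv : (r ^ (m : ℤ))⁻¹ = r ^ (m : ℤ) := inv_eq_of_mul_eq_one_right hF2
  have hFx : r ^ (m : ℤ) * x = x * r ^ (m : ℤ) := by
    have h1 : x * r ^ (m : ℤ) * x⁻¹ = r ^ (m : ℤ) := by rw [← conj_zpow, hflip, inv_zpow, hFinv]
    exact (mul_inv_eq_iff_eq_mul.1 h1).symm
  refine ⟨r ^ (m : ℤ), zpow_mem hrS _, hF2, fun h => ?_, hFx, ?_, ?_⟩
  · rw [zpow_natCast] at h
    exact pow_ne_one_of_lt_orderOf (by omega) (by omega) h
  · show Commute (r ^ (m : ℤ)) y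
    rw [hyr]
    exact ((Commute.refl r).zpow_left _).inv_right.mul_right hFx
  rcases Int.even_or_odd' (m : ℤ) with ⟨k, hk | hk⟩
  · exact Or.inl ⟨r ^ k, zpow_mem hrS _, by rw [hi, ← hk]⟩
  · refine Or.inr ⟨r ^ (k + 1), zpow_mem hrS _, ?_⟩
    calc r ^ (k + 1) * y * (r ^ (k + 1))⁻¹
        = r⁻¹ * (r ^ (k + 1) * x * (r ^ (k + 1))⁻¹) := by rw [hyr]; group
      _ = r ^ (m : ℤ) * x := by rw [hi, ← mul_assoc, ← zpow_neg_one, ← zpow_add, hk]; ring_nf

section Whole

variable {G : Type*} [Group G] [Finite G] {z : G} {Q : Subgroup G} {π : G → ConwayType.V8}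
  (D : ConwayType.Data z Q π) (f : Spor.Co1 →* G) (hf : Function.Injective f) (hz : f zOne = z)
  (hC : Subgroup.centralizer ({z} : Set G) ≤ f.range)

include D hf hz hC

/-- Involutions of `f(Co1)` conjugate in `G` are conjugate in `Co1`. -/
theorem fusion {x y : Spor.Co1} (hx : orderOf x = 2) (hy : orderOf y = 2) (h : IsConj (f x) (f y)) :
    IsConj x y := by
  haveI : Fact (Nat.Prime 2) := ⟨Nat.prime_two⟩
  obtain ⟨a, b, c, ha, hb, hc, hab, hac, hbc, hall⟩ := three_classes_Co1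
  obtain ⟨P, s, F⟩ := ConwayType.exists_frame D
  obtain ⟨a', b', c', ha', hb', hc', hab', hac', hbc', -⟩ := F.three_classes
  let R : Fin 3 → Spor.Co1 := ![a, b, c]
  let R' : Fin 3 → G := ![a', b', c']
  have hR : ∀ w : Spor.Co1, orderOf w = 2 → ∃ j, IsConj w (R j) := by
    intro w hw
    rcases hall w hw with h | h | h
    exacts [⟨0, h⟩, ⟨1, h⟩, ⟨2, h⟩]
  have hlift : ∀ w : G, orderOf w = 2 → ∃ j, IsConj w (f (R j)) := by
    intro w hw
    obtain ⟨S, -, hS, -⟩ := F.data.sub.exists_sylow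
    have hp : IsPGroup 2 (Subgroup.zpowers w) := IsPGroup.of_card (n := 1) (by
      rw [Nat.card_zpowers, hw, pow_one])
    obtain ⟨T, hT⟩ := hp.exists_le_sylow
    obtain ⟨g, hg⟩ := MulAction.exists_smul_eq G T S
    have hmem : g * w * g⁻¹ ∈ (S : Subgroup G) := by
      rw [← hg]
      exact ⟨w, hT (Subgroup.mem_zpowers _), rfl⟩
    obtain ⟨v, hv⟩ := hC (hS hmem)
    obtain ⟨j, hj⟩ := hR v (by
      rw [← orderOf_injective f hf, hv, ← MulAut.conj_apply, MulEquiv.orderOf_eq, hw])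
    exact ⟨j, ((isConj_iff.2 ⟨g, hv.symm⟩ : IsConj w (f v))).trans (f.map_isConj hj)⟩
  have hR' : ∀ i l, IsConj (R' i) (R' l) → i = l := by
    intro i l hil
    fin_cases i <;> fin_cases l <;>
      first
      | rfl
      | exact absurd hil hab'
      | exact absurd hil.symm hab'
      | exact absurd hil hac'
      | exact absurd hil.symm hac'
      | exact absurd hil hbc'
      | exact absurd hil.symm hbc'
  have hex : ∀ i, ∃ j, IsConj (R' i) (f (R j)) := fun i => hlift _ (by fin_cases i <;> assumption)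
  choose σ hσ using hex
  have hinj : Function.Injective σ := fun i l e => hR' i l ((hσ i).trans (e ▸ (hσ l).symm))
  obtain ⟨j, hj⟩ := hR x hx
  obtain ⟨k, hk⟩ := hR y hy
  obtain ⟨i, rfl⟩ := (Finite.injective_iff_surjective.1 hinj) j
  obtain ⟨l, rfl⟩ := (Finite.injective_iff_surjective.1 hinj) k
  obtain rfl : i = l := hR' i l ((hσ i).trans (((f.map_isConj hj).symm.trans (h.trans (f.map_isConj hk))).trans
    (hσ l).symm))
  exact hj.trans hk.symm

theorem centralizer_le_of_zOne {x : Spor.Co1} (hx : IsConj zOne x) :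
    Subgroup.centralizer ({f x} : Set G) ≤ f.range := by
  obtain ⟨a, rfl⟩ := isConj_iff.1 hx
  intro h hh
  have h' : (f a)⁻¹ * h * f a ∈ f.range := by
    refine hC (Subgroup.mem_centralizer_singleton_iff.2 ?_)
    have := (Commute.conj_iff (f a)⁻¹).2
      (show Commute h (f (a * zOne * a⁻¹)) from Subgroup.mem_centralizer_singleton_iff.1 hh)
    simp only [inv_inv, map_mul, map_inv, hz] at this
    rw [show (f a)⁻¹ * (f a * z * (f a)⁻¹) * f a = z by group] at this
    exact this.eq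
  have := mul_mem (mul_mem (⟨a, rfl⟩ : f a ∈ f.range) h') (inv_mem (⟨a, rfl⟩ : f a ∈ f.range))
  rwa [show f a * ((f a)⁻¹ * h * f a) * (f a)⁻¹ = h by group] at this

theorem exists_of_conj {x y : Spor.Co1} (hx : orderOf x = 2)
    (hcen : Subgroup.centralizer ({f x} : Set G) ≤ f.range) {h : G} (hh : h * f x * h⁻¹ = f y) :
    IsConj x y ∧ ∃ η, f η = h ∧ η * x * η⁻¹ = y := by
  have hy : orderOf y = 2 := by
    rw [← orderOf_injective f hf, ← hh, ← MulAut.conj_apply, MulEquiv.orderOf_eq, orderOf_injective f hf, hx]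
  have hxy := fusion D f hf hz hC hx hy (isConj_iff.2 ⟨h, hh⟩)
  obtain ⟨k, hk⟩ := isConj_iff.1 hxy
  obtain ⟨m, hm⟩ := hcen (x := (f k)⁻¹ * h) (Subgroup.mem_centralizer_singleton_iff.2 (by
    calc (f k)⁻¹ * h * f x = (f k)⁻¹ * (h * f x * h⁻¹) * h := by group
      _ = f x * ((f k)⁻¹ * h) := by rw [hh, ← hk, map_mul, map_mul, map_inv]; group))
  have hη : f (k * m) = h := by rw [map_mul, hm, mul_inv_cancel_left]
  refine ⟨hxy, k * m, hη, hf ?_⟩
  rw [map_mul, map_mul, map_inv, hη, hh]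

theorem orderOf_of_zOne {x : Spor.Co1} (hx : IsConj zOne x) : orderOf x = 2 := by
  obtain ⟨a, rfl⟩ := isConj_iff.1 hx
  rw [← MulAut.conj_apply, MulEquiv.orderOf_eq, orderOf_zOne]

theorem centralizer_tOne : Subgroup.centralizer ({f tOne} : Set G) ≤ f.range := by
  intro g hg
  by_contra hgr
  have hgT : g * f tOne = f tOne * g := Subgroup.mem_centralizer_singleton_iff.1 hg
  let V : Set ℕ := {c | isCode c = true ∧ c < 2 ^ 23 ∧ g⁻¹ * f (sgn c) * g ∈ f.range}
  have hnotA : ∀ c ∈ V, ¬ IsConj zOne (sgn c) := by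
    rintro c ⟨-, -, ψ, hψ⟩ hA
    obtain ⟨-, η, hη, -⟩ := exists_of_conj D f hf hz hC (orderOf_of_zOne D f hf hz hC hA)
      (centralizer_le_of_zOne D f hf hz hC hA) (h := g⁻¹) (y := ψ) (by rw [hψ, inv_inv])
    exact hgr ((inv_mem_iff (H := f.range)).1 ⟨η, hη⟩)
  have hVu : Cover.uMask ∈ V := ⟨uMask_code.1, by decide +kernel, tOne, by
    show f tOne = _
    rw [show sgn Cover.uMask = tOne from rfl, mul_assoc, ← hgT, inv_mul_cancel_left]⟩
  obtain ⟨o, ho, ho8, hou, hcov⟩ := Cover.exists_uncovered V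
    ⟨isCode_zero, by norm_num, 1, by rw [sgn_zero, map_one, mul_one, inv_mul_cancel]⟩ hVu
    (fun a ha b hb => ⟨isCode_xor ha.1 hb.1, Nat.xor_lt_two_pow ha.2.1 hb.2.1, by
      have := mul_mem ha.2.2 hb.2.2
      rw [sgn_xor ha.1 hb.1, map_mul]
      rwa [show g⁻¹ * f (sgn a) * g * (g⁻¹ * f (sgn b) * g) = g⁻¹ * (f (sgn a) * f (sgn b)) * g by group]
        at this⟩)
    (fun a ha => ⟨ha.1, ha.2.1⟩) (fun a ha ha0 => by
      rcases weight_cases ha.1 with w | w | w | w | w
      · exact absurd (wt_eq_zero ha.1 w) ha0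
      · exact absurd (isConj_zOne_sgn ha.1 (Or.inl w)) (hnotA a ha)
      · exact w
      · exact absurd (isConj_zOne_sgn ha.1 (Or.inr w)) (hnotA a ha)
      · exfalso
        have e : setOf24 a = setOf24 16777215 := by
          rw [setOf24_full]
          exact Finset.eq_univ_of_card _ (by rw [card_setOf24, w, M24Classes.card_golayPt])
        have := setOf24_inj (isCode_lt ha.1) (by norm_num) e
        have := ha.2.1
        omega)
  -- the two octad involutions
  have hx2 : ∀ {c : ℕ}, isCode c = true → sgn c * sgn c = 1 := fun hc => by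
    rw [← sgn_xor hc hc, Nat.xor_self, sgn_zero]
  have hsg : ∀ {c : ℕ}, isCode c = true → sgn c * tOne = tOne * sgn c := fun hc => by
    rw [tOne, ← sgn_xor hc uMask_code.1, ← sgn_xor uMask_code.1 hc, Nat.xor_comm]
  have hxA : IsConj zOne (sgn o) := isConj_zOne_sgn ho (Or.inl ho8)
  have hyA : IsConj zOne (sgn Cover.oMask) := isConj_zOne_sgn oMask_code.1 oMask_code.2.1
  set x := sgn o with hx
  set y₀ := sgn Cover.oMask with hy₀
  set y : G := g * f y₀ * g⁻¹ with hy
  have hxS : f x ∈ Subgroup.centralizer ({f tOne} : Set G) := Subgroup.mem_centralizer_singleton_iff.2 (by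
    rw [← map_mul, ← map_mul, hsg ho])
  have hyS : y ∈ Subgroup.centralizer ({f tOne} : Set G) :=
    mul_mem (mul_mem hg (Subgroup.mem_centralizer_singleton_iff.2 (by
      rw [← map_mul, ← map_mul, hsg oMask_code.1]))) (inv_mem hg)
  have hnc : ∀ h ∈ Subgroup.centralizer ({f tOne} : Set G), h * f x * h⁻¹ ≠ y := by
    intro h hh e
    have hhg : g⁻¹ * h ∈ Subgroup.centralizer ({f tOne} : Set G) := mul_mem (inv_mem hg) hh
    obtain ⟨-, η, hη, hηx⟩ := exists_of_conj D f hf hz hC (orderOf_of_zOne D f hf hz hC hxA)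
      (centralizer_le_of_zOne D f hf hz hC hxA) (h := g⁻¹ * h) (y := y₀) (by
        rw [show g⁻¹ * h * f x * (g⁻¹ * h)⁻¹ = g⁻¹ * (h * f x * h⁻¹) * g by group, e, hy]; group)
    have hηt : η * tOne * η⁻¹ = tOne := hf (by
      rw [map_mul, map_mul, map_inv, hη, Subgroup.mem_centralizer_singleton_iff.1 hhg, mul_inv_cancel_right])
    refine not_isConj_zOne_tOne ((isConj_zOne_sgn (isCode_xor oMask_code.1 uMask_code.1)
      oMask_code.2.2).trans (IsConj.trans ?_ (isConj_tOne_sgn (isCode_xor ho uMask_code.1) hou).symm))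
    refine IsConj.symm (isConj_iff.2 ⟨η, ?_⟩)
    rw [sgn_xor ho uMask_code.1, sgn_xor oMask_code.1 uMask_code.1, ← hx, ← hy₀,
      show η * (x * sgn Cover.uMask) * η⁻¹ = η * x * η⁻¹ * (η * tOne * η⁻¹) by rw [tOne]; group,
      hηx, hηt, tOne]
  obtain ⟨F, hFS, hF2, hF1, hFx, hFy, hcase⟩ := exists_between _ hxS hyS
    (by rw [← map_mul, hx, hx2 ho, map_one])
    (by rw [hy, show g * f y₀ * g⁻¹ * (g * f y₀ * g⁻¹) = g * (f y₀ * f y₀) * g⁻¹ by group, ← map_mul,
      hy₀, hx2 oMask_code.1, map_one, mul_one, mul_inv_cancel]) hnc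
  obtain ⟨φ, rfl⟩ := centralizer_le_of_zOne D f hf hz hC hxA (Subgroup.mem_centralizer_singleton_iff.2 hFx)
  -- `φ x` is an octad sign change
  have hφ : ∃ c', isCode c' = true ∧ φ * x = sgn c' ∧ IsConj zOne (φ * x) := by
    have step : ∀ {w : ℕ}, isCode w = true → IsConj zOne (sgn w) → ∀ h ∈ Subgroup.centralizer ({f tOne} : Set G),
        h * f (sgn w) * h⁻¹ = f φ * f x → ∃ c', isCode c' = true ∧ φ * x = sgn c' ∧ IsConj zOne (φ * x) := by
      intro w hw hwA h hh e
      obtain ⟨hconj, η, hη, hηw⟩ := exists_of_conj D f hf hz hC (orderOf_of_zOne D f hf hz hC hwA)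
        (centralizer_le_of_zOne D f hf hz hC hwA) (h := h) (y := φ * x) (by rw [e, map_mul])
      have hηt : η * tOne = tOne * η := hf (by
        rw [map_mul, map_mul, hη, Subgroup.mem_centralizer_singleton_iff.1 hh])
      obtain ⟨c', hc', e'⟩ := exists_sgn_of_commute hηt hw
      exact ⟨c', hc', hηw.symm.trans e', hwA.trans hconj⟩
    rcases hcase with ⟨h, hh, e⟩ | ⟨h, hh, e⟩
    · exact step ho hxA h hh e
    · exact step oMask_code.1 hyA (h * g) (mul_mem hh hg) (by rw [← e, hy]; group; rfl)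
  obtain ⟨c', hc', hφx, hφA⟩ := hφ
  obtain ⟨c, hc, hclt, hφc⟩ : ∃ c, isCode c = true ∧ c < 2 ^ 23 ∧ φ = sgn c := by
    have e0 : φ = sgn (c' ^^^ o) := by
      rw [sgn_xor hc' ho, ← hφx, ← hx, mul_assoc, hx, hx2 ho, mul_one]
    have hd := isCode_xor hc' ho
    have hlt := isCode_lt hd
    by_cases h : c' ^^^ o < 2 ^ 23
    · exact ⟨_, hd, h, e0⟩
    · refine ⟨(c' ^^^ o) ^^^ 16777215, isCode_xor hd isCode_full, ?_, by
        rw [sgn_xor hd isCode_full, sgn_full, mul_one, e0]⟩
      refine Nat.lt_pow_two_of_testBit _ fun i hi => ?_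
      rw [Nat.testBit_xor]
      rcases eq_or_lt_of_le hi with rfl | hi'
      · have h1 : (c' ^^^ o).testBit 23 = true := by
          rw [Nat.testBit_eq_decide_div_mod_eq, decide_eq_true_eq]; omega
        rw [h1, show Nat.testBit 16777215 23 = true from by decide +kernel]
        rfl
      · rw [Nat.testBit_lt_two_pow (lt_of_lt_of_le hlt (Nat.pow_le_pow_right (by norm_num) hi')),
          Nat.testBit_lt_two_pow (lt_of_lt_of_le (by norm_num : 16777215 < 2 ^ 24)
            (Nat.pow_le_pow_right (by norm_num) hi'))]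
        rfl
  have hcV : c ∈ V := by
    refine ⟨hc, hclt, ?_⟩
    rw [← hφc]
    refine centralizer_le_of_zOne D f hf hz hC hyA (Subgroup.mem_centralizer_singleton_iff.2 ?_)
    have := (Commute.conj_iff g⁻¹).2 (show Commute (f φ) y from hFy)
    rw [hy, inv_inv, show g⁻¹ * (g * f y₀ * g⁻¹) * g = f y₀ by group] at this
    exact this.eq
  have hc0 : c ≠ 0 := fun e => hF1 (by rw [hφc, e, sgn_zero, map_one])
  refine not_isConj_zOne_tOne (hφA.trans ?_)
  rw [hφc, hx, ← sgn_xor hc ho]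
  refine (isConj_tOne_sgn (isCode_xor hc ho) ?_).symm
  rcases eq_or_ne c Cover.uMask with e | hcu
  · rw [e, Nat.xor_comm]; exact hou
  · exact hcov c hcV hc0 hcu

/-- `G` is the image of `Co1`. -/
theorem range_eq_top : f.range = ⊤ := by
  rw [eq_top_iff]
  intro g _
  by_contra hgr
  have hT : orderOf (f tOne) = 2 := (orderOf_injective f hf _).trans (orderOf_tOne')
  have hz2 : z * z = 1 := D.sub.mul_self
  set y : G := g * f tOne * g⁻¹ with hy
  have hy2 : y * y = 1 := by
    rw [hy, show g * f tOne * g⁻¹ * (g * f tOne * g⁻¹) = g * (f tOne * f tOne) * g⁻¹ by group,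
      ← pow_two, ← hT, pow_orderOf_eq_one, mul_one, mul_inv_cancel]
  have hnc : ∀ h ∈ (⊤ : Subgroup G), h * z * h⁻¹ ≠ y := fun h _ e =>
    not_isConj_zOne_tOne (fusion D f hf hz hC orderOf_zOne (orderOf_tOne')
      (isConj_iff.2 ⟨g⁻¹ * h, by
        rw [hz, show g⁻¹ * h * z * (g⁻¹ * h)⁻¹ = g⁻¹ * (h * z * h⁻¹) * g by group, e, hy]; group⟩))
  obtain ⟨F, -, hF2, hF1, hFz, hFy, hcase⟩ :=
    exists_between (⊤ : Subgroup G) (x := z) (y := y) trivial trivial hz2 hy2 hnc
  obtain ⟨φ, rfl⟩ := hC (Subgroup.mem_centralizer_singleton_iff.2 hFz)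
  have hcom : φ * zOne = zOne * φ := hf (by rw [map_mul, map_mul, hz, hFz])
  haveI : Fact (Nat.Prime 2) := ⟨Nat.prime_two⟩
  have hz1 : zOne * zOne = 1 := by rw [← pow_two, ← orderOf_zOne, pow_orderOf_eq_one]
  have hφ1 : φ ≠ 1 := fun e => hF1 (by rw [e, map_one])
  have hw2 : orderOf (φ * zOne) = 2 := by
    rw [← orderOf_injective f hf, map_mul, hz]
    rcases hcase with ⟨h, -, e⟩ | ⟨h, -, e⟩ <;> rw [← e, ← MulAut.conj_apply, MulEquiv.orderOf_eq]
    · rw [← hz, orderOf_injective f hf, orderOf_zOne]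
    · rw [hy, ← MulAut.conj_apply, MulEquiv.orderOf_eq, hT]
  have hAC : IsAC (φ * zOne) := by
    rcases hcase with ⟨h, -, e⟩ | ⟨h, -, e⟩
    · exact Or.inl (fusion D f hf hz hC orderOf_zOne hw2 (isConj_iff.2 ⟨h, by rw [map_mul, hz, e]⟩))
    · exact Or.inr (fusion D f hf hz hC (orderOf_tOne') hw2
        (isConj_iff.2 ⟨h * g, by rw [map_mul, hz, ← e, hy]; group⟩))
  have hφAC : IsAC φ := by
    have e1 : zOne * (φ * zOne) = φ := by rw [hcom, ← mul_assoc, hz1, one_mul]
    have := isAC_mul hAC (by rw [← mul_assoc, ← hcom, mul_assoc]) (by rw [e1]; exact hφ1)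
    rwa [e1] at this
  have hφ2 : orderOf φ = 2 := orderOf_eq_prime (hf (by rw [map_pow, map_one, pow_two, hF2])) hφ1
  have hcen : ∀ {a : Spor.Co1}, IsAC a → Subgroup.centralizer ({f a} : Set G) ≤ f.range := by
    intro a ha
    rcases ha with ha | ha
    · exact centralizer_le_of_zOne D f hf hz hC ha
    · obtain ⟨k, rfl⟩ := isConj_iff.1 ha
      intro h hh
      have h' : (f k)⁻¹ * h * f k ∈ f.range := by
        refine centralizer_tOne D f hf hz hC (Subgroup.mem_centralizer_singleton_iff.2 ?_)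
        have := (Commute.conj_iff (f k)⁻¹).2
          (show Commute h (f (k * tOne * k⁻¹)) from Subgroup.mem_centralizer_singleton_iff.1 hh)
        simp only [inv_inv, map_mul, map_inv] at this
        rw [show (f k)⁻¹ * (f k * f tOne * (f k)⁻¹) * f k = f tOne by group] at this
        exact this.eq
      have := mul_mem (mul_mem (⟨k, rfl⟩ : f k ∈ f.range) h') (inv_mem (⟨k, rfl⟩ : f k ∈ f.range))
      rwa [show f k * ((f k)⁻¹ * h * f k) * (f k)⁻¹ = h by group] at this
  obtain ⟨ψ, hψ⟩ : g⁻¹ * f φ * g ∈ f.range := by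
    refine centralizer_tOne D f hf hz hC (Subgroup.mem_centralizer_singleton_iff.2 ?_)
    have := (Commute.conj_iff g⁻¹).2 (show Commute (f φ) y from hFy)
    rw [hy, inv_inv, show g⁻¹ * (g * f tOne * g⁻¹) * g = f tOne by group] at this
    exact this.eq
  obtain ⟨-, η, hη, -⟩ := exists_of_conj D f hf hz hC hφ2 (hcen hφAC) (h := g⁻¹) (y := ψ)
    (by rw [hψ, inv_inv])
  exact hgr ((inv_mem_iff (H := f.range)).1 ⟨η, hη⟩)

end Whole

end CfsgLib.CoOneAmalgam
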