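import Cfsg.Agent.CoOneAmalgam.Collapse
import Cfsg.Agent.CoOneAmalgam.CentGen
import Cfsg.Agent.CoOneAmalgam.ToC
import Cfsg.Agent.CoOneAmalgam.Whole
import Cfsg.Agent.Leech.Co1

/-!
# A group of Conway type is the first Conway group
-/

set_option autoImplicit false

namespace CfsgLib.CoOneAmalgam

open Cfsg CfsgLib.CoOneInv

variable {G : Type*} [Group G]

/-- The extension restricts to the given map on the whole centralizer. -/
theorem hom_eq_toC (A : AmalgamMap G) {f : Spor.Co1 →* G} (hN : ∀ n : nOne, f n = A.toN n)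
    (hX : f xOne = xHat A) (c : C1) : f c = A.toC c := by
  have hc : c ∈ genC := genC_eq_top ▸ Subgroup.mem_top c
  induction hc using Subgroup.closure_induction with
  | mem x hx =>
    rcases hx with h | h
    · exact (hN ⟨x, h⟩).trans (A.agree _ h x.2)
    · rw [show x = ⟨xOne, xOne_mem⟩ from Subtype.ext h, hX]
      rfl
  | one => simp
  | mul a b _ _ ha hb => rw [Subgroup.coe_mul, map_mul, map_mul, ha, hb]
  | inv a _ ha => rw [Subgroup.coe_inv, map_inv, map_inv, ha]

/-- A group of Conway type is isomorphic to the first Conway group, with the octad involution going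
to the given one. -/
theorem exists_model_iso [Finite G] (z : G) (hz : orderOf z = 2)
    (Q : Subgroup (Subgroup.centralizer ({z} : Set G))) [Q.Normal]
    (hF : Cfsg.generalizedFittingSubgroup (Subgroup.centralizer ({z} : Set G)) = Q)
    (hQ : Cfsg.IsExtraspecial 2 Q) (hcard : Nat.card Q = 2 ^ 9)
    (e : (Subgroup.centralizer ({z} : Set G)) ⧸ Q ≃*
      Cfsg.Omega (ZMod 2) (Cfsg.quadFormPlus 4 (ZMod 2)))
    (hnwc : ∃ g : G, (∃ hq : g * z * g⁻¹ ∈ Subgroup.centralizer ({z} : Set G),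
      (⟨g * z * g⁻¹, hq⟩ : Subgroup.centralizer ({z} : Set G)) ∈ Q) ∧ g * z * g⁻¹ ≠ z) :
    ∃ φ : Spor.Co1 ≃* G, φ zOne = z := by
  obtain ⟨Q₀, π₀, D⟩ := CfsgLib.ConwayType.exists_data z hz Q hF hQ hcard e hnwc
  obtain ⟨P, s, F₀⟩ := CfsgLib.ConwayType.exists_frame D
  obtain ⟨π, F, hgood⟩ := CfsgLib.ConwayGolay.exists_good F₀
  obtain ⟨eN, heNz, heNA⟩ := exists_nEquiv F hgood
  obtain ⟨A, hA, hinjC, hrange⟩ := exists_amalgamMap F hgood eN heNz heNA
  obtain ⟨f, hfN, hfX⟩ := exists_hom A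
  have hfz : f zOne = z := by
    rw [show f zOne = A.toN ⟨zOne, zOne_mem_nOne⟩ from hfN ⟨zOne, zOne_mem_nOne⟩, hA, heNz]
  have hC : Subgroup.centralizer ({z} : Set G) ≤ f.range := by
    rw [← hrange]
    rintro _ ⟨c, rfl⟩
    exact ⟨c, hom_eq_toC A hfN hfX c⟩
  have hsimple : IsSimpleGroup Spor.Co1 := CfsgLib.Leech.isSimpleGroup_Co1
  have hinj : Function.Injective f := by
    rw [← MonoidHom.ker_eq_bot_iff]
    refine (Subgroup.Normal.eq_bot_or_eq_top (H := f.ker) inferInstance).resolve_right fun h => ?_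
    exact F.data.sub.ne_one (hfz ▸ MonoidHom.mem_ker.1 (h ▸ Subgroup.mem_top zOne))
  have htop := range_eq_top F.data f hinj hfz hC
  exact ⟨MulEquiv.ofBijective f ⟨hinj, MonoidHom.range_eq_top.1 htop⟩, hfz⟩

end CfsgLib.CoOneAmalgam
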