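import Cfsg.Agent.CoOneAmalgam.PModel
import Cfsg.Agent.ConwayGolay.Orbits

/-!
# Facts on the monomial part of the centralizer of the octad involution

It has no character of order two; the second octad involution lies in the extraspecial subgroup and has 30
conjugates; and the extraspecial subgroup and its intersection with the sign changes are recognised by their
orders among invariant subgroups.
-/

set_option autoImplicit false
set_option maxRecDepth 100000

namespace CfsgLib.CoOneAmalgam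

open Cfsg CfsgLib.Mathieu CfsgLib.Leech CfsgLib.CoOneInv CfsgLib.M23Ext
open CfsgLib.MTwentyThreeUnique.Gl11 CfsgLib.MTwentyFourUnique.Gl11
open scoped symmDiff Matrix

/-! ### The extraspecial subgroup -/

theorem mem_qOne_iff {x : Spor.Co1} : x ∈ qOne ↔ ∃ i, x = projC (kElt i) := by
  constructor
  · rintro ⟨-, ⟨g, hg, rfl⟩, rfl⟩
    obtain ⟨i, hi⟩ := exists_kElt (show (g : Co0) ∈ fixK from hg)
    exact ⟨i, congrArg projC hi⟩
  · rintro ⟨i, rfl⟩
    exact ⟨projCen ⟨kElt i, fixK_le_C0 (kElt_mem_fixK i)⟩, ⟨_, kElt_mem_fixK i, rfl⟩, rfl⟩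

theorem qOne_le_pOne : qOne ≤ pOne := fun x hx => by
  have hC : x ∈ C1 := Subgroup.map_subtype_le QOne hx
  obtain ⟨i, rfl⟩ := mem_qOne_iff.1 hx
  exact ⟨⟨_, monoCo0_mem_monoGroup _ _ _ _, rfl⟩, hC⟩

theorem conj_qOne {n x : Spor.Co1} (hn : n ∈ C1) (hx : x ∈ qOne) : n * x * n⁻¹ ∈ qOne := by
  obtain ⟨q, hq, rfl⟩ := hx
  exact ⟨⟨n, hn⟩ * q * ⟨n, hn⟩⁻¹, QOne_normal.conj_mem q hq _, rfl⟩

theorem card_qOne : Nat.card qOne = 512 := by
  rw [qOne, ← Nat.card_congr (Subgroup.equivMapOfInjective QOne _ C1.subtype_injective).toEquiv,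
    card_QOne]
  norm_num

theorem wList_ok : ∀ j : Fin 32, wList.getD j 0 < 2048 ∧
    shortMask (wList.getD j 0) = offWords.getD j 0 := by
  decide +kernel

theorem signEl_wList (j : Fin 32) : signEl (wList.getD j 0) = projC (kElt (0, j)) := by
  obtain ⟨h1, h2⟩ := wList_ok j
  rw [signEl_eq_projC h1 (c := offSet j) (hc := offSet_supports j) (by rw [h2]; rfl)]
  exact congrArg projC (monoCo0_congr (Equiv.ext fun p => (transPerm_zero p).symm) rfl)

theorem signEl_wList_mem (j : Fin 32) : signEl (wList.getD j 0) ∈ qOne :=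
  mem_qOne_iff.2 ⟨_, signEl_wList j⟩

theorem signEl_mem_qOne {y : ℕ} (h : y ∈ wList) : signEl y ∈ qOne := by
  obtain ⟨j, hj, rfl⟩ := List.getElem_of_mem h
  have := signEl_wList_mem ⟨j, lt_of_lt_of_eq hj (by decide +kernel : wList.length = 32)⟩
  rwa [List.getD_eq_getElem _ _ hj] at this

theorem transPerm_eq_one {i : Fin 16} (h : transPerm i = 1) : i = 0 := by
  have h1 : ∀ i : Fin 16, tableFun (octadTranslations.getD i 0) (pt 4) = pt 4 → i = 0 := by
    decide +kernel
  exact h1 i (by rw [← transPerm_apply, h]; rfl)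

theorem mem_qa {x : Spor.Co1} (hx : x ∈ qOne ⊓ aOne) : ∃ j : Fin 32, x = signEl (wList.getD j 0) := by
  obtain ⟨⟨i, j⟩, rfl⟩ := mem_qOne_iff.1 hx.1
  obtain ⟨y, hy, e⟩ := exists_signEl hx.2
  refine ⟨j, ?_⟩
  have hc : setOf24 (shortMask y) ∈ supports (golayCode : Set (GolayPt → ZMod 2)) := by
    rw [← support₂_wordOf]; exact supp_mem (shortMask_code y).1
  rw [signEl_eq_projC hy rfl (hc := hc)] at e
  suffices hi : i = 0 by rw [signEl_wList, hi]
  refine transPerm_eq_one ?_
  rcases projC_eq_cases e with h | h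
  · have := @monoOf_injective (⟨1, one_mem _⟩, ⟨_, hc⟩)
      (⟨transPerm i, transPerm_mem i⟩, ⟨offSet j, offSet_supports j⟩) h
    simp only [Prod.mk.injEq, Subtype.mk.injEq] at this
    exact this.1.symm
  · have h' : monoCo0 1 (one_mem _) (setOf24 (shortMask y)) hc =
        monoCo0 (transPerm i) (transPerm_mem i) (offSet j)ᶜ (supports_compl (offSet_supports j)) := by
      refine h.trans ((monoCo0_mul 1 (one_mem _) Finset.univ univ_mem_supports (transPerm i)
        (transPerm_mem i) (offSet j) (offSet_supports j)).trans (monoCo0_congr (mul_one _) ?_))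
      ext p
      simp [Finset.mem_symmDiff]
    have := @monoOf_injective (⟨1, one_mem _⟩, ⟨_, hc⟩) (⟨transPerm i, transPerm_mem i⟩, ⟨_, supports_compl (offSet_supports j)⟩) h'
    simp only [Prod.mk.injEq, Subtype.mk.injEq] at this
    exact this.1.symm

theorem qa_iff {x : Spor.Co1} : x ∈ qOne ⊓ aOne ↔ ∃ j : Fin 32, x = signEl (wList.getD j 0) :=
  ⟨mem_qa, fun ⟨j, e⟩ => e ▸ ⟨signEl_wList_mem j, signEl_mem _⟩⟩

theorem wList_inj : ∀ i j : Fin 32, wList.getD i 0 = wList.getD j 0 → i = j := by decide +kernel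

theorem card_qa : Nat.card ↥(qOne ⊓ aOne) = 32 := by
  let f : Fin 32 → ↥(qOne ⊓ aOne) := fun j => ⟨_, qa_iff.2 ⟨j, rfl⟩⟩
  have hf : Function.Bijective f := by
    refine ⟨fun i j e => wList_inj i j ?_, fun x => ?_⟩
    · exact signEl_injective (wList_ok i).1 (wList_ok j).1 (congrArg Subtype.val e)
    · obtain ⟨j, e⟩ := mem_qa x.2
      exact ⟨j, Subtype.ext e.symm⟩
  rw [← Nat.card_congr (Equiv.ofBijective f hf), Nat.card_fin]

theorem trP_mem_qOne (i : Fin 16) : permC (trP i) ∈ qOne := by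
  refine mem_qOne_iff.2 ⟨(i, 0), ?_⟩
  show projC (permHom (trP i)) = _
  refine congrArg projC ?_
  simp only [permHom, MonoidHom.coe_mk, OneHom.coe_mk, kElt]
  refine monoCo0_congr (congrArg Subtype.val (trP_inv i)) ?_
  ext p
  simp [offSet_zero p]

/-! ### The orbit of the second octad involution -/

/-- The coordinates of the second octad involution. -/
def sCoord : ℕ := 208

theorem signEl_sCoord : signEl sCoord = sOne := by
  rw [sOne, sCo0]
  exact signEl_eq_projC (by norm_num [sCoord]) (congrArg setOf24 (by decide +kernel))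

theorem sOne_mem_qOne : sOne ∈ qOne :=
  signEl_sCoord ▸ signEl_mem_qOne (by decide +kernel)

theorem cls_mem {S : Set Spor.Co1} (hS : ∀ n ∈ pOne, ∀ x ∈ S, n * x * n⁻¹ ∈ S) {r y : ℕ}
    (hr : signEl r ∈ S) (hy : (cls stCols r).testBit y = true) : signEl y ∈ S := by
  refine cls_spec (P := fun y => signEl y ∈ S) (fun c hc x hx => ?_) hr y hy
  obtain ⟨k, hk, rfl⟩ := List.getElem_of_mem hc
  have hk3 : k < 3 := lt_of_lt_of_eq hk (by decide +kernel : stCols.length = 3)
  rw [← List.getD_eq_getElem _ [] hk]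
  show signEl (xorSel (stCols.getD (⟨k, hk3⟩ : Fin 3) []) x) ∈ S
  rw [← conj_signEl]
  exact hS _ (permC_stGen_mem _) _ hx

theorem orb_facts : ((List.range 2048).filter fun y => (cls stCols sCoord).testBit y).length = 30 ∧
    (∀ j : Fin 32, j = 0 ∨ j = 31 ∨ (cls stCols sCoord).testBit (wList.getD j 0) = true) ∧
    wList.getD 0 0 = 0 ∧ wList.getD 31 0 = 2000 ∧ sCoord ≠ 0 ∧ sCoord ≠ 2000 := by
  decide +kernel

theorem orb_sOne : sOne ∈ qOne ∧ (CfsgLib.ConwayGolay.orb pOne sOne).card = 30 := by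
  classical
  refine ⟨sOne_mem_qOne, ?_⟩
  obtain ⟨h30, hcov, h0, h31, hs0, hs31⟩ := orb_facts
  set L := (List.range 2048).filter fun y => (cls stCols sCoord).testBit y
  have hLlt : ∀ y ∈ L, y < 2048 := fun y hy => List.mem_range.1 (List.mem_filter.1 hy).1
  have e : ConwayGolay.orb pOne sOne = L.toFinset.image signEl := by
    refine Finset.Subset.antisymm (fun a ha => ?_) fun a ha => ?_
    · obtain ⟨n, hn, rfl⟩ := ConwayGolay.mem_orb.1 ha
      obtain ⟨j, hj⟩ := mem_qa ⟨conj_qOne hn.2 sOne_mem_qOne,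
        conj_aOne hn.1 (signEl_sCoord ▸ signEl_mem _)⟩
      refine Finset.mem_image.2 ⟨wList.getD j 0, List.mem_toFinset.2 (List.mem_filter.2
        ⟨List.mem_range.2 (wList_ok j).1, ?_⟩), hj.symm⟩
      rcases hcov j with rfl | rfl | h
      · exfalso
        rw [Fin.val_zero, h0, signEl_zero, conj_eq_one_iff, ← signEl_sCoord, ← signEl_zero] at hj
        exact hs0 (signEl_injective (by norm_num [sCoord]) (by norm_num) hj)
      · exfalso
        rw [show ((31 : Fin 32) : ℕ) = 31 from rfl, h31, signEl_octad] at hj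
        have hz : n * zOne * n⁻¹ = zOne :=
          mul_inv_eq_iff_eq_mul.2 (Subgroup.mem_centralizer_singleton_iff.1 hn.2)
        have h' := mul_left_cancel (mul_right_cancel (hj.trans hz.symm))
        rw [← signEl_sCoord, ← signEl_octad] at h'
        exact hs31 (signEl_injective (by norm_num [sCoord]) (by norm_num) h')
      · exact h
    · obtain ⟨y, hy, rfl⟩ := Finset.mem_image.1 ha
      refine cls_mem (S := (ConwayGolay.orb pOne sOne : Set Spor.Co1)) (fun m hm x hx => ?_) ?_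
        (List.mem_filter.1 (List.mem_toFinset.1 hy)).2
      · exact ConwayGolay.orb_conj hm hx
      · rw [signEl_sCoord]
        exact ConwayGolay.mem_orb.2 ⟨1, one_mem _, by simp⟩
  rw [e, Finset.card_image_of_injOn, List.toFinset_card_of_nodup (List.nodup_range.filter _), h30]
  intro a ha b hb h
  exact signEl_injective (hLlt a (List.mem_toFinset.1 ha)) (hLlt b (List.mem_toFinset.1 hb)) h

/-! ### Small invariant subgroups of the sign changes -/

theorem out_facts :
    (outReps.all fun r => Nat.blt 32 ((List.range 2048).filter fun y => (cls stCols r).testBit y).length) =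
        true ∧
      (allBelow 2048 fun y => wList.contains y || outReps.any fun r => (cls stCols r).testBit y) = true := by
  decide +kernel

theorem eq_of_small (B : Subgroup Spor.Co1) (hB : B ≤ aOne)
    (hn : ∀ n ∈ pOne, ∀ b ∈ B, n * b * n⁻¹ ∈ B) (hz : zOne ∈ B) (hc : Nat.card B = 32) :
    B = qOne ⊓ aOne := by
  classical
  have _ := hz
  obtain ⟨hbig, hcov⟩ := out_facts
  have hle : B ≤ qOne ⊓ aOne := fun b hb => by
    obtain ⟨y, hy, rfl⟩ := exists_signEl (hB hb)
    refine ⟨?_, signEl_mem _⟩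
    have h := allBelow_iff.1 hcov y hy
    rw [Bool.or_eq_true, List.contains_iff_mem, List.any_eq_true] at h
    rcases h with h | ⟨r, hr, h⟩
    · exact signEl_mem_qOne h
    exfalso
    have hrB : signEl r ∈ B := by
      by_contra hrn
      refine (cls_mem (S := {x | x ∉ B}) (fun n hn' x hx hxB => hx ?_) hrn h) hb
      have := hn n⁻¹ (inv_mem hn') _ hxB
      rwa [inv_inv, show n⁻¹ * (n * x * n⁻¹) * n = x by group] at this
    have hL := List.all_eq_true.1 hbig r hr
    rw [Nat.blt_eq] at hL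
    set L := (List.range 2048).filter fun y => (cls stCols r).testBit y
    have hmem : ∀ y : {y // y ∈ L.toFinset}, signEl y.1 ∈ B := fun y =>
      cls_mem (S := (B : Set Spor.Co1)) hn hrB (List.mem_filter.1 (List.mem_toFinset.1 y.2)).2
    have hinj : Function.Injective (fun y => (⟨_, hmem y⟩ : B)) := fun u v e => Subtype.ext
      (signEl_injective (List.mem_range.1 (List.mem_filter.1 (List.mem_toFinset.1 u.2)).1)
        (List.mem_range.1 (List.mem_filter.1 (List.mem_toFinset.1 v.2)).1) (congrArg Subtype.val e))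
    have := Nat.card_le_card_of_injective _ hinj
    rw [hc, Nat.card_eq_finsetCard, List.toFinset_card_of_nodup (List.nodup_range.filter _)] at this
    exact absurd (hL.trans_le this) (lt_irrefl _)
  exact Subgroup.eq_of_le_of_card_ge hle (by rw [card_qa, hc])

/-! ### No character of order two -/

/-- The commutators of unit vectors with the generators. -/
def commList : List ℕ := stCols.flatMap fun c => List.zipWith (· ^^^ ·) c idM

theorem comm_facts : (∀ i : Fin 11, xorSel commList (commCerts.getD i 0) = 2 ^ i.val) ∧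
    (∀ d ∈ commList, ∃ k : Fin 3, ∃ i : Fin 11,
      d = xorSel (stCols.getD k []) (2 ^ i.val) ^^^ 2 ^ i.val) ∧
    (∀ y : Fin 2048, xorSel idM y.val = y.val) ∧
    ∀ k : Fin 3, allBelow 24 (fun a => wordPt (List.replicate (stOrds.getD k 0) k.val) a == a) = true := by
  decide +kernel

theorem odd_ord (a : Multiplicative (ZMod 2)) (k : Fin 3) (h : a ^ stOrds.getD k 0 = 1) : a = 1 := by
  revert a k
  decide

theorem pOne_hom_eq_one (χ : pOne →* Multiplicative (ZMod 2)) : χ = 1 := by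
  obtain ⟨hcert, hgen, hid, hord⟩ := comm_facts
  let Kp : Subgroup Spor.Co1 := χ.ker.map pOne.subtype
  have hKp : ∀ {x : Spor.Co1} (hx : x ∈ pOne), χ ⟨x, hx⟩ = 1 → x ∈ Kp := fun hx h => ⟨⟨_, hx⟩, h, rfl⟩
  let K : Subgroup M24 := Kp.comap permC
  have hK : ∀ k, stGen k ∈ K := fun k => by
    refine hKp (permC_stGen_mem k) (odd_ord _ k ?_)
    have e : stGen k ^ stOrds.getD k 0 = 1 := by
      have := stWord_eq_one (hord k)
      rw [stWord, List.map_replicate, List.prod_replicate] at this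
      convert this using 3
      exact Fin.ext (Nat.mod_eq_of_lt k.2).symm
    rw [← map_pow, ← map_one χ]
    refine congrArg χ (Subtype.ext ?_)
    show permC (stGen k) ^ _ = 1
    rw [← map_pow, e, map_one]
  let P : ℕ → Prop := fun y => signEl y ∈ Kp
  have hP0 : P 0 := by show signEl 0 ∈ Kp; rw [signEl_zero]; exact one_mem _
  have hPx : ∀ a b, P a → P b → P (a ^^^ b) := fun a b ha hb => by
    show signEl _ ∈ Kp; rw [signEl_xor]; exact mul_mem ha hb
  have hd : ∀ d ∈ commList, P d := by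
    intro d hd
    obtain ⟨k, i, rfl⟩ := hgen d hd
    have hg := permC_stGen_mem k
    have hy : signEl (2 ^ i.val) ∈ pOne := aOne_le_pOne (signEl_mem _)
    have e := conj_signEl k (2 ^ i.val)
    show signEl _ ∈ Kp
    rw [signEl_xor, ← e]
    refine hKp (mul_mem (mul_mem (mul_mem hg hy) (inv_mem hg)) hy) ?_
    show χ (⟨_, hg⟩ * ⟨_, hy⟩ * ⟨_, hg⟩⁻¹ * ⟨_, hy⟩) = 1
    rw [map_mul, map_mul, map_mul, map_inv, mul_right_comm _ _ (χ _)⁻¹, mul_inv_cancel, one_mul]
    exact (by decide : ∀ a : Multiplicative (ZMod 2), a * a = 1) _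
  have hA : ∀ a ∈ aOne, a ∈ Kp := fun a ha => by
    obtain ⟨y, hy, rfl⟩ := exists_signEl ha
    rw [show y = xorSel idM y from (hid ⟨y, hy⟩).symm]
    refine xorSel_induction P hP0 hPx idM y fun r hr => ?_
    obtain ⟨i, rfl⟩ := (by decide +kernel : ∀ r ∈ idM, ∃ i : Fin 11, r = 2 ^ i.val) r hr
    rw [← hcert i]
    exact xorSel_induction P hP0 hPx _ _ hd
  refine MonoidHom.ext fun x => ?_
  obtain ⟨a, ha, σ, hσ, e⟩ := pOne_split x.2
  obtain ⟨x', hx', e'⟩ := mul_mem (hA a ha) (show permC σ ∈ Kp from stab_mem hK hσ)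
  rw [MonoidHom.one_apply, ← show x' = x from Subtype.ext (e'.trans e.symm)]
  exact hx'

/-! ### Invariant subgroups of order 512 -/

/-- The quotient of a conjugate by the element. -/
def cjq {G : Type*} [Group G] (h x : G) : G := h * x * h⁻¹ * x⁻¹

theorem cjq_mem {X : Subgroup Spor.Co1} (hn : ∀ n ∈ pOne, ∀ x ∈ X, n * x * n⁻¹ ∈ X)
    {h x : Spor.Co1} (hh : h ∈ pOne) (hx : x ∈ X) : cjq h x ∈ X :=
  mul_mem (hn h hh x hx) (inv_mem hx)

theorem cjq_signEl (k : Fin 3) (y : ℕ) :
    cjq (permC (stGen k)) (signEl y) = signEl (xorSel (stCols.getD k []) y ^^^ y) := by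
  rw [cjq, conj_signEl, signEl_inv, ← signEl_xor]

theorem cjq_split {η a : Spor.Co1} {σ : M24} (hη : η ∈ pOne) (ha : a ∈ aOne) :
    ∃ a' ∈ aOne, cjq η (a * permC σ) = a' * cjq η (permC σ) :=
  ⟨η * a * η⁻¹ * (cjq η (permC σ) * a⁻¹ * (cjq η (permC σ))⁻¹),
    mul_mem (conj_aOne hη.1 ha) (conj_aOne
      (mul_mem (mul_mem (mul_mem hη.1 (permC_mem σ)) (inv_mem hη.1)) (inv_mem (permC_mem σ)))
      (inv_mem ha)),
    by simp only [cjq]; group⟩

theorem cjq_qOne {η a q : Spor.Co1} (hη : η ∈ pOne) (ha : a ∈ aOne) (hq : q ∈ qOne) :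
    ∃ q' ∈ qOne, cjq η (a * q) = cjq η a * q' :=
  ⟨a * cjq η q * a⁻¹, conj_qOne (aOne_le_C1 ha) (mul_mem (conj_qOne hη.2 hq) (inv_mem hq)),
    by simp only [cjq]; group⟩

theorem double_facts :
    (allBelow 2048 fun y =>
      wList.contains (xorSel (stCols.getD 0 []) (xorSel (stCols.getD 1 []) y ^^^ y) ^^^
        (xorSel (stCols.getD 1 []) y ^^^ y))) = true ∧
    (∀ i : Fin 16, allBelow 24 (fun a =>
      wordPt ([0] ++ ([1] ++ transWords.getD i [] ++ [1, 1, 1, 1] ++ transWords.getD i []) ++ [0, 0] ++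
          (transWords.getD i [] ++ [1] ++ transWords.getD i [] ++ [1, 1, 1, 1])) a ==
        wordPt (transWords.getD (tauTab.getD i 0) []) a) = true) ∧
    (∀ i : Fin 16, tauTab.getD i 0 < 16) ∧ ∀ i j : Fin 16, tauTab.getD i 0 = tauTab.getD j 0 → i = j := by
  decide +kernel

/-- The effect of the double commutator on translations. -/
def tau (i : Fin 16) : Fin 16 := ⟨tauTab.getD i 0, double_facts.2.2.1 i⟩

theorem cjq_double (i : Fin 16) :
    cjq (permC (stGen 0)) (cjq (permC (stGen 1)) (permC (trP i))) = permC (trP (tau i)) := by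
  simp only [cjq, ← map_inv, ← map_mul]
  refine congrArg permC ?_
  rw [← stWord_trans (tau i), show ((tau i : Fin 16) : ℕ) = tauTab.getD i 0 from rfl,
    ← stWord_eq_stWord (double_facts.2.1 i)]
  have happ : ∀ u v : List ℕ, stWord (u ++ v) = stWord u * stWord v := fun u v => by
    simp only [stWord, List.map_append, List.prod_append]
  have h1 : stWord [1] = stGen 1 := by simp [stWord]
  have h0 : stWord [0] = stGen 0 := by simp [stWord]
  have h00 : stWord [0, 0] = (stGen 0)⁻¹ := eq_inv_of_mul_eq_one_right (by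
    rw [← h0, ← happ]; exact stWord_eq_one (by decide +kernel))
  have h11 : stWord [1, 1, 1, 1] = (stGen 1)⁻¹ := eq_inv_of_mul_eq_one_right (by
    rw [← h1, ← happ]; exact stWord_eq_one (by decide +kernel))
  simp only [happ, h0, h1, h00, h11, stWord_trans]
  rw [_root_.mul_inv_rev, _root_.mul_inv_rev, _root_.mul_inv_rev, inv_inv, trP_inv]
  group

theorem tau_injective : Function.Injective tau := fun i j h =>
  double_facts.2.2.2 i j (congrArg Fin.val h)

theorem row_facts : ∀ a q n : Fin 24, m24BaseOctad.testBit a.val = true → m24BaseOctad.testBit q.val = true →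
    m24BaseOctad.testBit n.val = true → a.val ≠ 23 → q ≠ n →
      allBelow 11 (fun j => (rowBit j q.val != rowBit j n.val) == rowBit j a.val) = true →
        (q = a ∧ n.val = 23) ∨ (n = a ∧ q.val = 23) := by
  decide +kernel

/-- A permutation moving every code word only within the sign words off the octad fixes the octad. -/
theorem fix_octO {σ : M24} (hσ : StabO σ)
    (h : ∀ a ∈ aOne, permC σ * a * (permC σ)⁻¹ * a⁻¹ ∈ qOne ⊓ aOne) :
    ∃ i, σ = trP i := by
  set s : Equiv.Perm GolayPt := (σ : Equiv.Perm GolayPt) with hs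
  have hrow : ∀ j : Fin 11, ∀ p ∈ octO,
      ((rowBit j.val (idx (s⁻¹ p)) != rowBit j.val (idx (s⁻¹ none))) == rowBit j.val (idx p)) = true := by
    intro j p hp
    obtain ⟨l, hl⟩ := mem_qa (h _ (signEl_mem (2 ^ j.val)))
    rw [signEl, conj_signHom, codeAut_apply, ← map_inv, ← map_mul, ← ofAdd_neg, ← ofAdd_add] at hl
    have hv : repM24 σ *ᵥ MTwentyThreeUnique.Gl11.vecOf (2 ^ j.val) +
        -MTwentyThreeUnique.Gl11.vecOf (2 ^ j.val) =
        MTwentyThreeUnique.Gl11.vecOf (wList.getD l 0) :=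
      Multiplicative.ofAdd.injective (signHom_injective hl)
    have hzero : cw (repM24 σ *ᵥ MTwentyThreeUnique.Gl11.vecOf (2 ^ j.val)) p +
        -(cw (MTwentyThreeUnique.Gl11.vecOf (2 ^ j.val)) p) = 0 := by
      have e := congrFun (congrArg cw hv) p
      rw [map_add, map_neg, Pi.add_apply, Pi.neg_apply, cw_vecOf (wList_ok l).1, (wList_ok l).2] at e
      rw [e]
      exact if_neg fun hh => offSet_not_octO l p hp (mem_setOf24.2 hh)
    rw [show cw (repM24 σ *ᵥ MTwentyThreeUnique.Gl11.vecOf (2 ^ j.val)) =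
        fixW (moveW s (cw (MTwentyThreeUnique.Gl11.vecOf (2 ^ j.val)))) from by
      rw [← cw_act24]; exact congrArg cw (LinearMap.toMatrix'_mulVec _ _), cw_two_pow, fixW_apply] at hzero
    revert hzero
    show (if rowBit j.val (idx (s⁻¹ p)) then (1 : ZMod 2) else 0) +
      (if rowBit j.val (idx (s⁻¹ none)) then 1 else 0) +
        -(if rowBit j.val (idx p) then (1 : ZMod 2) else 0) = 0 → _
    cases rowBit j.val (idx (s⁻¹ p)) <;> cases rowBit j.val (idx (s⁻¹ none)) <;>
      cases rowBit j.val (idx p) <;> decide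
  have hO : ∀ p ∈ octO, s⁻¹ p ∈ octO := fun p hp => by
    rw [← hσ, ← hs, perm_apply_inv]; exact hp
  have hnone : (none : GolayPt) ∈ octO := by decide +kernel
  have key : ∀ p ∈ octO, p ≠ none → (s⁻¹ p = p ∧ s⁻¹ none = none) ∨ (s⁻¹ none = p ∧ s⁻¹ p = none) := by
    intro p hp hpn
    have h23 : ∀ r, idx r = 23 → r = none := fun r hr => idx_injective (hr.trans rfl)
    rcases row_facts ⟨idx p, idx_lt p⟩ ⟨idx (s⁻¹ p), idx_lt _⟩ ⟨idx (s⁻¹ none), idx_lt _⟩
        (mem_octO.1 hp) (mem_octO.1 (hO p hp)) (mem_octO.1 (hO _ hnone)) (fun e => hpn (h23 p e))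
        (fun e => hpn (s⁻¹.injective (idx_injective (Fin.val_eq_of_eq e))))
        (allBelow_iff.2 fun j hj => hrow ⟨j, hj⟩ p hp) with ⟨e1, e2⟩ | ⟨e1, e2⟩
    · exact Or.inl ⟨idx_injective (Fin.val_eq_of_eq e1), h23 _ e2⟩
    · exact Or.inr ⟨idx_injective (Fin.val_eq_of_eq e1), h23 _ e2⟩
  have h01 : pt 0 ∈ octO ∧ pt 1 ∈ octO ∧ pt 0 ≠ none ∧ pt 1 ≠ none ∧ pt 0 ≠ pt 1 := by decide +kernel
  have hfix_none : s⁻¹ none = none := by
    obtain ⟨h0, h1, n0, n1, ne⟩ := h01
    rcases key _ h0 n0 with h | h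
    · exact h.2
    rcases key _ h1 n1 with h' | h'
    · exact h'.2
    · exact absurd (h.1.symm.trans h'.1) ne
  obtain ⟨i, hi⟩ := fix_six σ.2 fun x hx => by
    have hxO : x ∈ octO := (by decide +kernel : ∀ x ∈ m24Base.take 6, x ∈ octO) x hx
    have hx' : s⁻¹ x = x := by
      by_cases hxn : x = none
      · rw [hxn, hfix_none]
      · rcases key x hxO hxn with h | h
        · exact h.1
        · exact absurd (h.1.symm.trans hfix_none) hxn
    conv_lhs => rw [← hx']
    exact perm_apply_inv s x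
  exact ⟨i, Subtype.ext hi⟩

theorem eq_qOne (X : Subgroup Spor.Co1) (hX : X ≤ pOne)
    (hn : ∀ n ∈ pOne, ∀ x ∈ X, n * x * n⁻¹ ∈ X) (hc : Nat.card X = 512)
    (hA : X ⊓ aOne = qOne ⊓ aOne) : X = qOne := by
  classical
  have hform : ∀ x ∈ X, ∃ i, ∃ a ∈ aOne, x = a * permC (trP i) := by
    intro x hx
    obtain ⟨a, ha, σ, hσ, rfl⟩ := pOne_split (hX hx)
    obtain ⟨i, rfl⟩ := fix_octO hσ fun b hb => by
      have hP := aOne_le_pOne hb
      have h1 : a * permC σ * (b * (a * permC σ)⁻¹ * b⁻¹) ∈ X := mul_mem hx (hn b hP _ (inv_mem hx))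
      have hc' : permC σ * b * (permC σ)⁻¹ ∈ aOne := conj_aOne (permC_mem σ) hb
      have e : a * permC σ * (b * (a * permC σ)⁻¹ * b⁻¹) = permC σ * b * (permC σ)⁻¹ * b⁻¹ := by
        rw [show a * permC σ * (b * (a * permC σ)⁻¹ * b⁻¹) =
          a * (permC σ * b * (permC σ)⁻¹) * a⁻¹ * b⁻¹ by group, aOne_comm ha hc',
          mul_inv_cancel_right]
      rw [← hA]
      exact ⟨e ▸ h1, aOne.mul_mem hc' (aOne.inv_mem hb)⟩
    exact ⟨i, a, ha, rfl⟩
  -- the translations occurring in `X`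
  let I := {i : Fin 16 // ∃ x ∈ X, ∃ a ∈ aOne, x = a * permC (trP i)}
  -- a member of `X ⊓ qOne` over each translation in the image
  have hstep : ∀ i : I, ∃ y ∈ X ⊓ qOne, ∃ a ∈ aOne, y = a * permC (trP (tau i.1)) := by
    rintro ⟨i, x, hx, a, ha, rfl⟩
    have g0 := permC_stGen_mem 0
    have g1 := permC_stGen_mem 1
    refine ⟨_, ⟨cjq_mem hn g0 (cjq_mem hn g1 hx), ?_⟩, ?_⟩
    · obtain ⟨q1, hq1, e1⟩ := cjq_qOne g1 ha (trP_mem_qOne i)
      obtain ⟨y, hy, rfl⟩ := exists_signEl ha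
      rw [cjq_signEl] at e1
      obtain ⟨q2, hq2, e2⟩ := cjq_qOne g0 (signEl_mem _) hq1
      show cjq _ _ ∈ qOne
      rw [e1, e2, cjq_signEl]
      refine mul_mem (signEl_mem_qOne ?_) hq2
      have := allBelow_iff.1 double_facts.1 y hy
      rwa [List.contains_iff_mem] at this
    · obtain ⟨a1, ha1, e1⟩ := cjq_split (σ := trP i) g1 ha
      have e : cjq (permC (stGen 1)) (permC (trP i)) =
          permC (stGen 1 * trP i * (stGen 1)⁻¹ * (trP i)⁻¹) := by
        simp only [cjq, map_mul, map_inv]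
      rw [e] at e1
      obtain ⟨a2, ha2, e2⟩ := cjq_split (σ := stGen 1 * trP i * (stGen 1)⁻¹ * (trP i)⁻¹) g0 ha1
      refine ⟨a2, ha2, ?_⟩
      show cjq _ _ = _
      rw [e1, e2, ← e, cjq_double]
  let T : I → I := fun i => ⟨tau i.1, by
    obtain ⟨y, hy, a, ha, e⟩ := hstep i
    exact ⟨y, hy.1, a, ha, e⟩⟩
  have hT : Function.Injective T := fun i j h => Subtype.ext (tau_injective (congrArg Subtype.val h))
  have hle : X ≤ qOne := by
    intro x hx
    obtain ⟨i, a, ha, rfl⟩ := hform x hx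
    obtain ⟨⟨k, hk⟩, hTk⟩ := Finite.injective_iff_surjective.1 hT ⟨i, _, hx, a, ha, rfl⟩
    obtain ⟨y, hy, b, hb, rfl⟩ := hstep ⟨k, hk⟩
    rw [show tau k = i from congrArg Subtype.val hTk] at hy
    have h1 : a * b⁻¹ ∈ X ⊓ aOne := ⟨by
      have := mul_mem hx (inv_mem hy.1)
      rwa [show a * permC (trP i) * (b * permC (trP i))⁻¹ = a * b⁻¹ by group] at this,
      aOne.mul_mem ha (aOne.inv_mem hb)⟩
    rw [hA] at h1
    rw [show a * permC (trP i) = a * b⁻¹ * (b * permC (trP i)) by group]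
    exact mul_mem h1.1 hy.2
  exact Subgroup.eq_of_le_of_card_ge hle (by rw [card_qOne, hc])

end CfsgLib.CoOneAmalgam
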