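import Cfsg.Agent.CoOneAmalgam.ToN
import Cfsg.Agent.CoOneAmalgam.PFacts

/-!
# The isomorphism of the monomial groups matches the extraspecial subgroups
-/

set_option autoImplicit false

namespace CfsgLib.CoOneAmalgam

open Cfsg CfsgLib.ConwayType CfsgLib.ConwayGolay
open CfsgLib.CoOneInv (zOne C1)

variable {G : Type*} [Group G] {z s : G} {Q P : Subgroup G} {π : G → V8}

/-- An embedding of the monomial part of the centralizer matching the extraspecial subgroups. -/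
structure Emb (D : Data z Q π) where
  /-- the embedding -/
  eP : pOne →* G
  inj : Function.Injective eP
  map_z : ∀ h : zOne ∈ pOne, eP ⟨zOne, h⟩ = z
  comm_z : ∀ x, eP x * z = z * eP x
  surj : ∀ c : G, c * z = z * c → (∀ v, InW v → InW (D.act c v)) → ∃ x, eP x = c
  card : Nat.card pOne = 660602880
  qiff : ∀ x : pOne, (x : Spor.Co1) ∈ qOne ↔ eP x ∈ Q

theorem zOne_mem_pOne : zOne ∈ pOne :=
  ⟨zOne_mem_nOne, Subgroup.mem_centralizer_singleton_iff.2 rfl⟩

variable [Finite G]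

/-- The embedding exists, extending the given isomorphism. -/
theorem exists_emb (F : Frame z Q π P s) (hgood : Good F)
    (e : nOne ≃* Subgroup.normalizer (theA F.data : Set G))
    (hz : ((e ⟨zOne, zOne_mem_nOne⟩ : _) : G) = z)
    (hA : ∀ x : nOne, (x : Spor.Co1) ∈ aOne ↔ (e x : G) ∈ theA F.data) :
    ∃ E : Emb F.data, ∀ x : pOne, E.eP x = (e ⟨x, x.2.1⟩ : G) := by
  let eP : pOne →* G :=
    (Subgroup.normalizer (theA F.data : Set G)).subtype.comp
      (e.toMonoidHom.comp (Subgroup.inclusion (show pOne ≤ nOne from fun _ h => h.1)))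
  have heP : ∀ x : pOne, eP x = (e ⟨x, x.2.1⟩ : G) := fun _ => rfl
  have hinj : Function.Injective eP := Subtype.coe_injective.comp (e.injective.comp
    (Subgroup.inclusion_injective _))
  have hcz : ∀ x : nOne, (x : Spor.Co1) ∈ C1 ↔ (e x : G) * z = z * (e x : G) := fun x =>
    (nEquiv_mem_centralizer e hz x).trans Subgroup.mem_centralizer_singleton_iff
  have hcomm : ∀ x : pOne, eP x * z = z * eP x := fun x => (hcz ⟨x, x.2.1⟩).1 x.2.2
  have hrange : eP.range =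
      Subgroup.normalizer (theA F.data : Set G) ⊓ Subgroup.centralizer ({z} : Set G) := by
    refine le_antisymm ?_ ?_
    · rintro _ ⟨x, rfl⟩
      exact ⟨(e ⟨x, x.2.1⟩).2, Subgroup.mem_centralizer_singleton_iff.2 (hcomm x)⟩
    · rintro c ⟨hc, hcz'⟩
      have hx := (hcz (e.symm ⟨c, hc⟩)).2 (by
        rw [MulEquiv.apply_symm_apply]; exact Subgroup.mem_centralizer_singleton_iff.1 hcz')
      refine ⟨⟨_, (e.symm ⟨c, hc⟩).2, hx⟩, ?_⟩
      show (e (e.symm ⟨c, hc⟩) : G) = c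
      rw [MulEquiv.apply_symm_apply]
  have hcard : Nat.card pOne = 660602880 := by
    rw [← card_normalizer_inf F hgood, ← hrange]
    exact Nat.card_congr (MonoidHom.ofInjective hinj).toEquiv
  have hQr : Q ≤ eP.range := fun q hq => by
    rw [hrange, normalizer_inf_eq]; exact mem_stW_of_mem_Q F.data hq []
  -- the preimage of `Q`
  set X : Subgroup Spor.Co1 := (Q.comap eP).map pOne.subtype with hX
  have hXP : X ≤ pOne := Subgroup.map_subtype_le _
  have hXmem : ∀ x : pOne, (x : Spor.Co1) ∈ X ↔ eP x ∈ Q := fun x =>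
    ⟨fun ⟨y, hy, h⟩ => by rwa [Subtype.ext h] at hy, fun h => ⟨x, h, rfl⟩⟩
  have hXn : ∀ n ∈ pOne, ∀ x ∈ X, n * x * n⁻¹ ∈ X := by
    intro n hn x hx
    obtain ⟨y, hy, rfl⟩ := hx
    refine ⟨⟨n, hn⟩ * y * ⟨n, hn⟩⁻¹, ?_, rfl⟩
    show eP _ ∈ Q
    rw [map_mul, map_mul, map_inv]
    exact F.data.sub.conj_mem (hcomm _) hy
  have hXc : Nat.card X = 512 := by
    rw [hX, Subgroup.card_map_of_injective pOne.subtype_injective, ← F.data.card]
    conv_rhs => rw [← Subgroup.map_comap_eq_self hQr, Subgroup.card_map_of_injective hinj]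
  have hAn : aOne ≤ nOne := aOne_le_nOne
  have hAP : aOne ≤ pOne := fun a ha => ⟨hAn ha,
    (hcz ⟨a, hAn ha⟩).2 (theA_comm_z F.data ((hA ⟨a, hAn ha⟩).1 ha))⟩
  have hBc : Nat.card ↥(X ⊓ aOne) = 32 := by
    rw [← card_wTil F.data]
    have hwr : wTil F.data ≤ eP.range := fun x hx => hQr hx.1
    conv_rhs => rw [← Subgroup.map_comap_eq_self hwr, Subgroup.card_map_of_injective hinj,
      ← Subgroup.card_map_of_injective pOne.subtype_injective]
    refine congrArg (fun H : Subgroup Spor.Co1 => Nat.card H) (Subgroup.ext fun x => ⟨?_, ?_⟩)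
    · rintro ⟨⟨y, hy, rfl⟩, hxA⟩
      exact ⟨y, mem_wTil_of_mem_Q F.data ((hA ⟨y, hAn hxA⟩).1 hxA) hy, rfl⟩
    · rintro ⟨y, hy, rfl⟩
      exact ⟨⟨y, hy.1, rfl⟩, (hA ⟨y, y.2.1⟩).2 (wTil_le F.data hy)⟩
  have hB : X ⊓ aOne = qOne ⊓ aOne := by
    refine eq_of_small (X ⊓ aOne) inf_le_right (fun n hn b hb => ⟨hXn n hn b hb.1, ?_⟩) ?_ hBc
    · have hb' := (hA ⟨b, hAn hb.2⟩).1 hb.2
      have hmem : n * b * n⁻¹ ∈ nOne := mul_mem (mul_mem hn.1 (hAn hb.2)) (inv_mem hn.1)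
      refine (hA ⟨_, hmem⟩).2 ?_
      rw [show (⟨n * b * n⁻¹, hmem⟩ : nOne) = ⟨n, hn.1⟩ * ⟨b, hAn hb.2⟩ * ⟨n, hn.1⟩⁻¹ from rfl,
        map_mul, map_mul, map_inv]
      exact (Subgroup.mem_normalizer_iff.1 (e ⟨n, hn.1⟩).2 _).1 hb'
    · refine ⟨(hXmem ⟨zOne, zOne_mem_pOne⟩).2 ?_, (hA ⟨zOne, zOne_mem_nOne⟩).2 ?_⟩
      · rw [heP]; simp only [hz]; exact F.data.sub.z_mem
      · rw [hz]; exact wTil_le F.data (z_mem_wTil F.data)
  have hXq : X = qOne := eq_qOne X hXP hXn hXc hB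
  refine ⟨⟨eP, hinj, fun h => ?_, hcomm, fun c hc hW => ?_, hcard, fun x => ?_⟩, heP⟩
  · rw [heP]; exact hz
  · have : c ∈ eP.range := by
      rw [hrange, normalizer_inf_eq]; exact ⟨hc, hW, by simp⟩
    exact this
  · rw [← hXq]; exact hXmem x

end CfsgLib.CoOneAmalgam
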