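import Mathlib

/-!
Data for the monomial part of the centralizer of the octad involution: three permutations of the 24 points
stabilizing the base octad (of orders three, five and seven), their matrices on the code modulo the all-one
word, and words in them.
-/

set_option autoImplicit false

namespace CfsgLib.CoOneAmalgam

/-- The three tables. -/
def stTabs : List ℕ :=
  [0x170814090d10000a160e04070c12150f0b06051303110102, 0x030d100a0c08110f13050715091612041406010b0e021700, 0x031604060a15010f0b00100c07081312140d0509110e0217]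

/-- Their matrices, by columns. -/
def stCols : List (List ℕ) :=
  [[148, 1426, 1665, 409, 896, 1824, 1105, 641, 1552, 1793, 913],
    [929, 1887, 1796, 384, 1536, 1826, 992, 1312, 1424, 1056, 1696],
    [1902, 1029, 210, 1042, 1744, 225, 1155, 1091, 1104, 1107, 451]]

/-- The orders. -/
def stOrds : List ℕ := [3, 5, 7]

/-- The coordinates of the sign words off the octad. -/
def wList : List ℕ :=
  [0, 1984, 1424, 592, 192, 1792, 1360, 656, 912, 1104, 1536, 448, 848, 1168, 1728, 256, 1744, 272, 832, 1152, 1552, 464, 896, 1088, 1344, 640, 208, 1808, 1408, 576, 16, 2000]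

/-- Representatives of the orbits outside the sign words off the octad. -/
def outReps : List ℕ := [1, 5, 6, 39]

/-- Expressions of the unit vectors by commutators. -/
def commCerts : List ℕ :=
  [16863282, 65568, 59, 16846893, 23, 2055, 20499, 16863263, 50, 16863274, 16863288]

/-- Words with prescribed values on the first six base points. -/
def chainWords : List (List ℕ) :=
  [[2, 1, 1],
    [2, 2, 1],
    [0, 2, 1, 1],
    [1],
    [1, 1, 1],
    [1, 1],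
    [2, 1],
    [],
    [],
    [2, 2, 1, 2],
    [0],
    [2, 2, 1, 1],
    [2, 2, 1, 2, 0],
    [1, 2, 2, 1],
    [0, 0],
    [],
    [0, 2, 0, 2, 2],
    [2, 1, 0, 2, 0, 2],
    [2, 1, 0, 2, 2],
    [1, 2, 1, 2, 0, 2],
    [2, 0, 2, 1, 0],
    [],
    [1, 2, 1, 2, 2],
    [0, 2, 1, 2, 1, 1],
    [2, 2, 1, 2, 2, 2, 1, 2],
    [2, 0, 2, 0, 2, 1, 2, 2, 1],
    [],
    [2, 2, 1, 1, 0],
    [0, 2, 0, 2, 1, 2, 1, 2, 1, 2],
    [1, 2, 0, 2, 1, 1, 1, 1, 0],
    [],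
    [1, 1, 2, 0, 2, 1, 1, 1, 0],
    [2, 2, 0, 2, 2, 0, 2, 2, 1, 0]]

/-- Words for the translations. -/
def transWords : List (List ℕ) :=
  [[],
    [2, 1, 2, 0, 0, 2, 2, 2, 0, 0, 2, 1, 2],
    [1, 0, 2, 1, 2, 1, 1, 0, 2, 1, 2, 1],
    [1, 2, 1, 2, 1, 1, 0, 2, 1, 2, 1, 0],
    [2, 2, 1, 1, 1, 1, 0, 2, 2, 2, 1, 1, 0, 2, 0],
    [2, 0, 0, 2, 2, 2, 0, 0, 2, 1, 2, 2, 1],
    [1, 2, 2, 1, 2, 0, 0, 2, 2, 2, 0, 0, 2],
    [2, 1, 2, 1, 1, 0, 2, 1, 2, 1, 1, 0],
    [0, 2, 1, 2, 2, 1, 2, 0, 0, 2, 2, 2, 0],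
    [0, 2, 1, 2, 1, 1, 0, 2, 1, 2, 1, 1],
    [1, 1, 0, 2, 1, 2, 1, 1, 0, 2, 1, 2],
    [1, 1, 0, 0, 2, 1, 2, 1, 1, 0, 2, 1, 2, 0, 0],
    [1, 1, 2, 1, 2, 1, 1, 0, 2, 1, 2, 0],
    [1, 1, 1, 2, 2, 0, 2, 1, 1, 0, 2, 2, 2, 1, 0],
    [2, 2, 0, 2, 2, 2, 0, 2, 2, 2, 0, 2],
    [0, 0, 2, 2, 0, 2, 2, 2, 0, 2, 2, 2, 0, 2, 0]]

/-- The effect on translations of the double commutator. -/
def tauTab : List ℕ := [0, 11, 15, 1, 2, 4, 8, 6, 14, 13, 5, 7, 9, 3, 10, 12]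

end CfsgLib.CoOneAmalgam
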