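import Cfsg.Agent.CoOneAmalgam.Defs

/-!
# The monomial part of the centralizer, and the extraspecial subgroup, inside the first Conway group
-/

set_option autoImplicit false

namespace CfsgLib.CoOneAmalgam

open Cfsg CfsgLib.CoOneInv

/-- The extraspecial normal subgroup of the centralizer. -/
noncomputable def qOne : Subgroup Spor.Co1 := QOne.map C1.subtype

/-- The monomial part of the centralizer. -/
noncomputable def pOne : Subgroup Spor.Co1 := nOne ⊓ C1

end CfsgLib.CoOneAmalgam
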