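import Cfsg.Agent.MTwentyFourUnique.Endgame

/-!
# Invariant sets of size 759 in the two representations of M24 of dimension 11
-/

set_option autoImplicit false
set_option maxRecDepth 100000

namespace CfsgLib.CoOneAmalgam

open Cfsg CfsgLib.Mathieu CfsgLib.M24Classes CfsgLib.MTwentyThreeUnique.Gl11
open CfsgLib.MTwentyFourUnique.Gl11 Matrix

/-- Record a new vector. -/
def visit (p : List ℕ × ℕ) (y : ℕ) : List ℕ × ℕ :=
  if p.2.testBit y then p else (y :: p.1, p.2 ||| 2 ^ y)

/-- Breadth first closure, as a bit set. -/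
def grow (gens : List (List ℕ)) : ℕ → List ℕ → ℕ → ℕ
  | 0, _, seen => seen
  | k + 1, fr, seen =>
    let p := (fr.flatMap fun x => gens.map fun c => xorSel c x).foldl visit ([], seen)
    grow gens k p.1 p.2

/-- The class of a vector. -/
def cls (gens : List (List ℕ)) (r : ℕ) : ℕ := grow gens 12 [r] (2 ^ r)

theorem visit_foldl {P : ℕ → Prop} : ∀ (l : List ℕ) (p : List ℕ × ℕ), (∀ y ∈ l, P y) →
    (∀ y ∈ p.1, P y) → (∀ y, p.2.testBit y = true → P y) →
    (∀ y ∈ (l.foldl visit p).1, P y) ∧ ∀ y, (l.foldl visit p).2.testBit y = true → P y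
  | [], _, _, h1, h2 => ⟨h1, h2⟩
  | a :: l, p, hl, h1, h2 => by
    refine visit_foldl l (visit p a) (fun y hy => hl y (List.mem_cons_of_mem a hy)) ?_ ?_
    all_goals unfold visit; split
    · exact h1
    · intro y hy
      rcases List.mem_cons.1 hy with rfl | hy
      exacts [hl _ List.mem_cons_self, h1 y hy]
    · exact h2
    · intro y hy
      rw [Nat.testBit_or, Bool.or_eq_true] at hy
      rcases hy with hy | hy
      · exact h2 y hy
      · rw [Nat.testBit_two_pow, decide_eq_true_eq] at hy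
        exact hy ▸ hl _ List.mem_cons_self

theorem grow_spec {gens : List (List ℕ)} {P : ℕ → Prop}
    (hP : ∀ c ∈ gens, ∀ x, P x → P (xorSel c x)) :
    ∀ (k : ℕ) (fr : List ℕ) (seen : ℕ), (∀ y ∈ fr, P y) → (∀ y, seen.testBit y = true → P y) →
      ∀ y, (grow gens k fr seen).testBit y = true → P y
  | 0, _, _, _, h2 => h2
  | k + 1, fr, seen, h1, h2 => by
    obtain ⟨g1, g2⟩ := visit_foldl (fr.flatMap fun x => gens.map fun c => xorSel c x) ([], seen)
      (fun y hy => by
        obtain ⟨x, hx, hy⟩ := List.mem_flatMap.1 hy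
        obtain ⟨c, hc, rfl⟩ := List.mem_map.1 hy
        exact hP c hc x (h1 x hx))
      (fun y hy => absurd hy List.not_mem_nil) h2
    exact grow_spec hP k _ _ g1 g2

theorem cls_spec {gens : List (List ℕ)} {P : ℕ → Prop}
    (hP : ∀ c ∈ gens, ∀ x, P x → P (xorSel c x)) {r : ℕ} (hr : P r) :
    ∀ y, (cls gens r).testBit y = true → P y :=
  grow_spec hP 12 [r] _ (fun y hy => List.mem_singleton.1 hy ▸ hr) fun y hy => by
    rw [Nat.testBit_two_pow, decide_eq_true_eq] at hy
    exact hy ▸ hr

/-- Two classes covering the non-zero vectors, of sizes `n1` and `n2`. -/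
def clsOK (gens : List (List ℕ)) (r1 r2 n1 n2 : ℕ) : Bool :=
  gens.all (fun c => c.length == 11) &&
    (((List.range 2048).filter fun y => (cls gens r1).testBit y).length == n1) &&
    (((List.range 2048).filter fun y => (cls gens r2).testBit y).length == n2) &&
    (List.range 2048).all (fun y => y == 0 || (cls gens r1).testBit y || (cls gens r2).testBit y)

theorem clsCode_ok : clsOK [codeA, codeB, codeD] 2000 6 759 1288 = true := by decide +kernel

theorem clsCocode_ok : clsOK [cocodeA, cocodeB, cocodeD] 1 7 276 1771 = true := by decide +kernel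

/-- An invariant set of 759 non-zero vectors is one of two classes. -/
theorem mem_of_invariant {gens : List (List ℕ)} {r1 r2 n1 n2 : ℕ} (hok : clsOK gens r1 r2 n1 n2 = true)
    (hsum : n2 ≠ 759) (_hle : n1 + n2 = 2047) (S : Set V) (hS : Nat.card S = 759) (h0 : (0 : V) ∉ S)
    (hinv : ∀ c ∈ gens, ∀ v, v ∈ S ↔ toMat c *ᵥ v ∈ S) : vecOf r1 ∈ S ∧ n1 = 759 := by
  classical
  simp only [clsOK, Bool.and_eq_true, List.all_eq_true, Bool.or_eq_true, beq_iff_eq, List.mem_range] at hok
  obtain ⟨⟨⟨hlen, hn1⟩, hn2⟩, hcov⟩ := hok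
  let P : ℕ → Prop := fun y => vecOf y ∈ S
  have hstep : ∀ c ∈ gens, ∀ x, P x ↔ P (xorSel c x) := fun c hc x => by
    show vecOf x ∈ S ↔ vecOf (xorSel c x) ∈ S
    rw [← toMat_mulVec c (hlen c hc), ← hinv c hc]
  have hin : ∀ r, P r → ∀ y, (cls gens r).testBit y = true → P y := fun r hr =>
    cls_spec (P := P) (fun c hc x hx => (hstep c hc x).1 hx) hr
  have hout : ∀ r, ¬ P r → ∀ y, (cls gens r).testBit y = true → ¬ P y := fun r hr =>
    cls_spec (P := fun y => ¬ P y) (fun c hc x hx h => hx ((hstep c hc x).2 h)) hr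
  have hz : ¬ P 0 := by show vecOf 0 ∉ S; rw [vecOf_zero]; exact h0
  have hcard : ((List.range 2048).filter fun y => decide (P y)).length = 759 := by
    rw [← List.toFinset_card_of_nodup (List.nodup_range.filter _), ← Nat.card_eq_finsetCard, ← hS]
    refine Nat.card_congr (Equiv.ofBijective (fun y => (⟨vecOf y.1, by
      have := y.2; simp only [List.mem_toFinset, List.mem_filter, decide_eq_true_eq] at this
      exact this.2⟩ : S)) ⟨fun y y' h => ?_, fun v => ?_⟩)
    · have hy := y.2
      have hy' := y'.2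
      simp only [List.mem_toFinset, List.mem_filter, List.mem_range] at hy hy'
      exact Subtype.ext (eq_of_vecOf_eq hy.1 hy'.1 (congrArg Subtype.val h))
    · obtain ⟨n, hn, e⟩ := exists_vecOf v.1
      refine ⟨⟨n, ?_⟩, Subtype.ext e.symm⟩
      simp only [List.mem_toFinset, List.mem_filter, List.mem_range, decide_eq_true_eq]
      exact ⟨hn, show vecOf n ∈ S by rw [← e]; exact v.2⟩
  by_cases h1 : P r1 <;> by_cases h2 : P r2
  · exfalso
    have : ((List.range 2048).filter fun y => decide (P y)) = (List.range 2048).filter fun y => !(y == 0) := by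
      refine List.filter_congr fun y hy => ?_
      by_cases hy0 : y = 0
      · simp [hy0, hz]
      · have : P y := ((hcov y (List.mem_range.1 hy)).elim (fun h => h.elim (absurd · hy0) (hin r1 h1 y)) (hin r2 h2 y))
        simp [this, hy0]
    rw [this, (by decide +kernel : ((List.range 2048).filter fun y => !(y == 0)).length = 2047)] at hcard
    omega
  · refine ⟨h1, ?_⟩
    rw [← hn1, ← hcard]
    refine congrArg List.length (List.filter_congr fun y hy => ?_).symm
    rcases hcov y (List.mem_range.1 hy) with (h | h) | h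
    · subst h
      have : ¬ (cls gens r1).testBit 0 = true := fun h => hz (hin r1 h1 0 h)
      simp [hz, Bool.eq_false_iff.2 this]
    · simp [h, hin r1 h1 y h]
    · have h' := hout r2 h2 y h
      have : ¬ (cls gens r1).testBit y = true := fun h => h' (hin r1 h1 y h)
      simp [h', Bool.eq_false_iff.2 this]
  · exfalso
    refine hsum ?_
    rw [← hn2, ← hcard]
    refine congrArg List.length (List.filter_congr fun y hy => ?_).symm
    rcases hcov y (List.mem_range.1 hy) with (h | h) | h
    · subst h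
      have : ¬ (cls gens r2).testBit 0 = true := fun h => hz (hin r2 h2 0 h)
      simp [hz, Bool.eq_false_iff.2 this]
    · have h' := hout r1 h1 y h
      have : ¬ (cls gens r2).testBit y = true := fun h => h' (hin r2 h2 y h)
      simp [h', Bool.eq_false_iff.2 this]
    · simp [h, hin r2 h2 y h]
  · exfalso
    have : ((List.range 2048).filter fun y => decide (P y)) = [] := by
      refine List.filter_eq_nil_iff.2 fun y hy => ?_
      rcases hcov y (List.mem_range.1 hy) with (h | h) | h
      · subst h; simp [hz]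
      · simp [hout r1 h1 y h]
      · simp [hout r2 h2 y h]
    rw [this] at hcard
    simp at hcard

/-- A set of 759 non-zero vectors invariant under a conjugate of the image of M24 in one of its two
representations of dimension 11 is that of the octads, and the representation is that on the code. -/
theorem mem_code {S : Set V} (hS : Nat.card S = 759) (h0 : (0 : V) ∉ S)
    (hinv : ∀ σ : M24, ∀ v, v ∈ S → repM24 σ *ᵥ v ∈ S) : vecOf 2000 ∈ S := by
  obtain ⟨m1, m2, m3⟩ := code24_mats
  obtain ⟨tA', -, tB', tD'⟩ := tabs24_ok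
  refine (mem_of_invariant clsCode_ok (by norm_num) (by norm_num) S hS h0 fun c hc v => ?_).1
  obtain ⟨σ, hσ⟩ : ∃ σ, repM24 σ = toMat c := by
    simp only [List.mem_cons, List.not_mem_nil, or_false] at hc
    rcases hc with rfl | rfl | rfl
    · obtain ⟨s, hs, r⟩ := inGroup_of_isM24Tab tA'
      exact ⟨⟨s, hs⟩, repM24_eq r m1⟩
    · obtain ⟨s, hs, r⟩ := inGroup_of_isM24Tab tB'
      exact ⟨⟨s, hs⟩, repM24_eq r m2⟩
    · obtain ⟨s, hs, r⟩ := inGroup_of_isM24Tab tD'
      exact ⟨⟨s, hs⟩, repM24_eq r m3⟩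
  rw [← hσ]
  refine ⟨hinv σ v, fun h => ?_⟩
  have := hinv σ⁻¹ _ h
  rwa [Matrix.mulVec_mulVec, ← map_mul, inv_mul_cancel, map_one, Matrix.one_mulVec] at this

theorem not_cocode {S : Set V} (hS : Nat.card S = 759) (h0 : (0 : V) ∉ S)
    (hinv : ∀ σ : M24, ∀ v, v ∈ S → repD24 σ *ᵥ v ∈ S) : False := by
  obtain ⟨m1, d1, m2, d2, m3, d3⟩ := cocode24_mats
  obtain ⟨-, tAI', tB', tD'⟩ := tabs24_ok
  have h := mem_of_invariant clsCocode_ok (by norm_num) (by norm_num) S hS h0 fun c hc v => ?_
  · exact absurd h.2 (by norm_num)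
  obtain ⟨σ, hσ⟩ : ∃ σ, repD24 σ = toMat c := by
    simp only [List.mem_cons, List.not_mem_nil, or_false] at hc
    rcases hc with rfl | rfl | rfl
    · obtain ⟨s, hs, r⟩ := inGroup_of_isM24Tab tAI'
      exact ⟨⟨s, hs⟩, repD24_eq (repM24_eq r m1) d1⟩
    · obtain ⟨s, hs, r⟩ := inGroup_of_isM24Tab tB'
      exact ⟨⟨s, hs⟩, repD24_eq (repM24_eq r m2) d2⟩
    · obtain ⟨s, hs, r⟩ := inGroup_of_isM24Tab tD'
      exact ⟨⟨s, hs⟩, repD24_eq (repM24_eq r m3) d3⟩
  rw [← hσ]
  refine ⟨hinv σ v, fun h => ?_⟩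
  have := hinv σ⁻¹ _ h
  rwa [Matrix.mulVec_mulVec, ← map_mul, inv_mul_cancel, map_one, Matrix.one_mulVec] at this

end CfsgLib.CoOneAmalgam
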