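import Cfsg.Agent.CoOneAmalgam.PDefs
import Cfsg.Agent.CoOneAmalgam.PData
import Cfsg.Agent.CoOneAmalgam.NModel
import Cfsg.Agent.CoOneAmalgam.VecOrbits

/-!
# The monomial part of the centralizer of the octad involution, in coordinates

Its members are products of a sign change and a permutation stabilizing the base octad. Three permutations of
odd order generate the stabilizer of the octad.
-/

set_option autoImplicit false
set_option maxRecDepth 100000

namespace CfsgLib.CoOneAmalgam

open Cfsg CfsgLib.Mathieu CfsgLib.Leech CfsgLib.CoOneInv CfsgLib.M23Ext CfsgLib.M24Classes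
open CfsgLib.MTwentyThreeUnique.Gl11 CfsgLib.MTwentyFourUnique.Gl11
open scoped symmDiff
open CfsgLib.CoOneInv (zOne)

/-! ### Sign changes in coordinates -/

/-- The sign change with the given coordinates. -/
noncomputable def signEl (y : ℕ) : Spor.Co1 :=
  signHom (Multiplicative.ofAdd (MTwentyThreeUnique.Gl11.vecOf y))

theorem signEl_xor (a b : ℕ) : signEl (a ^^^ b) = signEl a * signEl b := by
  rw [signEl, signEl, signEl, MTwentyThreeUnique.Gl11.vecOf_xor, ofAdd_add, map_mul]

theorem signEl_zero : signEl 0 = 1 := by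
  rw [signEl, MTwentyThreeUnique.Gl11.vecOf_zero, ofAdd_zero, map_one]

theorem signEl_inv (a : ℕ) : (signEl a)⁻¹ = signEl a := by
  rw [inv_eq_iff_mul_eq_one, ← signEl_xor, Nat.xor_self, signEl_zero]

theorem signEl_mem (y : ℕ) : signEl y ∈ aOne := nHom_inl_range ▸ ⟨_, rfl⟩

theorem exists_signEl {a : Spor.Co1} (ha : a ∈ aOne) : ∃ y < 2048, a = signEl y := by
  rw [← nHom_inl_range] at ha
  obtain ⟨v, rfl⟩ := ha
  obtain ⟨y, hy, e⟩ := MTwentyThreeUnique.Gl11.exists_vecOf v.toAdd
  exact ⟨y, hy, by rw [signEl, ← e, ofAdd_toAdd]⟩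

theorem nHom_inl (v : Multiplicative V) : nHom (SemidirectProduct.inl v) = signHom v := by
  rw [nHom, SemidirectProduct.lift_inl]

theorem signHom_injective : Function.Injective signHom := fun u v h =>
  SemidirectProduct.inl_injective (nHom_injective (by rw [nHom_inl, nHom_inl, h]))

theorem signEl_injective {a b : ℕ} (ha : a < 2048) (hb : b < 2048) (h : signEl a = signEl b) : a = b :=
  MTwentyThreeUnique.Gl11.eq_of_vecOf_eq ha hb (Multiplicative.ofAdd.injective (signHom_injective h))

theorem signEl_octad : signEl 2000 = zOne := by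
  rw [signEl, ← nHom_inl]; exact nHom_octad

theorem signEl_eq_projC {y : ℕ} (hy : y < 2048) {c : Finset GolayPt}
    {hc : c ∈ supports (golayCode : Set (GolayPt → ZMod 2))} (e : setOf24 (shortMask y) = c) :
    signEl y = projC (monoCo0 1 (one_mem _) c hc) := by
  show signC (cw (MTwentyThreeUnique.Gl11.vecOf y)) _ = _
  rw [signC_congr (cw_vecOf hy) (hw := (shortMask_code y).1), signC]
  exact congrArg projC (monoCo0_congr rfl ((support₂_wordOf _).trans e))

theorem aOne_comm {a b : Spor.Co1} (ha : a ∈ aOne) (hb : b ∈ aOne) : a * b = b * a := by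
  obtain ⟨x, -, rfl⟩ := exists_signEl ha
  obtain ⟨y, -, rfl⟩ := exists_signEl hb
  rw [← signEl_xor, ← signEl_xor, Nat.xor_comm]

/-! ### The monomial group -/

/-- A permutation as a member of the first Conway group. -/
noncomputable def permC : M24 →* Spor.Co1 := projC.comp permHom

theorem nHom_inr (σ : M24) : nHom (SemidirectProduct.inr σ) = permC σ := by
  rw [nHom, SemidirectProduct.lift_inr]; rfl

theorem nHom_split (x : N24) : nHom x = signHom x.left * permC x.right := by
  conv_lhs => rw [← SemidirectProduct.inl_left_mul_inr_right x]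
  rw [map_mul, nHom_inl, nHom_inr]

theorem exists_split {n : Spor.Co1} (hn : n ∈ nOne) :
    ∃ a ∈ aOne, ∃ σ : M24, n = a * permC σ := by
  rw [← nHom_range] at hn
  obtain ⟨x, rfl⟩ := hn
  exact ⟨_, nHom_inl_range ▸ ⟨_, rfl⟩, x.right, nHom_split x⟩

theorem permC_mem (σ : M24) : permC σ ∈ nOne := by
  rw [← nHom_range]; exact ⟨_, nHom_inr σ⟩

theorem aOne_le_nOne : aOne ≤ nOne := by
  rw [← nHom_inl_range, ← nHom_range]
  rintro _ ⟨v, rfl⟩
  exact ⟨_, nHom_inl v⟩

theorem conj_signHom (σ : M24) (v : Multiplicative V) :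
    permC σ * signHom v * (permC σ)⁻¹ = signHom (codeAut σ v) := by
  rw [← nHom_inr, ← nHom_inl, ← nHom_inl, SemidirectProduct.inl_aut, map_mul, map_mul, map_inv,
    map_inv]

theorem conj_aOne {n a : Spor.Co1} (hn : n ∈ nOne) (ha : a ∈ aOne) : n * a * n⁻¹ ∈ aOne := by
  obtain ⟨b, hb, σ, rfl⟩ := exists_split hn
  have ha' : a ∈ signHom.range := nHom_inl_range ▸ ha
  obtain ⟨v, rfl⟩ := ha'
  have e : b * permC σ * signHom v * (b * permC σ)⁻¹ =
      b * (permC σ * signHom v * (permC σ)⁻¹) * b⁻¹ := by group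
  rw [e, conj_signHom]
  exact mul_mem (mul_mem hb (nHom_inl_range ▸ ⟨_, rfl⟩)) (inv_mem hb)

theorem aOne_le_C1 : aOne ≤ C1 := fun a ha => by
  rw [Subgroup.mem_centralizer_singleton_iff, ← signEl_octad]
  exact aOne_comm ha (signEl_mem _)

theorem aOne_le_pOne : aOne ≤ pOne := le_inf aOne_le_nOne aOne_le_C1

theorem mem_C0_of_projC {g : Co0} (h : projC g ∈ C1) : g ∈ C0 := by
  obtain ⟨k, hk⟩ := projCen_surjective ⟨_, h⟩
  rcases projC_eq_cases (congrArg Subtype.val hk) with e | e
  · exact e.symm ▸ k.2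
  · exact e.symm ▸ mul_mem negCo0_mem_C0 k.2

/-- The permutations stabilizing the base octad. -/
def StabO (σ : M24) : Prop := ∀ p, (σ : Equiv.Perm GolayPt) p ∈ octO ↔ p ∈ octO

theorem stabO_of_mem {σ : M24} (h : permC σ ∈ C1) : StabO σ := fun p => by
  have h' := tau_octO (inv_mem σ.2) empty_mem_supports (mem_C0_of_projC h)
    ((σ : Equiv.Perm GolayPt) p)
  rw [perm_inv_apply] at h'
  exact h'.symm

theorem pOne_split {n : Spor.Co1} (hn : n ∈ pOne) :
    ∃ a ∈ aOne, ∃ σ : M24, StabO σ ∧ n = a * permC σ := by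
  obtain ⟨a, ha, σ, rfl⟩ := exists_split hn.1
  exact ⟨a, ha, σ, stabO_of_mem ((Subgroup.mul_mem_cancel_left _ (aOne_le_C1 ha)).1 hn.2), rfl⟩

/-! ### The three generators -/

theorem stTabs_ok : ∀ k : Fin 3, isM24Tab (stTabs.getD k 0) = true ∧
    colsOKTwo (stTabs.getD k 0) (stCols.getD k []) = true ∧ (stCols.getD k []).length = 11 ∧
      xorSel (stCols.getD k []) 2000 = 2000 := by
  decide +kernel

/-- A generator. -/
noncomputable def stGen (k : Fin 3) : M24 :=
  ⟨(inGroup_of_isM24Tab (stTabs_ok k).1).choose, (inGroup_of_isM24Tab (stTabs_ok k).1).choose_spec.1⟩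

theorem stGen_rep (k : Fin 3) : Rep enc (stGen k : Equiv.Perm GolayPt) (stTabs.getD k 0) :=
  (inGroup_of_isM24Tab (stTabs_ok k).1).choose_spec.2

theorem conj_signEl (k : Fin 3) (y : ℕ) :
    permC (stGen k) * signEl y * (permC (stGen k))⁻¹ = signEl (xorSel (stCols.getD k []) y) := by
  obtain ⟨-, hc, hl, -⟩ := stTabs_ok k
  rw [signEl, conj_signHom, codeAut_apply, repM24_eq (stGen_rep k) hc, toMat_mulVec _ hl]
  rfl

theorem permC_stGen_mem (k : Fin 3) : permC (stGen k) ∈ pOne := by
  refine ⟨permC_mem _, ?_⟩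
  have h := conj_signEl k 2000
  rw [(stTabs_ok k).2.2.2, signEl_octad, mul_inv_eq_iff_eq_mul] at h
  exact Subgroup.mem_centralizer_singleton_iff.2 h

/-- A word in the generators. -/
noncomputable def stWord (w : List ℕ) : M24 :=
  (w.map fun k => stGen ⟨k % 3, Nat.mod_lt _ (by norm_num)⟩).prod

/-- The image of a position under a word. -/
def wordPt (w : List ℕ) (a : ℕ) : ℕ := w.foldr (fun k b => app (stTabs.getD (k % 3) 0) b) a

theorem stWord_apply : ∀ (w : List ℕ) (p : GolayPt),
    idx ((stWord w : Equiv.Perm GolayPt) p) = wordPt w (idx p)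
  | [], _ => rfl
  | k :: w, p => by
    have e : stWord (k :: w) = stGen ⟨k % 3, Nat.mod_lt _ (by norm_num)⟩ * stWord w := by
      simp only [stWord, List.map_cons, List.prod_cons]
    have h := stGen_rep ⟨k % 3, Nat.mod_lt _ (by norm_num)⟩ ((stWord w : Equiv.Perm GolayPt) p)
    rw [e, Subgroup.coe_mul, Equiv.Perm.mul_apply, wordPt, List.foldr_cons, ← wordPt, ← stWord_apply w p]
    exact h.symm

theorem stWord_eq {w : List ℕ} {σ : M24}
    (h : ∀ p, wordPt w (idx p) = idx ((σ : Equiv.Perm GolayPt) p)) : stWord w = σ :=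
  Subtype.ext (Equiv.ext fun p => idx_injective ((stWord_apply w p).trans (h p)))

theorem stWord_eq_one {w : List ℕ} (h : allBelow 24 (fun a => wordPt w a == a) = true) : stWord w = 1 :=
  stWord_eq fun p => beq_iff_eq.1 (allBelow_iff.1 h _ (idx_lt p))

theorem stWord_eq_stWord {u w : List ℕ}
    (h : allBelow 24 (fun a => wordPt u a == wordPt w a) = true) : stWord u = stWord w :=
  stWord_eq fun p => (beq_iff_eq.1 (allBelow_iff.1 h _ (idx_lt p))).trans (stWord_apply w p).symm

theorem stWord_mem {K : Subgroup M24} (hK : ∀ k, stGen k ∈ K) (w : List ℕ) : stWord w ∈ K :=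
  list_prod_mem fun x hx => by
    obtain ⟨k, -, rfl⟩ := List.mem_map.1 hx
    exact hK _

/-- A translation as a member of M24. -/
noncomputable def trP (i : Fin 16) : M24 := ⟨transPerm i, transPerm_mem i⟩

theorem trP_inv (i : Fin 16) : (trP i)⁻¹ = trP i :=
  inv_eq_of_mul_eq_one_right (Subtype.ext (Equiv.ext fun p => transPerm_sq i p))

theorem transWords_ok : ∀ i : Fin 16, allBelow 24 (fun a =>
    wordPt (transWords.getD i []) a == app (octadTranslations.getD i 0) a) = true := by
  decide +kernel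

theorem stWord_trans (i : Fin 16) : stWord (transWords.getD i []) = trP i := by
  refine stWord_eq fun p => ?_
  rw [beq_iff_eq.1 (allBelow_iff.1 (transWords_ok i) _ (idx_lt p))]
  have hlt : ∀ i : Fin 16, ∀ a < 24, app (octadTranslations.getD i 0) a < 24 := by decide +kernel
  show _ = idx (tableFun (octadTranslations.getD i 0) p)
  rw [tableFun, idx_pt (hlt i _ (idx_lt p))]

/-- The first six base positions. -/
def basePts : List ℕ := [23, 0, 1, 2, 3, 5]

theorem basePts_eq : m24Base.take 6 = basePts.map pt := by decide +kernel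

theorem chain_ok : ∀ k : Fin 6, ∀ a : Fin 24, m24BaseOctad.testBit a.val = true →
    a.val ∉ basePts.take k →
      (chainWords.any fun w => (basePts.take k).all (fun b => wordPt w b == b) &&
        wordPt w (basePts.getD k 0) == a.val) = true := by
  decide +kernel

theorem stWord_octO : ∀ k : Fin 3, ∀ a < 24,
    m24BaseOctad.testBit (app (stTabs.getD k 0) a) = m24BaseOctad.testBit a := by
  decide +kernel

theorem stabO_stWord : ∀ (w : List ℕ), StabO (stWord w)
  | [], _ => Iff.rfl
  | k :: w, p => by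
    rw [mem_octO, mem_octO, stWord_apply, wordPt, List.foldr_cons, ← wordPt, ← stWord_apply,
      stWord_octO ⟨k % 3, Nat.mod_lt _ (by norm_num)⟩ _ (idx_lt _), ← mem_octO, ← mem_octO]
    exact stabO_stWord w p

/-- The three generators generate the stabilizer of the octad. -/
theorem stab_mem {K : Subgroup M24} (hK : ∀ k, stGen k ∈ K) : ∀ {σ : M24}, StabO σ → σ ∈ K := by
  suffices h : ∀ n k : ℕ, n + k = 6 → ∀ σ : M24, StabO σ →
      (∀ b ∈ basePts.take k, (σ : Equiv.Perm GolayPt) (pt b) = pt b) → σ ∈ K from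
    fun {σ} hσ => h 6 0 rfl σ hσ (fun b hb => by simp at hb)
  intro n
  induction n with
  | zero =>
    intro k hk σ _ hfix
    obtain rfl : k = 6 := by omega
    obtain ⟨i, hi⟩ := fix_six σ.2 fun x hx => by
      rw [basePts_eq] at hx
      obtain ⟨b, hb, rfl⟩ := List.mem_map.1 hx
      exact hfix b (by rwa [show basePts.take 6 = basePts from rfl])
    rw [show σ = trP i from Subtype.ext hi, ← stWord_trans]
    exact stWord_mem hK _
  | succ n ih =>
    intro k hk σ hσ hfix
    have hk6 : k < 6 := by omega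
    have hpts : ∀ k : Fin 6, basePts.getD k 0 < 24 ∧ m24BaseOctad.testBit (basePts.getD k 0) = true ∧
        basePts.getD k 0 ∉ basePts.take k ∧ (∀ b ∈ basePts.take k, b < 24) ∧
          basePts.take (k + 1) = basePts.take k ++ [basePts.getD k 0] := by decide +kernel
    obtain ⟨hlt, hO, hnot, hlts, htake⟩ := hpts ⟨k, hk6⟩
    set b := basePts.getD k 0
    set q := (σ : Equiv.Perm GolayPt) (pt b) with hq
    have hqO : m24BaseOctad.testBit (idx q) = true := by
      rw [← mem_octO]
      exact (hσ _).2 (by rw [mem_octO, idx_pt hlt]; exact hO)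
    have hqn : idx q ∉ basePts.take k := fun h => by
      have h2 : pt b = pt (idx q) := (σ : Equiv.Perm GolayPt).injective (by rw [hfix _ h, pt_idx])
      have := congrArg idx h2
      rw [idx_pt hlt, idx_pt (idx_lt q)] at this
      exact hnot (this ▸ h)
    obtain ⟨w, -, hw⟩ := List.any_eq_true.1 (chain_ok ⟨k, hk6⟩ ⟨idx q, idx_lt q⟩ hqO hqn)
    simp only [Bool.and_eq_true, List.all_eq_true, beq_iff_eq] at hw
    obtain ⟨hw1, hw2⟩ := hw
    have hwb : (stWord w : Equiv.Perm GolayPt) (pt b) = q := idx_injective (by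
      rw [stWord_apply, idx_pt hlt]; exact hw2)
    have hwf : ∀ c ∈ basePts.take k, (stWord w : Equiv.Perm GolayPt) (pt c) = pt c := fun c hc =>
      idx_injective (by rw [stWord_apply, idx_pt (hlts c hc)]; exact hw1 c hc)
    have hmem : (stWord w)⁻¹ * σ ∈ K := by
      refine ih (k + 1) (by omega) _ (fun p => ?_) fun c hc => ?_
      · have h := stabO_stWord w ((stWord w : Equiv.Perm GolayPt)⁻¹ ((σ : Equiv.Perm GolayPt) p))
        rw [perm_apply_inv] at h
        exact h.symm.trans (hσ p)
      · show (stWord w : Equiv.Perm GolayPt)⁻¹ ((σ : Equiv.Perm GolayPt) (pt c)) = pt c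
        rw [htake, List.mem_append, List.mem_singleton] at hc
        rcases hc with hc | rfl
        · rw [hfix c hc]
          conv_lhs => rw [← hwf c hc]
          exact perm_inv_apply _ _
        · rw [← hq, ← hwb]
          exact perm_inv_apply _ _
    have := mul_mem (stWord_mem hK w) hmem
    rwa [mul_inv_cancel_left] at this

end CfsgLib.CoOneAmalgam
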