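import Cfsg.Agent.CoOneAmalgam.Edge

/-!
# Rewriting words in the amalgam: a checker for lists of steps
-/

set_option autoImplicit false

namespace CfsgLib.CoOneAmalgam

open Cfsg CfsgLib.Mathieu CfsgLib.Leech CfsgLib.CoOneInv CfsgLib.CoOneOut

/-- The three kinds of steps. -/
inductive Rule where
  /-- inside the monomial group -/
  | mono
  /-- inside the centralizer -/
  | cent
  /-- across one sextet involution -/
  | edge

/-- Shape conditions of the kinds. -/
def ruleOK : Rule → List Mv → List Mv → Bool
  | .mono, o, n => o.all isMono && n.all isMono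
  | .cent, o, n => o.all (fun m => !isMono m || isCent m) && n.all (fun m => !isMono m || isCent m)
  | .edge, [a, .xi, b], [a', .xi, b'] => isMono a && isMono b && isMono a' && isMono b'
  | .edge, _, _ => false

/-- A step: the kind, the position, the length replaced, and the replacement. -/
structure Step where
  /-- the kind -/
  rule : Rule
  /-- the position -/
  start : ℕ
  /-- the length -/
  len : ℕ
  /-- the replacement -/
  nw : List Mv

/-- Perform the steps, checking each. -/
def runSteps : List Step → List Mv → Option (List Mv)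
  | [], w => some w
  | s :: ss, w =>
    let o := (w.drop s.start).take s.len
    if s.nw.all Mv.ok && ruleOK s.rule o s.nw && sameVal o s.nw then
      runSteps ss (w.take s.start ++ s.nw ++ w.drop (s.start + s.len))
    else none

/-- The word rewrites to a single monomial letter with the value one. -/
def closesOK (w : List Mv) (ss : List Step) : Bool :=
  w.all Mv.ok &&
    match runSteps ss w with
    | some r => r.all isMono && sameVal r []
    | none => false

variable {G : Type*} [Group G] (A : AmalgamMap G)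

open Classical in
/-- The image of a letter. -/
noncomputable def img (m : Mv) : G :=
  if h : m.ok = true ∧ isMono m = true then A.toN ⟨pElt [m], pElt_mono_mem h.1 h.2⟩
  else A.toC ⟨xOne, xOne_mem⟩

/-- The image of a word. -/
noncomputable def imgL (w : List Mv) : G := (w.map (img A)).prod

theorem imgL_append (u v : List Mv) : imgL A (u ++ v) = imgL A u * imgL A v := by
  rw [imgL, List.map_append, List.prod_append]; rfl

theorem img_mono {m : Mv} (h : m.ok = true) (hm : isMono m = true) :
    img A m = A.toN ⟨pElt [m], pElt_mono_mem h hm⟩ := by rw [img, dif_pos ⟨h, hm⟩]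

theorem img_xi : img A Mv.xi = A.toC ⟨xOne, xOne_mem⟩ := by
  rw [img, dif_neg fun h => by simp [isMono] at h]

theorem imgL_mono : ∀ {w : List Mv}, w.all Mv.ok = true → w.all isMono = true →
    ∃ h : pElt w ∈ nOne, imgL A w = A.toN ⟨pElt w, h⟩
  | [], _, _ => ⟨by rw [pElt_nil]; exact one_mem _, by
      simp only [pElt_nil]
      rw [show (⟨(1 : Spor.Co1), one_mem _⟩ : nOne) = 1 from rfl, map_one]; rfl⟩
  | m :: w, hw, hm => by
    simp only [List.all_cons, Bool.and_eq_true] at hw hm
    obtain ⟨h, e⟩ := imgL_mono hw.2 hm.2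
    have hp := pElt_cons hw.1 hw.2
    refine ⟨hp ▸ mul_mem (pElt_mono_mem hw.1 hm.1) h, ?_⟩
    rw [show imgL A (m :: w) = img A m * imgL A w from List.prod_cons, e, img_mono A hw.1 hm.1,
      ← map_mul]
    exact congrArg A.toN (Subtype.ext hp.symm)

theorem imgL_cent : ∀ {w : List Mv}, w.all Mv.ok = true →
    w.all (fun m => !isMono m || isCent m) = true →
    ∃ h : pElt w ∈ C1, imgL A w = A.toC ⟨pElt w, h⟩
  | [], _, _ => ⟨by rw [pElt_nil]; exact one_mem _, by
      simp only [pElt_nil]
      rw [show (⟨(1 : Spor.Co1), one_mem _⟩ : C1) = 1 from rfl, map_one]; rfl⟩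
  | m :: w, hw, hm => by
    simp only [List.all_cons, Bool.and_eq_true] at hw hm
    obtain ⟨h, e⟩ := imgL_cent hw.2 hm.2
    have hp := pElt_cons hw.1 hw.2
    have hm1 : ∃ h1 : pElt [m] ∈ C1, img A m = A.toC ⟨pElt [m], h1⟩ := by
      cases m with
      | xi => exact ⟨xOne_mem, img_xi A⟩
      | mono t c =>
        have hc : isCent (Mv.mono t c) = true := by simpa [isMono] using hm.1
        exact ⟨pElt_cent_mem hw.1 hc,
          (img_mono A hw.1 rfl).trans (A.agree _ (pElt_mono_mem hw.1 rfl) _)⟩
    obtain ⟨h1, e1⟩ := hm1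
    refine ⟨hp ▸ mul_mem h1 h, ?_⟩
    rw [show imgL A (m :: w) = img A m * imgL A w from List.prod_cons, e, e1, ← map_mul]
    exact congrArg A.toC (Subtype.ext hp.symm)

/-- A step keeps the image and the value. -/
theorem rule_sound {r : Rule} {o n : List Mv} (ho : o.all Mv.ok = true) (hn : n.all Mv.ok = true)
    (h : ruleOK r o n = true) (hv : sameVal o n = true) :
    pElt o = pElt n ∧ imgL A o = imgL A n := by
  have he := pElt_eq ho hn hv
  refine ⟨he, ?_⟩
  match r, o, n, h with
  | .mono, o, n, h =>
    simp only [ruleOK, Bool.and_eq_true] at h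
    obtain ⟨h1, e1⟩ := imgL_mono A ho h.1
    obtain ⟨h2, e2⟩ := imgL_mono A hn h.2
    rw [e1, e2]
    exact congrArg A.toN (Subtype.ext he)
  | .cent, o, n, h =>
    simp only [ruleOK, Bool.and_eq_true] at h
    obtain ⟨h1, e1⟩ := imgL_cent A ho h.1
    obtain ⟨h2, e2⟩ := imgL_cent A hn h.2
    rw [e1, e2]
    exact congrArg A.toC (Subtype.ext he)
  | .edge, [a, .xi, b], [a', .xi, b'], h =>
    simp only [ruleOK, Bool.and_eq_true] at h
    obtain ⟨⟨⟨ha, hb⟩, ha'⟩, hb'⟩ := h
    simp only [List.all_cons, List.all_nil, Bool.and_true, Bool.and_eq_true] at ho hn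
    obtain ⟨oa, -, ob⟩ := ho
    obtain ⟨na, -, nb⟩ := hn
    have ea := pElt_mono_mem oa ha
    have eb := pElt_mono_mem ob hb
    have ea' := pElt_mono_mem na ha'
    have eb' := pElt_mono_mem nb hb'
    rw [pElt_three oa rfl ob, pElt_three na rfl nb, ← xOne] at he
    set l := (pElt [a'])⁻¹ * pElt [a] with hl
    have hx : xOne * l * xOne = pElt [b'] * (pElt [b])⁻¹ := by
      have : l * xOne = xOne * pElt [b'] * (pElt [b])⁻¹ := by
        rw [hl, mul_assoc, inv_mul_eq_iff_eq_mul, ← mul_assoc, ← mul_assoc, eq_mul_inv_iff_mul_eq]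
        exact he
      rw [mul_assoc, this, ← mul_assoc, ← mul_assoc, xOne_mul_self, one_mul]
    obtain ⟨h1, h2, e⟩ := pass_of_mem A (mul_mem (inv_mem ea') ea)
      (hx ▸ mul_mem eb' (inv_mem eb))
    show img A a * (img A Mv.xi * (img A b * 1)) = img A a' * (img A Mv.xi * (img A b' * 1))
    rw [img_mono A oa ha, img_mono A ob hb, img_mono A na ha', img_mono A nb hb', img_xi, mul_one,
      mul_one]
    have e1 : (⟨pElt [a], ea⟩ : nOne) = ⟨pElt [a'], ea'⟩ * ⟨l, h1⟩ :=
      Subtype.ext (mul_inv_cancel_left _ _).symm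
    have e2 : (⟨pElt [b'], eb'⟩ : nOne) = ⟨xOne * l * xOne, h2⟩ * ⟨pElt [b], eb⟩ :=
      Subtype.ext (show pElt [b'] = xOne * l * xOne * pElt [b] by rw [hx, inv_mul_cancel_right])
    rw [e1, e2, map_mul, map_mul, mul_assoc, ← mul_assoc (A.toN ⟨l, h1⟩), e, mul_assoc]

theorem runSteps_sound : ∀ (ss : List Step) (w r : List Mv), w.all Mv.ok = true →
    runSteps ss w = some r → r.all Mv.ok = true ∧ pElt w = pElt r ∧ imgL A w = imgL A r
  | [], w, r, hw, h => by
    simp only [runSteps, Option.some.injEq] at h
    subst h; exact ⟨hw, rfl, rfl⟩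
  | s :: ss, w, r, hw, h => by
    simp only [runSteps] at h
    split at h
    · rename_i hs
      simp only [Bool.and_eq_true] at hs
      obtain ⟨⟨hn, hr⟩, hv⟩ := hs
      set o := (w.drop s.start).take s.len with ho
      have hsub : ∀ l : List Mv, (∀ x ∈ l, x ∈ w) → l.all Mv.ok = true := fun l hl =>
        List.all_eq_true.2 fun x hx => List.all_eq_true.1 hw x (hl x hx)
      have h1 := hsub (w.take s.start) fun x hx => List.mem_of_mem_take hx
      have h2 := hsub o fun x hx => List.mem_of_mem_drop (List.mem_of_mem_take hx)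
      have h3 := hsub (w.drop (s.start + s.len)) fun x hx => List.mem_of_mem_drop hx
      have hw' : w = w.take s.start ++ o ++ w.drop (s.start + s.len) := by
        rw [ho, ← List.drop_drop, List.append_assoc, List.take_append_drop, List.take_append_drop]
      obtain ⟨hp, hi⟩ := rule_sound A h2 hn hr hv
      have h12 : (w.take s.start ++ o).all Mv.ok = true := by rw [List.all_append, h1, h2]; rfl
      have h12' : (w.take s.start ++ s.nw).all Mv.ok = true := by rw [List.all_append, h1, hn]; rfl
      obtain ⟨hok, ep, ei⟩ := runSteps_sound ss _ r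
        (by rw [List.all_append, h12', h3]; rfl) h
      refine ⟨hok, ?_, ?_⟩
      · rw [← ep, hw', pElt_append h12 h3, pElt_append h1 h2, hp, ← pElt_append h1 hn,
          ← pElt_append h12' h3, ← hw']
      · rw [← ei]
        conv_lhs => rw [hw']
        simp only [imgL_append, hi]
    · simp at h

theorem closesOK_sound {w : List Mv} {ss : List Step} (h : closesOK w ss = true) :
    w.all Mv.ok = true ∧ pElt w = 1 ∧ imgL A w = 1 := by
  simp only [closesOK, Bool.and_eq_true] at h
  obtain ⟨hw, h⟩ := h
  cases e : runSteps ss w with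
  | none => rw [e] at h; simp at h
  | some r =>
    rw [e] at h
    simp only [Bool.and_eq_true] at h
    obtain ⟨hok, ep, ei⟩ := runSteps_sound A ss w r hw e
    have hp : pElt r = 1 := (pElt_eq hok rfl h.2).trans pElt_nil
    obtain ⟨hm, e1⟩ := imgL_mono A hok h.1
    refine ⟨hw, ep.trans hp, ei.trans (e1.trans ?_)⟩
    rw [← map_one A.toN]
    exact congrArg A.toN (Subtype.ext hp)

end CfsgLib.CoOneAmalgam
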