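import Cfsg.Agent.CoOneAmalgam.SevenThreeData
import Cfsg.Agent.MonsterType.SevenClasses
import Cfsg.Agent.Leech.LatticeBasis

/-!
# A bound on the centralizer of an element of order seven of the lattice group

The element `vE` has no fixed vectors, and the classes killed by `v³ + v + 1` form a space of dimension
twelve over the field with two elements.  One of them is moved to the class of the standard cross by
`hE`, so its stabiliser in the centralizer embeds in the signed permutations commuting with the matrix
of the conjugate of `vE`, of which there are fourteen.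
-/

set_option autoImplicit false

namespace CfsgLib.CoOneAmalgam.SevenThree

open Cfsg CfsgLib.Leech CfsgLib.Mathieu CfsgLib.MonsterType
open CfsgLib.MonsterType.Five (Acts exists_acts)
open CfsgLib.MonsterType.Seven (compL acts_mul acts_one eq_of_acts sameGen)
open Matrix

/-! ### Classes modulo two as coordinate vectors -/

/-- The coordinates of a class. -/
noncomputable def cl : leechLattice →+ (Fin 24 → ZMod 2) :=
  AddMonoidHom.mk' (fun x k => ((coordEquiv.symm x k : ℤ) : ZMod 2)) fun x y => funext fun k => by
    simp [map_add]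

theorem coordEquiv_symm_eq (x : leechLattice) (k : Fin 24) :
    coordEquiv.symm x k = eightCo (x : GolayPt → ℤ) k / 8 := by
  obtain ⟨a, rfl⟩ := coordEquiv.surjective x
  rw [AddEquiv.symm_apply_apply, coordEquiv_coe, eightCo_linComb]
  simp

/-- The coordinates of a class, computed from the vector. -/
def clB (y : GolayPt → ℤ) : Fin 24 → ZMod 2 := fun k => ((eightCo y k / 8 : ℤ) : ZMod 2)

theorem cl_eq_clB (x : leechLattice) : cl x = clB (x : GolayPt → ℤ) := funext fun k => by
  show ((coordEquiv.symm x k : ℤ) : ZMod 2) = _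
  rw [coordEquiv_symm_eq]
  rfl

theorem cong_of_cl {x y : leechLattice} (h : cl x = cl y) : Cong x y := by
  have h2 : ∀ k, (2 : ℤ) ∣ coordEquiv.symm x k - coordEquiv.symm y k := fun k => by
    have := congrFun h k
    exact (ZMod.intCast_eq_intCast_iff_dvd_sub _ _ 2).1 this.symm
  choose d hd using h2
  refine ⟨coordEquiv d, coordEquiv.symm.injective ?_⟩
  rw [map_add, map_add, AddEquiv.symm_apply_apply]
  funext k
  simp only [Pi.add_apply]
  have := hd k
  omega

/-- The basis as lattice vectors. -/
def basisL24 (k : Fin 24) : leechLattice := ⟨basisVec k, basisVec_mem k⟩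

theorem coordEquiv_single (k : Fin 24) : coordEquiv (Pi.single k 1) = basisL24 k := by
  refine Subtype.ext ?_
  show linComb (Pi.single k 1) = basisVec k
  rw [linComb_apply, Finset.sum_eq_single k]
  · simp
  · intro j _ hj; simp [hj]
  · simp

/-- Two additive maps agreeing on the basis are equal. -/
theorem addHom_ext {M : Type*} [AddCommGroup M] {p q : leechLattice →+ M}
    (h : ∀ k, p (basisL24 k) = q (basisL24 k)) : p = q := by
  have : p.comp coordEquiv.toAddMonoidHom = q.comp coordEquiv.toAddMonoidHom :=
    AddMonoidHom.functions_ext' _ _ _ fun k => AddMonoidHom.ext_int (by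
      simpa [coordEquiv_single] using h k)
  ext x
  simpa using DFunLike.congr_fun this (coordEquiv.symm x)

/-- A matrix over two elements from its rows. -/
def ofRows (n : ℕ) {m : ℕ} (rows : List ℕ) : Matrix (Fin n) (Fin m) (ZMod 2) :=
  Matrix.of fun i j => if (rows.getD i.val 0).testBit j.val then 1 else 0

/-- An element acts on classes by a matrix, checked on the basis. -/
theorem cl_smul_of_acts {g : Co0} {f : List ℤ → List ℤ} (hg : Acts g f)
    (A : Matrix (Fin 24) (Fin 24) (ZMod 2))
    (h : ∀ k i : Fin 24, clB (vec (f (toList (basisVec k)))) i = (A *ᵥ clB (basisVec k)) i)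
    (x : leechLattice) : cl (g • x) = A *ᵥ cl x := by
  have e : cl.comp (co0Hom g) = (Matrix.mulVecLin A).toAddMonoidHom.comp cl := addHom_ext fun k => by
    refine funext fun i => ?_
    show cl (g • basisL24 k) i = (A *ᵥ cl (basisL24 k)) i
    rw [cl_eq_clB, cl_eq_clB, hg]
    exact h k i
  exact DFunLike.congr_fun e x

/-! ### The elements -/

theorem vMoves_ok : vMoves.all Mv.ok = true := by decide +kernel

theorem hMoves_ok : hMoves.all Mv.ok = true := by decide +kernel

theorem hiMoves_ok : hiMoves.all Mv.ok = true := by decide +kernel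

/-- The element of order seven. -/
noncomputable def vE : Co0 := Classical.choose (exists_acts vMoves vMoves_ok)

theorem vE_acts : Acts vE (runMoves vMoves) := Classical.choose_spec (exists_acts vMoves vMoves_ok)

/-- An element carrying a class to the standard cross. -/
noncomputable def hE : Co0 := Classical.choose (exists_acts hMoves hMoves_ok)

theorem hE_acts : Acts hE (runMoves hMoves) := Classical.choose_spec (exists_acts hMoves hMoves_ok)

theorem hE_inv_acts : Acts hE⁻¹ (runMoves hiMoves) := by
  obtain ⟨g, hg⟩ := exists_acts hiMoves hiMoves_ok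
  rwa [inv_eq_of_mul_eq_one_right
    (eq_of_acts (acts_mul hE_acts hg) acts_one (by decide +kernel) : hE * g = 1)]

/-- The conjugate of the element of order seven. -/
noncomputable def vP : Co0 := hE * vE * hE⁻¹

/-- The matrix of the conjugate. -/
def matV (p r : GolayPt) : ℤ := (matRows.getD (idx p) []).getD (idx r) 0

theorem vP_eight (r p : GolayPt) :
    ((vP • eightL r : leechLattice) : GolayPt → ℤ) p = matV p r := by
  have h : ∀ r p, vec (compL (compL (runMoves hMoves) (runMoves vMoves)) (runMoves hiMoves)
      (toList (eight r))) p = matV p r := by decide +kernel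
  rw [vP, acts_mul (acts_mul hE_acts vE_acts) hE_inv_acts]
  exact h r p

/-! ### The search for the signed permutations -/

/-- The sign of a Boolean. -/
def sgnZ (b : Bool) : ℤ := if b then -1 else 1

/-- A point, its image, and its sign. -/
abbrev Entry := ℕ × ℕ × Bool

/-- The matrix by positions. -/
def matN (i j : ℕ) : ℤ := (matRows.getD i []).getD j 0

/-- Two entries are consistent with commuting. -/
def okPair (a b : Entry) : Bool :=
  decide (sgnZ a.2.2 * matN a.2.1 b.2.1 = sgnZ b.2.2 * matN a.1 b.1) &&
    decide (sgnZ b.2.2 * matN b.2.1 a.2.1 = sgnZ a.2.2 * matN b.1 a.1)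

/-- The consistent extensions by a point. -/
def extend (p : ℕ) (pre : List Entry) : List (List Entry) :=
  (((List.range 24).flatMap fun i => [(p, i, false), (p, i, true)]).filter fun e =>
    (e :: pre).all (okPair e)).map (· :: pre)

/-- The consistent assignments on a list of points. -/
def search : List ℕ → List (List Entry)
  | [] => [[]]
  | p :: ps => (search ps).flatMap (extend p)

theorem search_length : (search ptOrder).length = 14 := by decide +kernel

/-- The entries of a signed permutation. -/
def entryOf (σ : Equiv.Perm GolayPt) (c : Finset GolayPt) (p : ℕ) : Entry :=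
  (p, idx (σ (pt p)), decide (pt p ∈ c))

theorem mem_search {σ : Equiv.Perm GolayPt} {c : Finset GolayPt}
    (h : ∀ p r, sgnZ (decide (p ∈ c)) * matV (σ p) (σ r) = sgnZ (decide (r ∈ c)) * matV p r) :
    ∀ ps : List ℕ, (∀ p ∈ ps, p < 24) → ps.map (entryOf σ c) ∈ search ps
  | [], _ => List.mem_singleton.2 rfl
  | p :: ps, hlt => by
    refine List.mem_flatMap.2 ⟨_, mem_search h ps fun q hq => hlt q (List.mem_cons_of_mem _ hq), ?_⟩
    refine List.mem_map.2 ⟨entryOf σ c p, List.mem_filter.2 ⟨?_, ?_⟩, rfl⟩
    · refine List.mem_flatMap.2 ⟨idx (σ (pt p)), List.mem_range.2 (idx_lt _), ?_⟩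
      rw [entryOf]
      cases decide (pt p ∈ c) <;> simp
    · rw [← List.map_cons (f := entryOf σ c), List.all_map, List.all_eq_true]
      intro q hq
      have hp : p < 24 := hlt p List.mem_cons_self
      have hq' : q < 24 := hlt q hq
      simp only [Function.comp, okPair, entryOf, Bool.and_eq_true]
      have h1 := h (pt p) (pt q)
      have h2 := h (pt q) (pt p)
      simp only [matV, idx_pt hp, idx_pt hq'] at h1 h2
      exact ⟨decide_eq_true h1, decide_eq_true h2⟩

theorem ptOrder_lt : ∀ p ∈ ptOrder, p < 24 := by decide +kernel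

theorem ptOrder_all : ∀ p : GolayPt, idx p ∈ ptOrder := by decide +kernel

/-- A monomial element commuting with the conjugate satisfies the equations. -/
theorem mono_commute {σ : Equiv.Perm GolayPt} (hσ : σ ∈ M24) {c : Finset GolayPt}
    (hc : c ∈ supports (golayCode : Set (GolayPt → ZMod 2)))
    (h : Commute (monoCo0 σ hσ c hc) vP) (p r : GolayPt) :
    sgnZ (decide (p ∈ c)) * matV (σ p) (σ r) = sgnZ (decide (r ∈ c)) * matV p r := by
  have e := congrFun (congrArg (fun g : Co0 => ((g • eightL (σ r) : leechLattice) : GolayPt → ℤ)) h.eq) p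
  simp only [mul_smul, monoCo0_smul] at e
  simp only [monoFun, vP_eight] at e
  have hn : vP • monoCo0 σ hσ c hc • eightL (σ r) =
      if r ∈ c then -(vP • eightL r) else vP • eightL r := by
    have h8 : monoCo0 σ hσ c hc • eightL (σ r) = if r ∈ c then -eightL r else eightL r := by
      refine Subtype.ext ?_
      rw [monoCo0_eight, perm_inv_apply]
      split_ifs <;> rfl
    rw [h8]
    split_ifs
    · exact co0_neg _ _
    · rfl
  rw [hn] at e
  by_cases hp : p ∈ c <;> by_cases hr : r ∈ c <;>
    simp only [hp, hr, if_true, if_false, AddSubgroup.coe_neg, Pi.neg_apply, vP_eight] at e ⊢ <;>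
    simp only [sgnZ, decide_true, decide_false, if_true, Bool.false_eq_true, if_false] <;> omega

/-- The stabiliser of the standard cross in the centralizer of the conjugate. -/
theorem card_stab_le :
    Nat.card (classStab frameV ⊓ Subgroup.centralizer {vP} : Subgroup Co0) ≤ 14 := by
  classical
  have key : ∀ g : (classStab frameV ⊓ Subgroup.centralizer {vP} : Subgroup Co0),
      ∃ l ∈ (search ptOrder).toFinset, ∃ (σ : Equiv.Perm GolayPt) (hσ : σ ∈ M24) (c : Finset GolayPt)
        (hc : c ∈ supports (golayCode : Set (GolayPt → ZMod 2))),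
        (g : Co0) = monoCo0 σ hσ c hc ∧ l = ptOrder.map (entryOf σ c) := by
    rintro ⟨g, hgS, hgC⟩
    obtain ⟨σ, hσ, c, hc, rfl⟩ := eq_monoCo0 (preservesCross_of_classStab hgS)
    exact ⟨_, List.mem_toFinset.2 (mem_search (mono_commute hσ hc
      (Subgroup.mem_centralizer_singleton_iff.1 hgC)) _ ptOrder_lt), σ, hσ, c, hc, rfl, rfl⟩
  choose f hf σ hσ c hc he hl using key
  refine (Nat.card_le_card_of_injective (fun g => (⟨f g, hf g⟩ : (search ptOrder).toFinset))
    fun a b h => ?_).trans ?_
  · have h' : ptOrder.map (entryOf (σ a) (c a)) = ptOrder.map (entryOf (σ b) (c b)) := by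
      rw [← hl, ← hl]; exact congrArg Subtype.val h
    refine Subtype.ext (co0_ext fun v => Subtype.ext (funext fun p => ?_))
    rw [he a, he b, monoCo0_smul, monoCo0_smul]
    have := List.map_inj_left.1 h' (idx p) (ptOrder_all p)
    simp only [entryOf, pt_idx, Prod.mk.injEq, true_and, decide_eq_decide] at this
    simp only [monoFun, idx_injective this.1, this.2]
  · rw [Nat.card_eq_finsetCard]
    exact (List.toFinset_card_le _).trans search_length.le

/-! ### The classes killed by the polynomial -/

/-- The element of order seven modulo two. -/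
def vMat : Matrix (Fin 24) (Fin 24) (ZMod 2) := ofRows 24 vRows

theorem cl_vE (x : leechLattice) : cl (vE • x) = vMat *ᵥ cl x :=
  cl_smul_of_acts vE_acts vMat (by decide +kernel) x

/-- The inclusion of the component. -/
def uMat : Matrix (Fin 24) (Fin 12) (ZMod 2) := ofRows 24 uRows

/-- The projection to the component. -/
def cMat : Matrix (Fin 12) (Fin 24) (ZMod 2) := ofRows 12 cRows

/-- The complementary map. -/
def eMat : Matrix (Fin 24) (Fin 24) (ZMod 2) := ofRows 24 eRows

theorem split_one : uMat * cMat + eMat * (vMat * vMat * vMat + vMat + 1) = 1 := by decide +kernel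

/-- The vector of the stabilised class. -/
noncomputable def baseV : leechLattice := hE⁻¹ • frameV

theorem cl_poly (x : leechLattice) :
    cl (vE • vE • vE • x + vE • x + x) = (vMat * vMat * vMat + vMat + 1) *ᵥ cl x := by
  rw [map_add, map_add, cl_vE, cl_vE, cl_vE, Matrix.add_mulVec, Matrix.add_mulVec,
    Matrix.one_mulVec, Matrix.mulVec_mulVec, Matrix.mulVec_mulVec]

theorem cl_base : (vMat * vMat * vMat + vMat + 1) *ᵥ cl baseV = 0 := by
  rw [cl_eq_clB, baseV, hE_inv_acts frameV]
  decide +kernel

/-- A member of the centralizer keeps the component. -/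
theorem cl_mem_component {g : Co0} (hg : g ∈ Subgroup.centralizer {vE}) :
    cl (g • baseV) = uMat *ᵥ (cMat *ᵥ cl (g • baseV)) := by
  have hc : ∀ x : leechLattice, vE • g • x = g • vE • x := fun x => by
    rw [← mul_smul, ← mul_smul, Subgroup.mem_centralizer_singleton_iff.1 hg]
  have h0 : Cong (vE • vE • vE • baseV + vE • baseV + baseV) 0 := cong_of_cl (by
    rw [cl_poly, cl_base, map_zero])
  have h1 : cl (g • (vE • vE • vE • baseV + vE • baseV + baseV)) = 0 := by
    obtain ⟨u, hu⟩ := h0
    rw [hu, zero_add, co0_add, map_add]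
    exact funext fun k => CharTwo.add_self_eq_zero _
  simp only [co0_add, ← hc] at h1
  rw [cl_poly] at h1
  conv_lhs => rw [← Matrix.one_mulVec (cl (g • baseV)), ← split_one, Matrix.add_mulVec,
    ← Matrix.mulVec_mulVec, ← Matrix.mulVec_mulVec, h1, Matrix.mulVec_zero, add_zero]

/-- The centralizer of the element of order seven is small. -/
theorem card_centralizer_vE_le : Nat.card (Subgroup.centralizer ({vE} : Set Co0)) ≤ 4096 * 14 := by
  classical
  haveI := co0_finite
  let φ : Subgroup.centralizer ({vE} : Set Co0) → Fin 12 → ZMod 2 := fun g =>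
    cMat *ᵥ cl ((g : Co0) • baseV)
  have hfib : ∀ a b, φ a = φ b →
      hE * ((a : Co0)⁻¹ * b) * hE⁻¹ ∈ classStab frameV ⊓ Subgroup.centralizer {vP} := by
    intro a b h
    have hcl : cl ((b : Co0) • baseV) = cl ((a : Co0) • baseV) := by
      rw [cl_mem_component a.2, cl_mem_component b.2]
      exact congrArg (uMat *ᵥ ·) h.symm
    refine ⟨mem_classStab.2 ?_, Subgroup.mem_centralizer_singleton_iff.2 ?_⟩
    · have := ((cong_of_cl hcl).smul (a : Co0)⁻¹).smul hE
      rw [inv_smul_smul, baseV, smul_inv_smul] at this
      rwa [mul_smul, mul_smul, mul_smul]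
    · have hab : ((a : Co0)⁻¹ * b) * vE = vE * ((a : Co0)⁻¹ * b) :=
        Subgroup.mem_centralizer_singleton_iff.1 (mul_mem (inv_mem a.2) b.2)
      rw [vP]
      calc hE * ((a : Co0)⁻¹ * b) * hE⁻¹ * (hE * vE * hE⁻¹)
          = hE * (((a : Co0)⁻¹ * b) * vE) * hE⁻¹ := by group
        _ = _ := by rw [hab]; group
  let sec : (Fin 12 → ZMod 2) → Subgroup.centralizer ({vE} : Set Co0) := Function.invFun φ
  have hsec : ∀ a, φ (sec (φ a)) = φ a := fun a => Function.invFun_eq ⟨a, rfl⟩
  refine (Nat.card_le_card_of_injective (fun a => (φ a, (⟨_, hfib _ _ (hsec a)⟩ :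
    (classStab frameV ⊓ Subgroup.centralizer {vP} : Subgroup Co0)))) fun a b h => ?_).trans ?_
  · simp only [Prod.mk.injEq, Subtype.mk.injEq, mul_left_inj, mul_right_inj] at h
    obtain ⟨h1, h2⟩ := h
    rw [h1, mul_right_inj] at h2
    exact Subtype.ext h2
  · rw [Nat.card_prod]
    refine Nat.mul_le_mul (le_of_eq ?_) card_stab_le
    simp

end CfsgLib.CoOneAmalgam.SevenThree
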