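import Cfsg.Agent.CoOneAmalgam.SevenThreeComm

/-!
# A centralizer of order seven and a normalizer of order three in the first Conway group

`Co1` has a subgroup `V` of order seven with centralizer `7 × A₇` and a subgroup `W` of order three with
normalizer `S₃ × A₉`.
-/

set_option autoImplicit false

namespace CfsgLib.CoOneAmalgam.SevenThree

open Cfsg CfsgLib.Leech CfsgLib.Mathieu CfsgLib.MonsterType CfsgLib.MonsterType.Three
open CfsgLib.MonsterType.Five (Acts exists_acts)
open CfsgLib.MonsterType.Seven (compL acts_mul acts_one acts_pow eq_of_acts sameGen)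
open CfsgLib.CoOneInv (projC projC_eq_cases projC_negCo0)

/-! ### The generators commute with the element of order seven -/

theorem uE_vE : uE * vE = vE * uE :=
  eq_of_acts (acts_mul uE_acts vE_acts) (acts_mul vE_acts uE_acts) (by decide +kernel)

theorem fE_vE : fE * vE = vE * fE :=
  eq_of_acts (acts_mul fE_acts vE_acts) (acts_mul vE_acts fE_acts) (by decide +kernel)

/-! ### The element of order seven -/

theorem vE_pow_seven : vE ^ 7 = 1 :=
  eq_of_acts (acts_pow vE_acts 7) acts_one (by decide +kernel)

/-- The class of the element of order seven. -/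
noncomputable def vOne : Spor.Co1 := projC vE

theorem vOne_pow_seven : vOne ^ 7 = 1 := by rw [vOne, ← map_pow, vE_pow_seven, map_one]

theorem vOne_tOne : vOne * tOne ≠ tOne * vOne := by
  intro h
  rw [vOne, tOne, ← map_mul, ← map_mul] at h
  have h1 : ∃ p, vec (compL (runMoves vMoves) (Mv.act (.mono tauTab 0)) (toList (eight none))) p ≠
        vec (compL (Mv.act (.mono tauTab 0)) (runMoves vMoves) (toList (eight none))) p ∧
      vec (compL (runMoves vMoves) (Mv.act (.mono tauTab 0)) (toList (eight none))) p ≠
        -vec (compL (Mv.act (.mono tauTab 0)) (runMoves vMoves) (toList (eight none))) p := by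
    decide +kernel
  obtain ⟨p, hp, hp'⟩ := h1
  have ea := congrFun (acts_mul vE_acts Three.acts_T (eightL none)) p
  have eb := congrFun (acts_mul Three.acts_T vE_acts (eightL none)) p
  rw [show ((eightL none : leechLattice) : GolayPt → ℤ) = eight none from rfl] at ea eb
  rcases projC_eq_cases h with e | e
  · rw [e] at eb
    exact hp (ea.symm.trans eb)
  · rw [e, mul_smul, negCo0_smul, Pi.neg_apply, ea] at eb
    exact hp' (by rw [← eb, neg_neg])

theorem orderOf_vOne : orderOf vOne = 7 :=
  haveI : Fact (Nat.Prime 7) := ⟨by norm_num⟩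
  orderOf_eq_prime vOne_pow_seven fun h => vOne_tOne (by rw [h, one_mul, mul_one])

/-- An element whose image commutes with `vOne` commutes with the lift. -/
theorem mem_centralizer_of_projC {g : Co0} (h : projC g * vOne = vOne * projC g) :
    g ∈ Subgroup.centralizer ({vE} : Set Co0) := by
  rw [vOne, ← map_mul, ← map_mul] at h
  refine Subgroup.mem_centralizer_singleton_iff.2 ?_
  rcases projC_eq_cases h with e | e
  · exact e.symm
  · exfalso
    refine negCo0_ne_one ?_
    have hconj : g⁻¹ * vE * g = negCo0 * vE := by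
      rw [mul_assoc, e, ← mul_assoc g⁻¹, Subgroup.mem_center_iff.1 negCo0_mem_center g⁻¹,
        mul_assoc, inv_mul_cancel_left]
    have h7 : (g⁻¹ * vE * g) ^ 7 = 1 := by
      have hh := conj_pow (i := 7) (a := g⁻¹) (b := vE)
      rw [inv_inv] at hh
      rw [hh, vE_pow_seven]
      group
    rw [hconj, (show Commute negCo0 vE from
      (Subgroup.mem_center_iff.1 negCo0_mem_center vE).symm).mul_pow, vE_pow_seven, mul_one,
      pow_succ, show (6 : ℕ) = 2 * 3 from rfl, pow_mul, sq negCo0, negCo0_sq, one_pow, one_mul] at h7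
    exact h7

theorem two_mul_card_le :
    2 * Nat.card (Subgroup.centralizer ({vOne} : Set Spor.Co1)) ≤
      Nat.card (Subgroup.centralizer ({vE} : Set Co0)) := by
  classical
  haveI := co0_finite
  choose s hs using projC_surj
  have hmem : ∀ x : Subgroup.centralizer ({vOne} : Set Spor.Co1),
      s x ∈ Subgroup.centralizer ({vE} : Set Co0) := fun x =>
    mem_centralizer_of_projC (by rw [hs]; exact Subgroup.mem_centralizer_singleton_iff.1 x.2)
  have hneg : negCo0 ∈ Subgroup.centralizer ({vE} : Set Co0) :=
    Subgroup.mem_centralizer_singleton_iff.2 (Subgroup.mem_center_iff.1 negCo0_mem_center vE).symm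
  let f : Bool × Subgroup.centralizer ({vOne} : Set Spor.Co1) →
      Subgroup.centralizer ({vE} : Set Co0) := fun q =>
    if q.1 then ⟨negCo0 * s q.2, mul_mem hneg (hmem _)⟩ else ⟨s q.2, hmem _⟩
  have hf : Function.Injective f := by
    rintro ⟨a, x⟩ ⟨b, y⟩ h
    have h' : (f (a, x) : Co0) = f (b, y) := congrArg Subtype.val h
    have e : ∀ (a : Bool) (x : Subgroup.centralizer ({vOne} : Set Spor.Co1)),
        projC (f (a, x) : Co0) = x := by
      intro a x
      cases a <;> simp [f, hs, projC_negCo0]
    have hxy : x = y := Subtype.ext (by rw [← e a x, ← e b y, h'])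
    subst hxy
    cases a <;> cases b <;> simp [f, negCo0_ne_one] at h' <;> rfl
  have := Nat.card_le_card_of_injective f hf
  rwa [Nat.card_prod, show Nat.card Bool = 2 by simp] at this

/-! ### The alternating group of degree seven -/

theorem perm7_mem : perm7U ∈ alternatingGroup (Fin 7) ∧ perm7F ∈ alternatingGroup (Fin 7) :=
  ⟨Equiv.Perm.mem_alternatingGroup.2 (by decide +kernel),
    Equiv.Perm.mem_alternatingGroup.2 (by decide +kernel)⟩

theorem alternating_le_seven {R : Subgroup (Equiv.Perm (Fin 7))} (hu : perm7U ∈ R) (hf : perm7F ∈ R) :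
    alternatingGroup (Fin 7) ≤ R := by
  have hmv : ∀ w ∈ moveList, w ∈ R := by
    intro w hw
    simp only [moveList, List.mem_cons, List.not_mem_nil, or_false] at hw
    rcases hw with rfl | rfl | rfl | rfl | rfl | rfl | rfl <;>
      first | exact one_mem _ | repeat (first | exact hu | exact hf | refine mul_mem ?_ ?_)
  have hst : ∀ w ∈ stabList, w ∈ R := by
    intro w hw
    simp only [stabList, List.mem_cons, List.not_mem_nil, or_false] at hw
    rcases hw with rfl | rfl | rfl | rfl | rfl | rfl <;>
      first | exact one_mem _ | repeat (first | exact hu | exact hf | refine mul_mem ?_ ?_)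
  have hm : ∀ x : Fin 7, ∃ w ∈ moveList, w 0 = x := by decide +kernel
  have hs : ∀ x : Fin 7, x ≠ 0 → ∃ w ∈ stabList, w 0 = 0 ∧ w 1 = x := by decide +kernel
  refine CfsgLib.AltSylow.alternating_le_of_threeCycle (p := (0 : Fin 7))
    (fun x => let ⟨w, hw, e⟩ := hm x; ⟨w, hmv w hw, e⟩) (fun x y hx hy => ?_)
    (t := threeWord) ?_ ?_
  · obtain ⟨a, ha, ha0, ha1⟩ := hs x hx
    obtain ⟨w, hw, hw0, hw1⟩ := hs y hy
    refine ⟨w * a⁻¹, mul_mem (hst w hw) (inv_mem (hst a ha)), ?_, ?_⟩
    · have : a⁻¹ 0 = 0 := by conv_lhs => rw [← ha0, perm_inv_apply]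
      rw [Equiv.Perm.mul_apply, this, hw0]
    · have : a⁻¹ x = 1 := by rw [← ha1, perm_inv_apply]
      rw [Equiv.Perm.mul_apply, this, hw1]
  · exact card_support_eq_three_iff.1 (by decide +kernel)
  · unfold threeWord
    repeat (first | exact hu | exact hf | refine mul_mem ?_ ?_)

/-- The seven subspaces as a subtype. -/
noncomputable def sevenEquiv : Fin 7 ≃ Set.range sevenPts :=
  Equiv.ofInjective sevenPts (by decide +kernel)

/-- The embedding of the permutations of seven subspaces. -/
noncomputable def extSeven : Equiv.Perm (Fin 7) →* Equiv.Perm (Fin 9) :=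
  (Equiv.Perm.extendDomainHom sevenEquiv)

theorem extSeven_apply (q : Equiv.Perm (Fin 7)) (i : Fin 7) :
    extSeven q (sevenPts i) = sevenPts (q i) := by
  exact Equiv.Perm.extendDomain_apply_image q sevenEquiv i

theorem extSeven_fix (q : Equiv.Perm (Fin 7)) {x : Fin 9} (h : ∀ i, sevenPts i ≠ x) :
    extSeven q x = x := by
  exact Equiv.Perm.extendDomain_apply_not_subtype q sevenEquiv fun ⟨i, hi⟩ => h i hi

theorem extSeven_eq {q : Equiv.Perm (Fin 7)} {p : Equiv.Perm (Fin 9)}
    (h1 : ∀ i, p (sevenPts i) = sevenPts (q i))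
    (h2 : ∀ x, (∀ i, sevenPts i ≠ x) → p x = x) : extSeven q = p := Equiv.ext fun x => by
  by_cases h : ∃ i, sevenPts i = x
  · obtain ⟨i, rfl⟩ := h
    rw [extSeven_apply, h1]
  · push Not at h
    rw [extSeven_fix q h, h2 x h]

theorem extSeven_mem (q : alternatingGroup (Fin 7)) :
    extSeven q ∈ alternatingGroup (Fin 9) := by
  refine Equiv.Perm.mem_alternatingGroup.2 ?_
  show Equiv.Perm.sign (Equiv.Perm.extendDomain _ sevenEquiv) = 1
  rw [Equiv.Perm.sign_extendDomain]
  exact q.2

/-- The embedding of the alternating group of degree seven. -/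
noncomputable def altSeven : alternatingGroup (Fin 7) →* alternatingGroup (Fin 9) :=
  (extSeven.comp (alternatingGroup (Fin 7)).subtype).codRestrict _ extSeven_mem

theorem altSeven_injective : Function.Injective altSeven := fun a b h => by
  refine Subtype.ext (Equiv.ext fun i => ?_)
  have h' : extSeven a = extSeven b := congrArg Subtype.val h
  have := congrArg (fun p : Equiv.Perm (Fin 9) => p (sevenPts i)) h'
  simp only [extSeven_apply] at this
  exact (by decide +kernel : Function.Injective sevenPts) this

/-- The copy of the alternating group of degree seven. -/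
noncomputable def mHom : alternatingGroup (Fin 7) →* Spor.Co1 :=
  lOne.subtype.comp
    ((MulEquiv.ofBijective chiL ⟨chiL_injective, chiL_surjective⟩).symm.toMonoidHom.comp altSeven)

theorem mHom_injective : Function.Injective mHom :=
  fun _ _ h => altSeven_injective
    ((MulEquiv.ofBijective chiL ⟨chiL_injective, chiL_surjective⟩).symm.injective (Subtype.ext h))

theorem mHom_mem (q : alternatingGroup (Fin 7)) : mHom q ∈ lOne := SetLike.coe_mem _

theorem mHom_gen {g : Co0} (hg : g ∈ C0) (hj : g * jE = jE * g) {p : Equiv.Perm (Fin 9)}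
    {q : alternatingGroup (Fin 7)} (hp : LinesTo g p) (e : extSeven q = p) : mHom q = projC g := by
  have h : altSeven q = chiL ⟨projC g, projC_mem_lOne hg hj⟩ :=
    Subtype.ext (e.trans (chiL_projC hg hj hp).symm)
  show (((MulEquiv.ofBijective chiL ⟨chiL_injective, chiL_surjective⟩).symm (altSeven q) : lOne) :
    Spor.Co1) = _
  rw [h, show chiL ⟨projC g, projC_mem_lOne hg hj⟩ =
    MulEquiv.ofBijective chiL ⟨chiL_injective, chiL_surjective⟩ ⟨projC g, projC_mem_lOne hg hj⟩
    from rfl, MulEquiv.symm_apply_apply]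

theorem mHom_commute (q : alternatingGroup (Fin 7)) : Commute (mHom q) vOne := by
  let K : Subgroup (alternatingGroup (Fin 7)) := (Subgroup.centralizer {vOne}).comap mHom
  have hu : (⟨perm7U, perm7_mem.1⟩ : alternatingGroup (Fin 7)) ∈ K :=
    Subgroup.mem_comap.2 (Subgroup.mem_centralizer_singleton_iff.2 (by
      rw [mHom_gen uE_mem uE_jE linesTo_u
        (extSeven_eq (by decide +kernel) (by decide +kernel)), vOne, ← map_mul, ← map_mul, uE_vE]))
  have hf : (⟨perm7F, perm7_mem.2⟩ : alternatingGroup (Fin 7)) ∈ K :=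
    Subgroup.mem_comap.2 (Subgroup.mem_centralizer_singleton_iff.2 (by
      rw [mHom_gen fE_mem fE_jE linesTo_f
        (extSeven_eq (by decide +kernel) (by decide +kernel)), vOne, ← map_mul, ← map_mul, fE_vE]))
  obtain ⟨q', hq', e⟩ := alternating_le_seven (R := K.map (alternatingGroup (Fin 7)).subtype)
    ⟨_, hu, rfl⟩ ⟨_, hf, rfl⟩ q.2
  have e' : q' = q := Subtype.ext e
  subst e'
  exact Subgroup.mem_centralizer_singleton_iff.1 (Subgroup.mem_comap.1 hq')

/-! ### The results -/

theorem exists_centralizer_seven : ∃ V : Subgroup Spor.Co1, Nat.card V = 7 ∧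
    Nonempty (Subgroup.centralizer (V : Set Spor.Co1) ≃*
      Multiplicative (ZMod 7) × alternatingGroup (Fin 7)) := by
  classical
  haveI := co0_finite
  set V := Subgroup.zpowers vOne with hV
  have hcardV : Nat.card V = 7 := by rw [hV, Nat.card_zpowers, orderOf_vOne]
  refine ⟨V, hcardV, ?_⟩
  have hC : Subgroup.centralizer (V : Set Spor.Co1) = Subgroup.centralizer {vOne} := by
    rw [hV, Subgroup.zpowers_eq_closure, Subgroup.centralizer_closure]
  have hcomm : ∀ (x : V) (q : alternatingGroup (Fin 7)), Commute (V.subtype x) (mHom q) := by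
    rintro ⟨x, i, rfl⟩ q
    exact ((mHom_commute q).symm).zpow_left i
  let Φ : V × alternatingGroup (Fin 7) →* Spor.Co1 := V.subtype.noncommCoprod mHom hcomm
  have hinj : Function.Injective Φ := by
    refine (injective_iff_map_eq_one Φ).2 ?_
    rintro ⟨⟨x, hx⟩, q⟩ h
    have h' : x * mHom q = 1 := h
    have hxL : x ∈ lOne := by rw [eq_inv_of_mul_eq_one_left h']; exact inv_mem (mHom_mem q)
    have hx1 : x = 1 := by
      by_contra hne
      obtain ⟨i, hi⟩ := hx
      haveI : Fact (Nat.Prime 7) := ⟨by norm_num⟩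
      have htop := zpowers_eq_top_of_prime_card hcardV (g := (⟨x, i, hi⟩ : V))
        (fun e => hne (congrArg Subtype.val e :))
      have hv : (⟨vOne, Subgroup.mem_zpowers _⟩ : V) ∈ Subgroup.zpowers (⟨x, i, hi⟩ : V) := by
        rw [htop]; exact Subgroup.mem_top _
      obtain ⟨k, hk⟩ := hv
      have hk' : x ^ k = vOne := congrArg Subtype.val hk
      exact vOne_tOne (hk' ▸ ((show Commute x tOne from (mem_lOne.1 hxL).1).zpow_left k).eq)
    subst hx1
    rw [one_mul] at h'
    exact Prod.ext rfl ((map_eq_one_iff _ mHom_injective).1 h')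
  have hle : Φ.range ≤ Subgroup.centralizer {vOne} := by
    rintro _ ⟨⟨⟨x, i, rfl⟩, q⟩, rfl⟩
    refine Subgroup.mem_centralizer_singleton_iff.2 ?_
    exact (((Commute.refl vOne).zpow_left i).mul_left (mHom_commute q)).eq
  have hcard : Nat.card Φ.range = 17640 := by
    rw [← Nat.card_congr (MonoidHom.ofInjective hinj).toEquiv, Nat.card_prod, hcardV,
      nat_card_alternatingGroup, Nat.card_fin]
    decide
  have heq : Φ.range = Subgroup.centralizer {vOne} := by
    refine Subgroup.eq_of_le_of_card_ge hle ?_
    obtain ⟨m, hm⟩ := Subgroup.card_dvd_of_le hle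
    have h2 := two_mul_card_le.trans card_centralizer_vE_le
    rw [hcard] at hm ⊢
    rw [hm] at h2
    have : m ≤ 1 := by omega
    rw [hm]
    omega
  let eV : V ≃* Multiplicative (ZMod 7) :=
    (zmodMulEquivOfGenerator (g := (⟨vOne, Subgroup.mem_zpowers _⟩ : V)) (by
      rintro ⟨x, i, rfl⟩
      exact ⟨i, Subtype.ext (by simp)⟩) hcardV).symm
  exact ⟨((MulEquiv.subgroupCongr (hC.trans heq.symm)).trans (MonoidHom.ofInjective hinj).symm).trans
    (eV.prodCongr (MulEquiv.refl _))⟩

/-- The first Conway group has a subgroup of order seven with centralizer `7 × A₇` and a subgroup of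
order three with normalizer `S₃ × A₉`. -/
theorem seven_three :
    (∃ V : Subgroup Spor.Co1, Nat.card V = 7 ∧
      Nonempty (Subgroup.centralizer (V : Set Spor.Co1) ≃*
        Multiplicative (ZMod 7) × alternatingGroup (Fin 7))) ∧
    ∃ W : Subgroup Spor.Co1, Nat.card W = 3 ∧
      Nonempty (Subgroup.normalizer (W : Set Spor.Co1) ≃*
        Equiv.Perm (Fin 3) × alternatingGroup (Fin 9)) :=
  ⟨exists_centralizer_seven, exists_normalizer_three⟩

end CfsgLib.CoOneAmalgam.SevenThree
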