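import Cfsg.Agent.CoOneAmalgam.SevenThreeGen

/-!
# The generators commute with the involution
-/

set_option autoImplicit false

namespace CfsgLib.CoOneAmalgam.SevenThree

open Cfsg CfsgLib.Leech CfsgLib.Mathieu CfsgLib.MonsterType CfsgLib.MonsterType.Three
open CfsgLib.MonsterType.Five (Acts exists_acts)
open CfsgLib.MonsterType.Seven (compL acts_mul acts_one acts_pow eq_of_acts sameGen)
open CfsgLib.CoOneInv (projC projC_eq_cases projC_negCo0)

theorem uE_jE : uE * jE = jE * uE :=
  eq_of_acts (acts_mul uE_acts jE_acts) (acts_mul jE_acts uE_acts) (by decide +kernel)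

theorem fE_jE : fE * jE = jE * fE :=
  eq_of_acts (acts_mul fE_acts jE_acts) (acts_mul jE_acts fE_acts) (by decide +kernel)

end CfsgLib.CoOneAmalgam.SevenThree
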