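import Cfsg.Agent.MonsterType.ThreeImage

/-!
# Tables for a subgroup of order seven and a subgroup of order three of the first Conway group

Moves of the elements, their action on the nine subspaces, and the matrix of a conjugate of the element of
order seven.
-/

set_option autoImplicit false

namespace CfsgLib.CoOneAmalgam.SevenThree

open Cfsg CfsgLib.Leech CfsgLib.Mathieu

/-- The moves of the involution inverting the element of order three. -/
def jMoves : List Mv :=
  [.mono 515501822213623750110396750473445189834994100852365264896 0]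

/-- The moves of the first generator of the complement. -/
def gMovesL : List Mv :=
  [.mono 123654755411499225095375692492789333820576431603377966096 10615434,
    .xi,
    .mono 99995344392123659169068949012326609617680331396155244806 18147,
    .xi,
    .mono 515594209532296904660068486215306008616829179967595680776 10310809,
    .xi,
    .mono 50096826984330485113359657581299198970146865881784848146 0,
    .xi,
    .mono 124805620790352364952537048566544015741441535731055856401 11966116]

/-- The moves of the second generator of the complement. -/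
def pMovesL : List Mv :=
  [.mono 539536481079848533465454290431133372637688765794786936076 0]

/-- The moves of an element of order seven of the complement. -/
def uMoves : List Mv :=
  [.mono 123654755411499225095375692492789333820576431603377966096 10615434,
    .xi,
    .mono 99995344392123659169068949012326609617680331396155244806 18147,
    .xi,
    .mono 515594209532296904660068486215306008616829179967595680776 10310809,
    .xi,
    .mono 50096826984330485113359657581299198970146865881784848146 0,
    .xi,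
    .mono 98080467380238209148761741880817655245868470818659830536 6506094,
    .xi,
    .mono 394044799866424296715199315934978048603603112964585361171 0,
    .xi,
    .mono 74909326428687759371432597677464948086274673779294865926 14955806,
    .xi,
    .mono 123564593959417350807522492511495130264057647682200469781 13303882,
    .xi,
    .mono 220681608626112475663674886650671683501547622812457568266 8881652]

/-- The moves of an element of order five of the complement. -/
def fMoves : List Mv :=
  [.mono 123654755411499225095375692492789333820576431603377966096 10615434,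
    .xi,
    .mono 99995344392123659169068949012326609617680331396155244806 18147,
    .xi,
    .mono 515594209532296904660068486215306008616829179967595680776 10310809,
    .xi,
    .mono 50096826984330485113359657581299198970146865881784848146 0,
    .xi,
    .mono 50000315324582273425641405269146441699047203634698849301 5651214,
    .xi,
    .mono 99995344392123659169068949012326609617680331396155244806 18147,
    .xi,
    .mono 515594209532296904660068486215306008616829179967595680776 10310809,
    .xi,
    .mono 50096826984330485113359657581299198970146865881784848146 0,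
    .xi,
    .mono 294622652140720165955197470076240854784934183516332692741 13245382]

/-- The moves of the element of order seven. -/
def vMoves : List Mv :=
  [.mono 271164565815386833063832795706361054954572632668297696266 1757549,
    .xi,
    .mono 171934715150129604256302965446187514152936903352479255826 858555]

/-- The moves of an element carrying a class to the standard cross. -/
def hMoves : List Mv :=
  [.mono 417612548505880734707412084450804817217623276571089437441 3628775,
    .xi,
    .mono 271068033643748131779504989898474190054496966956633424901 10011454,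
    .xi]

/-- The moves of its inverse. -/
def hiMoves : List Mv :=
  [.xi,
    .mono 73759212358863471439550461691720832699476980681960460301 14433816,
    .xi,
    .mono 271259224399106625707164932073916828951373438240441892866 15851087]

/-- The images of the basis classes. -/
def tabU : List ℕ := [183, 120, 215, 68, 252, 108, 245, 31]

/-- The permutation of the nine subspaces. -/
def permU : Equiv.Perm (Fin 9) :=
  ⟨![5, 7, 2, 3, 1, 8, 0, 6, 4], ![6, 4, 2, 3, 8, 0, 7, 1, 5], by decide +kernel, by decide +kernel⟩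

/-- Its restriction to seven subspaces. -/
def perm7U : Equiv.Perm (Fin 7) :=
  ⟨![3, 5, 1, 6, 0, 4, 2], ![4, 2, 6, 0, 5, 1, 3], by decide +kernel, by decide +kernel⟩

/-- The images of the basis classes. -/
def tabF : List ℕ := [128, 231, 64, 14, 73, 246, 107, 79]

/-- The permutation of the nine subspaces. -/
def permF : Equiv.Perm (Fin 9) :=
  ⟨![5, 7, 2, 3, 4, 1, 0, 6, 8], ![6, 5, 2, 3, 4, 0, 7, 1, 8], by decide +kernel, by decide +kernel⟩

/-- Its restriction to seven subspaces. -/
def perm7F : Equiv.Perm (Fin 7) :=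
  ⟨![3, 5, 2, 1, 0, 4, 6], ![4, 3, 2, 0, 5, 1, 6], by decide +kernel, by decide +kernel⟩

/-- The seven subspaces. -/
def sevenPts : Fin 7 → Fin 9 := ![0, 1, 4, 5, 6, 7, 8]

/-- Elements moving the first point anywhere. -/
def moveList : List (Equiv.Perm (Fin 7)) :=
  [1,
    perm7F * perm7U,
    perm7U * perm7U * perm7U,
    perm7U,
    perm7U * perm7U * perm7F * perm7U,
    perm7U * perm7F * perm7U,
    perm7U * perm7U]

/-- Elements fixing the first point and moving the second. -/
def stabList : List (Equiv.Perm (Fin 7)) :=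
  [1,
    perm7F * perm7U * perm7U * perm7U * perm7U * perm7U * perm7U,
    perm7U * perm7U * perm7U * perm7U * perm7F * perm7F * perm7U * perm7U * perm7U,
    perm7U * perm7U * perm7F * perm7U * perm7U * perm7U * perm7U,
    perm7U * perm7U * perm7U * perm7U * perm7F * perm7U * perm7U * perm7U,
    perm7U * perm7U * perm7U * perm7F * perm7U]

/-- A cycle of length three. -/
def threeWord : Equiv.Perm (Fin 7) := perm7F * perm7F * perm7F * perm7F * perm7U

/-- The rows of the element of order seven modulo two. -/
def vRows : List ℕ := [2159, 239599, 8373253, 4203056, 1583195, 4203024, 4204671, 2384127, 239871, 2387579, 320, 1583087, 15743146, 4891908, 214676, 10524499, 951988, 4746644, 15276750, 716651, 16079272, 12913812, 8656788, 14221485]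

/-- The rows of the inclusion of the component. -/
def uRows : List ℕ := [1874, 1024, 236, 1266, 3264, 2258, 390, 2138, 1087, 15, 3546, 1, 2638, 2, 4, 8, 16, 32, 64, 128, 256, 512, 1024, 2048]

/-- The rows of the projection to the component. -/
def cRows : List ℕ := [2048, 8192, 16384, 32768, 65536, 131072, 262144, 524288, 1048576, 2097152, 4194304, 8388608]

/-- The rows of the complementary map. -/
def eRows : List ℕ := [3284992, 13295616, 6734080, 11673856, 13279488, 1179904, 57600, 11485440, 1614080, 13951232, 10575872, 0, 13000960, 0, 0, 0, 0, 0, 0, 0, 0, 0, 0, 0]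

/-- The matrix of the conjugate of the element of order seven. -/
def matRows : List (List ℤ) :=
  [[-2, -2, -2, 0, -2, 2, -2, 0, 2, 0, -2, 0, -2, 2, -2, -2, 2, -2, 2, 0, 2, 0, 0, 0],
    [0, 0, 0, -2, 0, 0, 0, -2, -4, 2, 0, -2, 0, 0, 0, 0, 0, 0, 0, 2, 4, -2, 2, 2],
    [2, -2, -2, 0, -2, -2, 2, 0, -2, 0, 2, 0, -2, 2, -2, 2, -2, -2, 2, 0, -2, 0, 0, 0],
    [0, 0, 0, -2, 0, 0, 0, 2, 0, -2, 0, -2, -4, -4, 0, 0, 0, 0, 0, -2, 0, -2, -2, 2],
    [0, -4, 4, -2, 0, 0, 0, -2, 0, -2, 0, 2, 0, 0, 0, 0, 0, 0, 0, -2, 0, 2, 2, 2],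
    [2, -2, -2, 0, 2, -2, 2, 0, 2, 0, -2, 0, -2, 2, 2, 2, 2, 2, -2, 0, 2, 0, 0, 0],
    [0, 0, 0, 2, 0, 0, 0, 2, 0, -2, 0, -2, 0, 0, 0, 0, 0, -4, -4, 2, 0, 2, 2, 2],
    [0, 0, 0, -2, 0, 0, 0, 2, 0, 2, 4, 2, 0, 0, 0, 0, 4, 0, 0, 2, 0, 2, -2, 2],
    [0, 0, 0, -2, 0, -4, 0, -2, 0, -2, 0, -2, 0, 0, 0, -4, 0, 0, 0, 2, 0, 2, -2, -2],
    [0, 0, 0, 2, 4, 0, 0, -2, 0, -2, 0, 2, 0, 0, -4, 0, 0, 0, 0, 2, 0, -2, -2, 2],
    [2, -2, -2, 0, -2, 2, 2, 0, -2, 0, -2, 0, 2, -2, -2, -2, 2, 2, -2, 0, -2, 0, 0, 0],
    [0, 0, 0, -2, 0, 0, 0, -2, 4, 2, 0, -2, 0, 0, 0, 0, 0, 0, 0, 2, -4, -2, 2, 2],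
    [-2, 2, 2, 0, -2, -2, -2, 0, -2, 0, -2, 0, -2, 2, -2, 2, 2, 2, -2, 0, -2, 0, 0, 0],
    [-4, 0, 0, 2, 0, 0, 4, -2, 0, 2, 0, -2, 0, 0, 0, 0, 0, 0, 0, -2, 0, 2, -2, 2],
    [-2, -2, -2, 0, -2, -2, -2, 0, 2, 0, 2, 0, 2, -2, -2, 2, -2, 2, -2, 0, 2, 0, 0, 0],
    [0, 0, 0, 2, 0, 0, 0, -2, 0, 2, 0, 2, -4, -4, 0, 0, 0, 0, 0, 2, 0, 2, 2, -2],
    [0, 0, 0, -2, 0, 0, 0, 2, 0, 2, -4, 2, 0, 0, 0, 0, -4, 0, 0, 2, 0, 2, -2, 2],
    [0, 0, 0, -2, 4, 0, 0, 2, 0, 2, 0, -2, 0, 0, -4, 0, 0, 0, 0, -2, 0, 2, 2, -2],
    [2, 2, 2, 0, -2, 2, 2, 0, 2, 0, 2, 0, -2, 2, -2, -2, -2, 2, -2, 0, 2, 0, 0, 0],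
    [4, 0, 0, 2, 0, 0, -4, -2, 0, 2, 0, -2, 0, 0, 0, 0, 0, 0, 0, -2, 0, 2, -2, 2],
    [-2, -2, -2, 0, 2, 2, -2, 0, -2, 0, 2, 0, -2, 2, 2, -2, -2, 2, -2, 0, -2, 0, 0, 0],
    [0, 0, 0, -2, 0, 0, 0, -2, 0, 2, 0, 2, 0, 0, 0, 0, 0, -4, -4, -2, 0, -2, -2, -2],
    [0, -4, 4, 2, 0, 0, 0, 2, 0, 2, 0, -2, 0, 0, 0, 0, 0, 0, 0, 2, 0, -2, -2, -2],
    [0, 0, 0, -2, 0, 4, 0, -2, 0, -2, 0, -2, 0, 0, 0, 4, 0, 0, 0, 2, 0, 2, -2, -2]]

/-- The order in which the points are treated. -/
def ptOrder : List ℕ := [23, 22, 21, 19, 11, 9, 3, 17, 6, 13, 15, 8, 4, 1, 20, 18, 14, 12, 5, 2, 0, 10, 16, 7]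

end CfsgLib.CoOneAmalgam.SevenThree
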