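import Cfsg.Agent.CoOneAmalgam.ThreeSplit
import Cfsg.Agent.CoOneAmalgam.SevenBound

/-!
# The two generators of the complement fixing two subspaces

The elements of order seven and five, their commutations, and their permutations of the nine
subspaces.
-/

set_option autoImplicit false

namespace CfsgLib.CoOneAmalgam.SevenThree

open Cfsg CfsgLib.Leech CfsgLib.Mathieu CfsgLib.MonsterType CfsgLib.MonsterType.Three
open CfsgLib.MonsterType.Five (Acts exists_acts)
open CfsgLib.MonsterType.Seven (compL acts_mul acts_one acts_pow eq_of_acts sameGen)
open CfsgLib.CoOneInv (projC projC_eq_cases projC_negCo0)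

/-! ### The generators of the subgroup fixing two subspaces -/

theorem uMoves_ok : uMoves.all Mv.ok = true := by decide +kernel

theorem fMoves_ok : fMoves.all Mv.ok = true := by decide +kernel

/-- The element of order seven of the complement. -/
noncomputable def uE : Co0 := Classical.choose (exists_acts uMoves uMoves_ok)

theorem uE_acts : Acts uE (runMoves uMoves) := Classical.choose_spec (exists_acts uMoves uMoves_ok)

/-- The element of order five of the complement. -/
noncomputable def fE : Co0 := Classical.choose (exists_acts fMoves fMoves_ok)

theorem fE_acts : Acts fE (runMoves fMoves) := Classical.choose_spec (exists_acts fMoves fMoves_ok)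

theorem uE_mem : uE ∈ C0 :=
  commute_T uE_acts (by decide +kernel) (by decide +kernel) (by decide +kernel)

theorem fE_mem : fE ∈ C0 :=
  commute_T fE_acts (by decide +kernel) (by decide +kernel) (by decide +kernel)

theorem act_u (k : Fin 256) : act uE k = linTab tabU k :=
  act_eq_linTab uE_acts rfl (by decide +kernel) (by decide +kernel) k

theorem act_f (k : Fin 256) : act fE k = linTab tabF k :=
  act_eq_linTab fE_acts rfl (by decide +kernel) (by decide +kernel) k

theorem linesTo_u : LinesTo uE permU := fun i => by
  rw [show act uE = linTab tabU from funext act_u]
  exact (by decide +kernel : ∀ i, (line i).image (linTab tabU) = line (permU i)) i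

theorem linesTo_f : LinesTo fE permF := fun i => by
  rw [show act fE = linTab tabF from funext act_f]
  exact (by decide +kernel : ∀ i, (line i).image (linTab tabF) = line (permF i)) i

end CfsgLib.CoOneAmalgam.SevenThree
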