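import Cfsg.Agent.CoOneAmalgam.SevenThree

/-!
# The two local subgroups in a group isomorphic to the first Conway group
-/

set_option autoImplicit false

namespace CfsgLib.CoOneAmalgam.SevenThree

open Cfsg

theorem centralizer_equiv_map {G H : Type*} [Group G] [Group H] (e : G ≃* H) (V : Subgroup G) :
    Nonempty (Subgroup.centralizer ((V.map e.toMonoidHom : Subgroup H) : Set H) ≃*
      Subgroup.centralizer (V : Set G)) := by
  refine ⟨((MulEquiv.subgroupMap e _).trans (MulEquiv.subgroupCongr ?_)).symm⟩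
  ext y
  simp only [Subgroup.mem_map, Subgroup.mem_centralizer_iff, MulEquiv.coe_toMonoidHom, Subgroup.coe_map,
    Set.forall_mem_image, SetLike.mem_coe]
  constructor
  · rintro ⟨x, hx, rfl⟩ v hv
    show e v * e x = e x * e v
    rw [← map_mul, ← map_mul, hx v hv]
  · intro hy
    exact ⟨e.symm y, fun v hv => e.injective (by simpa using hy hv), e.apply_symm_apply y⟩

theorem normalizer_equiv_map {G H : Type*} [Group G] [Group H] (e : G ≃* H) (V : Subgroup G) :
    Nonempty (Subgroup.normalizer ((V.map e.toMonoidHom : Subgroup H) : Set H) ≃*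
      Subgroup.normalizer (V : Set G)) := by
  refine ⟨((MulEquiv.subgroupMap e _).trans (MulEquiv.subgroupCongr ?_)).symm⟩
  exact Subgroup.map_equiv_normalizer_eq V e

/-- The two local subgroups in any group isomorphic to the first Conway group. -/
theorem seven_three_of_mulEquiv {G : Type*} [Group G] (e : G ≃* Spor.Co1) :
    (∃ V : Subgroup G, Nat.card V = 7 ∧
      Nonempty (Subgroup.centralizer (V : Set G) ≃*
        Multiplicative (ZMod 7) × alternatingGroup (Fin 7))) ∧
    ∃ W : Subgroup G, Nat.card W = 3 ∧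
      Nonempty (Subgroup.normalizer (W : Set G) ≃*
        Equiv.Perm (Fin 3) × alternatingGroup (Fin 9)) := by
  obtain ⟨⟨V, hV, ⟨eV⟩⟩, W, hW, ⟨eW⟩⟩ := seven_three
  refine ⟨⟨V.map e.symm.toMonoidHom, ?_, ?_⟩, W.map e.symm.toMonoidHom, ?_, ?_⟩
  · exact (Nat.card_congr (MulEquiv.subgroupMap e.symm V).toEquiv).symm.trans hV
  · exact ⟨(centralizer_equiv_map e.symm V).some.trans eV⟩
  · exact (Nat.card_congr (MulEquiv.subgroupMap e.symm W).toEquiv).symm.trans hW
  · exact ⟨(normalizer_equiv_map e.symm W).some.trans eW⟩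

end CfsgLib.CoOneAmalgam.SevenThree
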