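import Cfsg.Agent.CoOneAmalgam.Steps0

/-!
# Validity of rewriting certificates
-/

set_option autoImplicit false

namespace CfsgLib.CoOneAmalgam

open CfsgLib.Leech

theorem stab1_0_ok : stabOK 1 stab1_0 = true := by decide +kernel

theorem stab1_1_ok : stabOK 1 stab1_1 = true := by decide +kernel

theorem stab2_0_ok : stabOK 2 stab2_0 = true := by decide +kernel

theorem stab2_1_ok : stabOK 2 stab2_1 = true := by decide +kernel

theorem stab3_0_ok : stabOK 3 stab3_0 = true := by decide +kernel

theorem stab3_1_ok : stabOK 3 stab3_1 = true := by decide +kernel

theorem stab4_0_ok : stabOK 4 stab4_0 = true := by decide +kernel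

theorem stab4_1_ok : stabOK 4 stab4_1 = true := by decide +kernel

theorem stab5_0_ok : stabOK 5 stab5_0 = true := by decide +kernel

theorem stab5_1_ok : stabOK 5 stab5_1 = true := by decide +kernel

theorem close1_0_ok : closeOK 1 close1_0 = true := by decide +kernel

theorem close1_1_ok : closeOK 1 close1_1 = true := by decide +kernel

theorem close1_2_ok : closeOK 1 close1_2 = true := by decide +kernel

theorem close1_5_ok : closeOK 1 close1_5 = true := by decide +kernel

theorem close1_229_ok : closeOK 1 close1_229 = true := by decide +kernel

theorem close2_0_ok : closeOK 2 close2_0 = true := by decide +kernel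

theorem close2_1_ok : closeOK 2 close2_1 = true := by decide +kernel

theorem close2_2_ok : closeOK 2 close2_2 = true := by decide +kernel

end CfsgLib.CoOneAmalgam
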