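import Cfsg.Agent.CoOneSection.Suz
import Cfsg.Agent.CoOneSection.Omega
import Cfsg.Agent.Components.Basic
import Cfsg.Prelude.Def_Spor_Suz
import Cfsg.Prelude.Def_CaseTheorems
import Cfsg.Prelude.Def_Local
import Cfsg.Prelude.Def_Transfer

/-!
# Elements of order three of `Co1` with commutator `Q8` on the extraspecial subgroup

Such a subgroup `X` of the centralizer of `zOne` is conjugate to the one defining the Suzuki section: on
`V = QOne/⟨z⟩` a generator is trivial on the perpendicular of an elliptic plane, the planes form one orbit,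
and Sylow's theorem finishes. So the centralizer of `X` modulo `X` is that section.
-/

set_option autoImplicit false
set_option linter.style.haveILetI false
set_option synthInstance.maxSize 4000
set_option maxHeartbeats 1000000

namespace CfsgLib.CoOneAmalgam.SuzThree

open Cfsg CfsgLib.Mathieu CfsgLib.Leech CfsgLib.CoOneInv CfsgLib.CoOneSection CfsgLib.Spinor
  CfsgLib.StdForms CfsgLib.Transpositions
open scoped Matrix commutatorElement

/-- The polar form, computably. -/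
def pol (u v : I8 → ZMod 2) : ZMod 2 := QuadraticMap.polar (Cfsg.quadFormPlus 4 (ZMod 2)) u v

theorem polar_eq (u v : I8 → ZMod 2) : QuadraticMap.polar (⇑Q8) u v = pol u v := by
  simp only [pol, QuadraticMap.polar, q8_apply]

theorem pol_comm (u v : I8 → ZMod 2) : pol u v = pol v u := QuadraticMap.polar_comm _ u v

theorem pol_add_left (u v w : I8 → ZMod 2) : pol (u + v) w = pol u w + pol v w := by
  simp only [← polar_eq, QuadraticMap.polar_add_left]

theorem pol_add_right (u v w : I8 → ZMod 2) : pol u (v + w) = pol u v + pol u w := by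
  simp only [← polar_eq, QuadraticMap.polar_add_right]

theorem pol_smul_right (c : ZMod 2) (u v : I8 → ZMod 2) : pol u (c • v) = c * pol u v := by
  simp only [← polar_eq, QuadraticMap.polar_smul_right, smul_eq_mul]

theorem pol_self (u : I8 → ZMod 2) : pol u u = 0 := by rw [← polar_eq, polar_self_two]

theorem pol_mat (σ : ↥(Cfsg.isometryGroup (ZMod 2) ⇑Q8)) (u v : I8 → ZMod 2) :
    pol (mat Q8 σ *ᵥ u) (mat Q8 σ *ᵥ v) = pol u v := by
  simp only [← polar_eq, QuadraticMap.polar, ← Matrix.mulVec_add, quad_mulVec]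

theorem add_self' (u : I8 → ZMod 2) : u + u = 0 := ZModModule.add_self u

/-! ### The planes form one orbit -/

theorem exists_tv_move {a b : I8 → ZMod 2} (ha : Q8 a = 1) (hb : Q8 b = 1) (hab : pol a b = 1) :
    ∃ τ : ↥(Cfsg.isometryGroup (ZMod 2) ⇑Q8), mat Q8 τ *ᵥ a = b ∧
      ∀ w, pol a w = 1 → pol b w = 1 → mat Q8 τ *ᵥ w = w := by
  have hq : Q8 (a + b) = 1 := quad_add_two Q8 ha hb (by rw [polar_eq]; exact hab)
  refine ⟨tv Q8 (a + b) hq, ?_, fun w h1 h2 => ?_⟩
  · rw [tv_apply, polar_eq, pol_add_left, pol_self, pol_comm b a, hab, zero_add, one_smul, ← add_assoc,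
      add_self', zero_add]
  · rw [tv_apply, polar_eq, pol_add_left, h1, h2, show (1 : ZMod 2) + 1 = 0 by decide, zero_smul,
      add_zero]

/-- The first vector of the plane moved by the element. -/
def uA : I8 → ZMod 2 := codeMat ixI (ixW 2 2) CoOneSection.Suz.pCols *ᵥ Sum.elim 0 ![1, 0]

/-- The second vector of the plane moved by the element. -/
def vA : I8 → ZMod 2 := codeMat ixI (ixW 2 2) CoOneSection.Suz.pCols *ᵥ Sum.elim 0 ![0, 1]

/-- A vector orthogonal to both. -/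
def zA : I8 → ZMod 2 := codeMat ixI (ixW 2 2) CoOneSection.Suz.pCols *ᵥ Sum.elim (Pi.single (.inr 0) 1) 0

theorem plane_spec : (Cfsg.quadFormPlus 4 (ZMod 2) uA = 1 ∧ Cfsg.quadFormPlus 4 (ZMod 2) vA = 1 ∧
    pol uA vA = 1) ∧ Cfsg.quadFormPlus 4 (ZMod 2) zA = 1 ∧ pol zA uA = 0 ∧ pol zA vA = 0 := by
  decide +kernel

theorem exists_between : ∀ u : I8 → ZMod 2, Cfsg.quadFormPlus 4 (ZMod 2) u = 1 → pol u uA = 0 →
    ∃ t, Cfsg.quadFormPlus 4 (ZMod 2) t = 1 ∧ pol u t = 1 ∧ pol t uA = 1 := by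
  decide +kernel

theorem exists_between_two : ∀ v : I8 → ZMod 2, Cfsg.quadFormPlus 4 (ZMod 2) v = 1 → pol v uA = 1 →
    pol v vA = 0 → ∃ t, Cfsg.quadFormPlus 4 (ZMod 2) t = 1 ∧ pol t uA = 1 ∧ pol v t = 1 ∧ pol t vA = 1 := by
  decide +kernel

theorem q8' {v : I8 → ZMod 2} (h : Cfsg.quadFormPlus 4 (ZMod 2) v = 1) : Q8 v = 1 := by rw [q8_apply, h]

/-- Some isometry in the image carries the plane to the one of the element. -/
theorem exists_chiMat_plane {u v : I8 → ZMod 2} (hu : Q8 u = 1) (hv : Q8 v = 1) (huv : pol u v = 1) :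
    ∃ c : C0, chiMat c *ᵥ u = uA ∧ chiMat c *ᵥ v = vA := by
  obtain ⟨⟨ha, hb, hab⟩, hz, hza, hzb⟩ := plane_spec
  obtain ⟨σ, hσ⟩ : ∃ σ : ↥(Cfsg.isometryGroup (ZMod 2) ⇑Q8), mat Q8 σ *ᵥ u = uA := by
    rcases zmod_two_cases (pol u uA) with h | h
    · obtain ⟨t, ht, h1, h2⟩ := exists_between u (by rw [← q8_apply, hu]) h
      obtain ⟨τ, hτ, -⟩ := exists_tv_move hu (q8' ht) h1
      obtain ⟨τ', hτ', -⟩ := exists_tv_move (q8' ht) (q8' ha) h2
      exact ⟨τ' * τ, by rw [mat_mul, ← Matrix.mulVec_mulVec, hτ, hτ']⟩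
    · obtain ⟨τ, hτ, -⟩ := exists_tv_move hu (q8' ha) h
      exact ⟨τ, hτ⟩
  obtain ⟨w, hw⟩ : ∃ w, w = mat Q8 σ *ᵥ v := ⟨_, rfl⟩
  have hqw : Q8 w = 1 := by rw [hw, quad_mulVec, hv]
  have hwa : pol w uA = 1 := by rw [hw, ← hσ, pol_mat, pol_comm, huv]
  obtain ⟨ρ, hρa, hρ⟩ : ∃ ρ : ↥(Cfsg.isometryGroup (ZMod 2) ⇑Q8),
      mat Q8 ρ *ᵥ uA = uA ∧ mat Q8 ρ *ᵥ w = vA := by
    rcases zmod_two_cases (pol w vA) with h | h
    · obtain ⟨t, ht, ht1, ht2, ht3⟩ := exists_between_two w (by rw [← q8_apply, hqw]) hwa h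
      obtain ⟨τ, hτ, hf⟩ := exists_tv_move hqw (q8' ht) ht2
      obtain ⟨τ', hτ', hf'⟩ := exists_tv_move (q8' ht) (q8' hb) ht3
      refine ⟨τ' * τ, ?_, by rw [mat_mul, ← Matrix.mulVec_mulVec, hτ, hτ']⟩
      rw [mat_mul, ← Matrix.mulVec_mulVec, hf uA hwa ht1, hf' uA ht1 (by rw [pol_comm, hab])]
    · obtain ⟨τ, hτ, hf⟩ := exists_tv_move hqw (q8' hb) h
      exact ⟨τ, hf uA hwa (by rw [pol_comm, hab]), hτ⟩
  obtain ⟨μ, hμ, h1, h2⟩ : ∃ μ, μ ∈ Cfsg.Omega (ZMod 2) ⇑Q8 ∧ mat Q8 μ *ᵥ u = uA ∧ mat Q8 μ *ᵥ v = vA := by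
    have h1 : mat Q8 (ρ * σ) *ᵥ u = uA := by rw [mat_mul, ← Matrix.mulVec_mulVec, hσ, hρa]
    have h2 : mat Q8 (ρ * σ) *ᵥ v = vA := by rw [mat_mul, ← Matrix.mulVec_mulVec, ← hw, hρ]
    by_cases h : ρ * σ ∈ Cfsg.Omega (ZMod 2) ⇑Q8
    · exact ⟨_, h, h1, h2⟩
    · refine ⟨tv Q8 zA (q8' hz) * (ρ * σ), (Subgroup.mul_mem_iff_of_index_two
        (CfsgLib.Forms.index_omega_charTwo (plusQ_nondegenerate 4) (by simp) (Or.inr (by simp)))).2
        (iff_of_false (SecData.tv_not_mem _ _) h), ?_, ?_⟩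
      · rw [mat_mul, ← Matrix.mulVec_mulVec, h1, tv_apply, polar_eq, hza, zero_smul, add_zero]
      · rw [mat_mul, ← Matrix.mulVec_mulVec, h2, tv_apply, polar_eq, hzb, zero_smul, add_zero]
  rw [← range_chiQ] at hμ
  obtain ⟨c, rfl⟩ := hμ
  exact ⟨c, by rw [← chiQ_mat, h1], by rw [← chiQ_mat, h2]⟩

/-! ### The action of the elements -/

/-- The map of order three with the given plane. -/
def threeFun (u v x : I8 → ZMod 2) : I8 → ZMod 2 := x + pol v x • (u + v) + pol u x • u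

/-- A map of order three with elliptic plane of displacements is determined by the plane. -/
theorem exists_threeFun {g : C0} (hg : g ^ 3 = 1) {u v : I8 → ZMod 2}
    (hu : ∃ x, u = x + chiMat g *ᵥ x) (hv : ∃ x, v = x + chiMat g *ᵥ x) (huv : pol u v = 1)
    (hN : ∀ x, x + chiMat g *ᵥ x ∈ ({0, u, v, u + v} : Set (I8 → ZMod 2))) :
    ∃ p q, Q8 p = 1 ∧ Q8 q = 1 ∧ pol p q = 1 ∧ ∀ x, chiMat g *ᵥ x = threeFun p q x := by
  obtain ⟨h, hh⟩ : ∃ h : Matrix I8 I8 (ZMod 2), h = chiMat g := ⟨_, rfl⟩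
  rw [← hh] at hu hv hN ⊢
  have hpol : ∀ x y, pol (h *ᵥ x) (h *ᵥ y) = pol x y := fun x y => by
    rw [hh, ← chiQ_mat]; exact pol_mat _ x y
  have hq : ∀ x, Q8 (h *ᵥ x) = Q8 x := fun x => by rw [hh, quad_chiMat]
  have h3 : ∀ x, h *ᵥ (h *ᵥ (h *ᵥ x)) = x := fun x => by
    rw [Matrix.mulVec_mulVec, Matrix.mulVec_mulVec, hh, ← chiMat_mul, ← chiMat_mul, mul_assoc, ← sq,
      ← pow_succ', hg, chiMat_one, Matrix.one_mulVec]
  obtain ⟨x, rfl⟩ := hu
  obtain ⟨u, hu⟩ : ∃ w, w = x + h *ᵥ x := ⟨_, rfl⟩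
  rw [← hu] at huv hN
  have hne : u ≠ 0 := fun e => by
    subst e
    rw [← polar_eq, QuadraticMap.polar_zero_left] at huv
    exact zero_ne_one huv
  have hmem : h *ᵥ u ∈ ({0, u, v, u + v} : Set (I8 → ZMod 2)) := by
    have := hN (h *ᵥ x)
    rwa [← Matrix.mulVec_add, ← hu] at this
  have hsum : h *ᵥ (h *ᵥ u) = u + h *ᵥ u := by
    rw [hu, Matrix.mulVec_add, Matrix.mulVec_add, h3]
    rw [show x + h *ᵥ x + (h *ᵥ x + h *ᵥ (h *ᵥ x)) = x + (h *ᵥ x + h *ᵥ x) + h *ᵥ (h *ᵥ x) by abel,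
      add_self', add_zero, add_comm]
  have hhu : pol u (h *ᵥ u) = 1 ∧ (∀ y, y ∈ ({0, u, v, u + v} : Set (I8 → ZMod 2)) →
      y ∈ ({0, u, h *ᵥ u, u + h *ᵥ u} : Set (I8 → ZMod 2))) := by
    simp only [Set.mem_insert_iff, Set.mem_singleton_iff] at hmem ⊢
    rcases hmem with e | e | e | e
    · refine absurd ?_ hne
      rw [← h3 u, e, Matrix.mulVec_zero, Matrix.mulVec_zero]
    · refine absurd ?_ hne
      rw [e, e, add_self'] at hsum
      exact hsum
    · rw [e]; exact ⟨huv, fun y hy => hy⟩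
    · rw [e]
      refine ⟨by rw [pol_add_right, pol_self, huv, zero_add], fun y hy => ?_⟩
      rw [← add_assoc, add_self', zero_add]
      rcases hy with h | h | h | h <;> simp [h]
  obtain ⟨hp, hsub⟩ := hhu
  have hqs : Q8 u = 1 := by
    have h1 := hq (h *ᵥ u)
    rw [hsum, QuadraticMap.map_add Q8 u (h *ᵥ u), polar_eq, hp, hq] at h1
    have key : ∀ c : ZMod 2, c + c + 1 = c → c = 1 := by decide
    exact key _ h1
  refine ⟨u, h *ᵥ u, hqs, by rw [hq, hqs], hp, fun x => ?_⟩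
  obtain ⟨p, hp'⟩ : ∃ p, p = h *ᵥ u := ⟨_, rfl⟩
  rw [← hp'] at hp hsub hsum ⊢
  have hperp : ∀ y, pol u y = 0 → pol p y = 0 → h *ᵥ y = y := by
    intro y h1 h2
    have e := hsub _ (hN y)
    have e1 : pol p (h *ᵥ y) = 0 := by rw [hp', hpol, h1]
    have e2 : pol (u + p) (h *ᵥ y) = 0 := by rw [← hsum, hpol, h2]
    rw [pol_add_left, e1, add_zero] at e2
    have d1 : pol u (y + h *ᵥ y) = 0 := by rw [pol_add_right, h1, e2, add_zero]
    have d2 : pol p (y + h *ᵥ y) = 0 := by rw [pol_add_right, h2, e1, add_zero]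
    have hz : y + h *ᵥ y = 0 := by
      simp only [Set.mem_insert_iff, Set.mem_singleton_iff] at e
      rcases e with e | e | e | e <;> rw [e] at d1 d2 ⊢
      · rw [pol_comm, hp] at d2; exact absurd d2 one_ne_zero
      · rw [hp] at d1; exact absurd d1 one_ne_zero
      · rw [pol_add_right, pol_self, hp, zero_add] at d1; exact absurd d1 one_ne_zero
    calc h *ᵥ y = y + (y + h *ᵥ y) := by rw [← add_assoc, add_self', zero_add]
      _ = y := by rw [hz, add_zero]
  obtain ⟨y, hy⟩ : ∃ y, y = x + pol p x • u + pol u x • p := ⟨_, rfl⟩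
  have hy1 : pol u y = 0 := by
    rw [hy, pol_add_right, pol_add_right, pol_smul_right, pol_smul_right, pol_self, hp, mul_zero, add_zero,
      mul_one, CharTwo.add_self_eq_zero]
  have hy2 : pol p y = 0 := by
    rw [hy, pol_add_right, pol_add_right, pol_smul_right, pol_smul_right, pol_self, pol_comm p u, hp,
      mul_zero, add_zero, mul_one, CharTwo.add_self_eq_zero]
  have hx : x = y + pol p x • u + pol u x • p := by
    rw [hy, show x + pol p x • u + pol u x • p + pol p x • u + pol u x • p =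
      x + (pol p x • u + pol p x • u) + (pol u x • p + pol u x • p) by abel, add_self', add_self',
      add_zero, add_zero]
  conv_lhs => rw [hx]
  rw [Matrix.mulVec_add, Matrix.mulVec_add, Matrix.mulVec_smul, Matrix.mulVec_smul, hperp y hy1 hy2,
    ← hp', hsum, hy, threeFun, smul_add, smul_add,
    show x + pol p x • u + pol u x • p + pol p x • p + (pol u x • u + pol u x • p) =
      x + (pol p x • u + pol p x • p) + pol u x • u + (pol u x • p + pol u x • p) by abel, add_self',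
    add_zero]

/-- The element of the section. -/
noncomputable abbrev D : SecData 2 2 := CoOneSection.Suz.data

theorem threeFun_basis : ∀ (a : IW 2 → ZMod 2) (b : Fin 2 → ZMod 2),
    codeMat ixI (ixW 2 2) CoOneSection.Suz.pCols *ᵥ
        Sum.elim a (codeMat Fin.val Fin.val CoOneSection.Suz.aCols *ᵥ b) =
      threeFun uA vA (codeMat ixI (ixW 2 2) CoOneSection.Suz.pCols *ᵥ Sum.elim a b) := by
  decide +kernel

theorem chiMat_a (x : I8 → ZMod 2) : chiMat D.a *ᵥ x = threeFun uA vA x := by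
  rw [← D.P_pr x, D.chi_a_P]
  exact threeFun_basis _ _

theorem exists_conj_chi {g : C0} {p q : I8 → ZMod 2} (hp : Q8 p = 1) (hq : Q8 q = 1) (hpq : pol p q = 1)
    (hg : ∀ x, chiMat g *ᵥ x = threeFun p q x) : ∃ c : C0, chiQ (c * g * c⁻¹) = chiQ D.a := by
  obtain ⟨c, hcp, hcq⟩ := exists_chiMat_plane hp hq hpq
  refine ⟨c, ?_⟩
  have e : chiQ c * chiQ g = chiQ D.a * chiQ c := by
    refine mat_ext Q8 (Matrix.ext_iff_mulVec.2 fun x => ?_)
    have hpol : ∀ w, pol w x = pol (chiMat c *ᵥ w) (chiMat c *ᵥ x) := fun w => by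
      rw [← chiQ_mat, pol_mat]
    rw [mat_mul, mat_mul, ← Matrix.mulVec_mulVec, ← Matrix.mulVec_mulVec]
    simp only [chiQ_mat]
    rw [hg, chiMat_a, threeFun, threeFun, hpol p, hpol q]
    simp only [Matrix.mulVec_add, Matrix.mulVec_smul, hcp, hcq]
  rw [map_mul, map_mul, map_inv, e, mul_inv_cancel_right]

/-! ### Conjugacy in the involution centralizer -/

theorem ker_four {k : C0} (hk : chiQ k = 1) : k ^ 4 = 1 := SecData.fixK_or_four hk

theorem exists_conj_a {g : C0} (hg : g ^ 3 = 1) (hga : chiQ g = chiQ D.a) :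
    ∃ p : C0, ∃ n : ℤ, p * g * p⁻¹ = D.a ^ n := by
  haveI := co0_finite
  haveI := Fact.mk Nat.prime_three
  have ha : D.a ^ 3 = 1 := D.pow_a
  have horda : orderOf D.a = 3 := orderOf_eq_prime ha fun e => D.chi_a_ne (by rw [e, map_one])
  have hordg : orderOf g = 3 := orderOf_eq_prime hg fun e => D.chi_a_ne (by rw [← hga, e, map_one])
  obtain ⟨P, hP⟩ : ∃ P, P = (Subgroup.zpowers (chiQ D.a)).comap chiQ := ⟨_, rfl⟩
  let f : P →* ↥(Subgroup.zpowers (chiQ D.a)) :=
    (chiQ.comp P.subtype).codRestrict _ fun x => Subgroup.mem_comap.1 (hP.le x.2)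
  have hf : Function.Surjective f := by
    rintro ⟨y, n, rfl⟩
    exact ⟨⟨D.a ^ n, hP.ge (Subgroup.mem_comap.2 ⟨n, (map_zpow chiQ D.a n).symm⟩)⟩,
      Subtype.ext (map_zpow chiQ D.a n)⟩
  have hcard : ∃ n, Nat.card P = 2 ^ n * 3 := by
    have hk : IsPGroup 2 f.ker := fun x => ⟨2, Subtype.ext (Subtype.ext (by
      have e := congrArg Subtype.val (MonoidHom.mem_ker.1 x.2)
      exact ker_four e))⟩
    obtain ⟨n, hn⟩ := IsPGroup.iff_card.1 hk
    refine ⟨n, ?_⟩
    rw [← f.ker.index_mul_card, Subgroup.index_ker, MonoidHom.range_eq_top.2 hf, Subgroup.card_top, hn,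
      Nat.card_zpowers, orderOf_eq_prime (by rw [← map_pow, ha, map_one]) D.chi_a_ne, mul_comm]
  obtain ⟨n, hn⟩ := hcard
  have hfac : (Nat.card P).factorization 3 = 1 := by
    rw [hn, Nat.factorization_mul (by positivity) (by norm_num), Nat.factorization_pow,
      Nat.Prime.factorization Nat.prime_two, Nat.Prime.factorization Nat.prime_three]
    simp
  have gmem : g ∈ P := hP.ge (Subgroup.mem_comap.2 ⟨1, by rw [hga]; exact zpow_one _⟩)
  have amem : D.a ∈ P := hP.ge (Subgroup.mem_comap.2 (Subgroup.mem_zpowers _))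
  have hS : ∀ x : P, orderOf (x : C0) = 3 →
      Nat.card (Subgroup.zpowers x) = 3 ^ (Nat.card P).factorization 3 := fun x hx => by
    rw [hfac, Nat.card_zpowers, ← Subgroup.orderOf_coe, hx, pow_one]
  obtain ⟨p, hp⟩ := MulAction.exists_smul_eq P (Sylow.ofCard _ (hS ⟨g, gmem⟩ hordg))
    (Sylow.ofCard _ (hS ⟨D.a, amem⟩ horda))
  have hm : p * (⟨g, gmem⟩ : P) * p⁻¹ ∈
      ((p • Sylow.ofCard _ (hS ⟨g, gmem⟩ hordg) : Sylow 3 P) : Subgroup P) := by
    rw [Sylow.coe_subgroup_smul, Sylow.coe_ofCard]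
    exact Subgroup.mem_pointwise_smul_iff_inv_smul_mem.2 (by
      simp [MulAut.smul_def, mul_assoc, Subgroup.mem_zpowers])
  rw [hp, Sylow.coe_ofCard, Subgroup.mem_zpowers_iff] at hm
  obtain ⟨i, hi⟩ := hm
  exact ⟨p, i, by simpa using (congrArg Subtype.val hi).symm⟩

theorem eq_one_of_projCen {k : C0} (hk : projCen k = 1) : (k : Co0) = 1 ∨ (k : Co0) = negCo0 := by
  have h := congrArg Subtype.val hk
  rw [projCen_apply, OneMemClass.coe_one, ← map_one projC] at h
  rcases projC_eq_cases h with e | e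
  · exact Or.inl e.symm
  · right
    have h2 : negCo0 * negCo0 = 1 := by rw [← sq]; exact SecData.center_sq negCo0_mem_center
    calc (k : Co0) = negCo0 * negCo0 * (k : Co0) := by rw [h2, one_mul]
      _ = negCo0 := by rw [mul_assoc, ← e, mul_one]

theorem negC_comm (g : C0) : Commute negC g :=
  Subtype.ext (Subgroup.mem_center_iff.1 negCo0_mem_center (g : Co0)).symm

theorem negC_sq : negC ^ 2 = 1 := Subtype.ext (SecData.center_sq negCo0_mem_center)

/-- An element of order three lifts to one of order three. -/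
theorem exists_lift {x : C1} (hx : x ^ 3 = 1) : ∃ g : C0, projCen g = x ∧ g ^ 3 = 1 := by
  obtain ⟨g, rfl⟩ := projCen_surjective x
  rcases eq_one_of_projCen (k := g ^ 3) (by rw [map_pow, hx]) with e | e
  · exact ⟨g, rfl, Subtype.ext e⟩
  · refine ⟨negC * g, ?_, ?_⟩
    · rw [map_mul]
      refine mul_eq_right.2 (Subtype.ext ?_)
      rw [projCen_apply]
      exact projC_negCo0
    · rw [(negC_comm g).mul_pow, show g ^ 3 = negC from Subtype.ext e, ← pow_succ,
        show 3 + 1 = 2 * 2 from rfl, pow_mul, negC_sq, one_pow]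

theorem gc_lift_comm (g : C0) {k : Co0} (hk : k ∈ fixK) :
    gc (k * ((g : Co0) * k * (g : Co0)⁻¹)⁻¹) = gc k + chiMat g *ᵥ gc k := by
  rw [gc_mul hk (inv_mem (conj_fixK g hk)), gc_inv (conj_fixK g hk), chiMat_gc g hk]

theorem projC_lift_comm (g : C0) {k : Co0} (hk : k ∈ fixK) :
    ∃ q : QOne, projC (k * ((g : Co0) * k * (g : Co0)⁻¹)⁻¹) = ((⁅(q : C1), projCen g⁆ : C1) : Spor.Co1) := by
  refine ⟨⟨projCen ⟨k, fixK_le_C0 hk⟩, ⟨_, hk, rfl⟩⟩, ?_⟩
  rw [commutatorElement_def]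
  simp only [Subgroup.coe_mul, Subgroup.coe_inv, projCen_apply, map_mul, map_inv]
  group

/-- The image on `V` of the commutator with the extraspecial subgroup. -/
theorem image_spec {X : Subgroup C1} {g : C0} (hgX : Subgroup.zpowers (projCen g) = X) (hg : g ^ 3 = 1)
    (hQX : Nat.card ↥⁅QOne, X⁆ = 8) (hna : ¬ IsMulCommutative ↥⁅QOne, X⁆) :
    ∃ u v, (∃ x, u = x + chiMat g *ᵥ x) ∧ (∃ x, v = x + chiMat g *ᵥ x) ∧ pol u v = 1 ∧
      ∀ x, x + chiMat g *ᵥ x ∈ ({0, u, v, u + v} : Set (I8 → ZMod 2)) := by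
  classical
  haveI := co0_finite
  obtain ⟨K, hK⟩ : ∃ K : Subgroup Co0, K = ((⁅QOne, X⁆).map C1.subtype).comap projC ⊓ fixK := ⟨_, rfl⟩
  have hgx : projCen g ∈ X := hgX ▸ Subgroup.mem_zpowers _
  have hcm : ∀ k ∈ fixK, ∀ h : C0, projCen h ∈ X → k * ((h : Co0) * k * (h : Co0)⁻¹)⁻¹ ∈ K := by
    intro k hk h hh
    obtain ⟨q, hq⟩ := projC_lift_comm h hk
    rw [hK]
    exact Subgroup.mem_inf.2 ⟨Subgroup.mem_comap.2 ⟨_, Subgroup.commutator_mem_commutator q.2 hh, hq.symm⟩,
      mul_mem hk (inv_mem (conj_fixK h hk))⟩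
  have hKfix : ∀ k ∈ K, k ∈ fixK := fun k hk => (hK.le hk).2
  -- some two commutators fail to commute
  obtain ⟨u, v, hu, hv, huv⟩ : ∃ u v, (∃ x, u = x + chiMat g *ᵥ x) ∧ (∃ x, v = x + chiMat g *ᵥ x) ∧
      pol u v = 1 := by
    by_contra hcon
    push Not at hcon
    apply hna
    rw [Subgroup.commutator_def]
    refine Subgroup.isMulCommutative_closure fun a ha b hb => ?_
    have hrep : ∀ c ∈ {c | ∃ q ∈ QOne, ∃ y ∈ X, ⁅q, y⁆ = c}, ∃ (k : Co0) (hk : k ∈ fixK),
        projCen ⟨k, fixK_le_C0 hk⟩ = c ∧ ∃ x, gc k = x + chiMat g *ᵥ x := by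
      rintro c ⟨_, ⟨k, hk, rfl⟩, y, hy, rfl⟩
      obtain ⟨i, -, rfl⟩ := Finset.mem_image.1
        (mem_zpowers_iff_mem_range_orderOf.1 (hgX.ge hy))
      refine ⟨(k : Co0) * (((g ^ i : C0) : Co0) * k * ((g ^ i : C0) : Co0)⁻¹)⁻¹,
        mul_mem hk (inv_mem (conj_fixK _ hk)), ?_, ?_⟩
      · refine Subtype.ext ?_
        rw [commutatorElement_def, ← map_pow]
        simp only [Subgroup.coe_mul, Subgroup.coe_inv, projCen_apply, map_mul, map_inv]
        group
      · rw [gc_lift_comm (g ^ i) (k := (k : Co0)) (show (k : Co0) ∈ fixK from hk), SecData.coe_Dc_pow]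
        have hsq : ∀ y, chiMat g *ᵥ (chiMat g *ᵥ y) = chiMat g ^ 2 *ᵥ y := fun y => by
          rw [sq, Matrix.mulVec_mulVec]
        obtain ⟨w, hw⟩ : ∃ w, w = gc (k : Co0) := ⟨_, rfl⟩
        rw [← hw]
        have hi : i % 3 = 0 ∨ i % 3 = 1 ∨ i % 3 = 2 := by omega
        have hpow : chiMat g ^ i = chiMat g ^ (i % 3) := by
          conv_lhs => rw [← Nat.div_add_mod i 3]
          rw [pow_add, pow_mul, ← SecData.coe_Dc_pow g 3, hg, chiMat_one, one_pow, one_mul]
        rw [hpow]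
        rcases hi with e | e | e <;> rw [e]
        · exact ⟨0, by rw [pow_zero, Matrix.one_mulVec, add_self', Matrix.mulVec_zero, add_zero]⟩
        · exact ⟨w, by rw [pow_one]⟩
        · refine ⟨w + chiMat g *ᵥ w, ?_⟩
          rw [Matrix.mulVec_add, hsq, show w + chiMat g *ᵥ w + (chiMat g *ᵥ w + chiMat g ^ 2 *ᵥ w) =
            w + (chiMat g *ᵥ w + chiMat g *ᵥ w) + chiMat g ^ 2 *ᵥ w by abel, add_self', add_zero]
    obtain ⟨k, hk, rfl, hx⟩ := hrep a ha
    obtain ⟨l, hl, rfl, hy⟩ := hrep b hb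
    have hp : pol (gc k) (gc l) = 0 :=
      (zmod_two_cases _).resolve_right (hcon _ _ hx hy)
    rw [← map_mul, ← map_mul]
    exact congrArg projCen (Subtype.ext (((polar_gc hk hl).2 (by rw [polar_eq, hp])).eq))
  refine ⟨u, v, hu, hv, huv, ?_⟩
  have hcardK : Nat.card K ≤ 8 := by
    let j : K → ↥⁅QOne, X⁆ := fun k => ⟨projCen ⟨k, fixK_le_C0 (hKfix k k.2)⟩, by
      obtain ⟨c, hc, e⟩ := Subgroup.mem_comap.1 (hK.le k.2).1
      rwa [← show c = projCen ⟨k, fixK_le_C0 (hKfix k k.2)⟩ from Subtype.ext (by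
        rw [projCen_apply]; exact e)]⟩
    rw [← hQX]
    refine Nat.card_le_card_of_injective j fun a b e => Subtype.ext ?_
    exact fixK_eq_of_projC (hKfix a a.2) (hKfix b b.2)
      (congrArg (fun c : ↥⁅QOne, X⁆ => ((c : C1) : Spor.Co1)) e)
  let φ : K →* Multiplicative (I8 → ZMod 2) :=
    { toFun := fun k => Multiplicative.ofAdd (gc (k : Co0))
      map_one' := by rw [OneMemClass.coe_one, gc_one, ofAdd_zero]
      map_mul' := fun a b => by rw [Subgroup.coe_mul, gc_mul (hKfix a a.2) (hKfix b b.2), ofAdd_add] }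
  have himg : ∀ x, x + chiMat g *ᵥ x ∈ Multiplicative.toAdd '' (φ.range : Set _) := fun x => by
    obtain ⟨k, hk, rfl⟩ := exists_gc x
    exact ⟨_, ⟨⟨_, hcm k hk g hgx⟩, rfl⟩, gc_lift_comm g hk⟩
  have hw : wElt ∈ K := by
    obtain ⟨x, rfl⟩ := hu
    obtain ⟨y, rfl⟩ := hv
    obtain ⟨k, hk, rfl⟩ := exists_gc x
    obtain ⟨l, hl, rfl⟩ := exists_gc y
    have hm := hcm k hk g hgx
    have hm' := hcm l hl g hgx
    rcases commute_or_mul_w (hKfix _ hm) (hKfix _ hm') with c | c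
    · have h0 := (polar_gc (hKfix _ hm) (hKfix _ hm')).1 c
      rw [gc_lift_comm g hk, gc_lift_comm g hl, polar_eq, huv] at h0
      exact absurd h0 one_ne_zero
    · have := mul_mem (inv_mem (mul_mem hm' hm)) (mul_mem hm hm')
      rwa [c, inv_mul_cancel_left] at this
  have hker : 2 ≤ Nat.card φ.ker := by
    refine Finite.one_lt_card_iff_nontrivial.2 ⟨1, ⟨⟨wElt, hw⟩, ?_⟩, fun e => wElt_ne_one ?_⟩
    · show Multiplicative.ofAdd (gc wElt) = 1
      rw [gc_wElt, ofAdd_zero]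
    · exact (congrArg (fun y : φ.ker => ((y : K) : Co0)) e).symm
  have hran : Nat.card φ.range ≤ 4 := by
    have h := φ.ker.index_mul_card
    rw [Subgroup.index_ker] at h
    have : Nat.card φ.range * 2 ≤ 8 :=
      le_trans (Nat.mul_le_mul_left _ hker) (h.le.trans hcardK)
    omega
  intro x
  by_contra hx
  have hS : ({0, u, v, u + v, x + chiMat g *ᵥ x} : Set (I8 → ZMod 2)) ⊆
      Multiplicative.toAdd '' (φ.range : Set _) := by
    obtain ⟨a, rfl⟩ := hu
    obtain ⟨b, rfl⟩ := hv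
    have h0 := himg 0
    rw [Matrix.mulVec_zero, add_zero] at h0
    have hab : a + chiMat g *ᵥ a + (b + chiMat g *ᵥ b) = a + b + chiMat g *ᵥ (a + b) := by
      rw [Matrix.mulVec_add]; abel
    simp only [Set.insert_subset_iff, Set.singleton_subset_iff]
    exact ⟨h0, himg a, himg b, hab ▸ himg (a + b), himg x⟩
  have hle := Set.ncard_le_ncard hS (Set.toFinite _)
  rw [Set.ncard_image_of_injective _ Multiplicative.toAdd.injective] at hle
  have hr2 : (φ.range : Set (Multiplicative (I8 → ZMod 2))).ncard ≤ 4 := by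
    rw [← Nat.card_coe_set_eq]
    exact hran
  simp only [Set.mem_insert_iff, Set.mem_singleton_iff, not_or] at hx
  obtain ⟨hx0, hx1, hx2, hx3⟩ := hx
  have hu0 : u ≠ 0 := fun e => by
    rw [e, ← polar_eq, QuadraticMap.polar_zero_left] at huv; exact zero_ne_one huv
  have hv0 : v ≠ 0 := fun e => by
    rw [e, ← polar_eq, QuadraticMap.polar_zero_right] at huv; exact zero_ne_one huv
  have huv0 : u ≠ v := fun e => by rw [e, pol_self] at huv; exact zero_ne_one huv
  have hs0 : u + v ≠ 0 := fun e => huv0 (by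
    calc u = u + v + v := by rw [add_assoc, add_self', add_zero]
      _ = v := by rw [e, zero_add])
  rw [Set.ncard_insert_of_notMem (by simp [hu0.symm, hv0.symm, hs0.symm, Ne.symm hx0]),
    Set.ncard_insert_of_notMem (by simp [huv0, hv0, Ne.symm hx1]),
    Set.ncard_insert_of_notMem (by simp [hu0, Ne.symm hx2]), Set.ncard_pair (Ne.symm hx3)] at hle
  omega

/-- The subgroup of the section. -/
noncomputable def aC : C1 := projCen D.a

theorem exists_conj {X : Subgroup C1} (hX : Nat.card X = 3) (hQX : Nat.card ↥⁅QOne, X⁆ = 8)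
    (hna : ¬ IsMulCommutative ↥⁅QOne, X⁆) : ∃ c : C1, X = (Subgroup.zpowers aC).map (MulAut.conj c).toMonoidHom := by
  haveI := co0_finite
  haveI : Finite C1 := Finite.of_surjective _ projCen_surjective
  haveI := Fact.mk Nat.prime_three
  haveI : Nontrivial X := Finite.one_lt_card_iff_nontrivial.1 (by omega)
  obtain ⟨x, hx⟩ := exists_ne (1 : X)
  have hxX : Subgroup.zpowers (x : C1) = X := Subgroup.eq_of_le_of_card_ge
    ((Subgroup.zpowers_le).2 x.2) (by
      rw [hX, Nat.card_zpowers, Subgroup.orderOf_coe,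
        orderOf_eq_prime (p := 3) (by rw [← hX]; exact pow_card_eq_one') hx])
  obtain ⟨g, hgx, hg⟩ := exists_lift (x := (x : C1))
    (by rw [← hX, ← SubmonoidClass.coe_pow, pow_card_eq_one', OneMemClass.coe_one])
  rw [← hgx] at hxX
  obtain ⟨u, v, hu, hv, huv, hN⟩ := image_spec hxX hg hQX hna
  obtain ⟨p, q, hp, hq, hpq, hf⟩ := exists_threeFun hg hu hv huv hN
  obtain ⟨c, hc⟩ := exists_conj_chi hp hq hpq hf
  obtain ⟨d, n, hd⟩ := exists_conj_a (g := c * g * c⁻¹) (by rw [conj_pow, hg, mul_one, mul_inv_cancel]) hc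
  refine ⟨(projCen (d * c))⁻¹, Subgroup.eq_of_le_of_card_ge ?_ ?_⟩
  · rw [← hxX, Subgroup.zpowers_le]
    refine ⟨aC ^ n, Subgroup.zpow_mem_zpowers _ _, ?_⟩
    rw [MulEquiv.coe_toMonoidHom, MulAut.conj_apply, aC, ← map_zpow, ← hd, inv_inv, ← map_inv, ← map_mul,
      ← map_mul]
    congr 1
    group
  · rw [Subgroup.card_map_of_injective (MulAut.conj _).injective, hX, Nat.card_zpowers]
    refine Nat.le_of_dvd (by norm_num) (orderOf_dvd_of_pow_eq_one ?_)
    rw [aC, ← map_pow, show D.a ^ 3 = 1 from D.pow_a, map_one]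

/-! ### The centralizer of the element of the section -/

/-- The element in the group. -/
noncomputable def aOneThree : Spor.Co1 := projC (D.a : Co0)

/-- Its centralizer. -/
noncomputable abbrev Ca : Subgroup Spor.Co1 :=
  Subgroup.centralizer ((Subgroup.zpowers aOneThree : Subgroup Spor.Co1) : Set Spor.Co1)

theorem a_pow_three : (D.a : Co0) ^ 3 = 1 := D.a_pow

theorem mem_Ca {y : Spor.Co1} (hy : y * aOneThree = aOneThree * y) : y ∈ Ca :=
  Subgroup.mem_centralizer_iff.2 fun _ hx => by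
    obtain ⟨i, rfl⟩ := hx
    exact ((show Commute y aOneThree from hy).zpow_right i).eq.symm

theorem mem_Ca_proj {t : Co0} (ht : t ∈ D.T) : projC t ∈ Ca :=
  mem_Ca (by rw [aOneThree, ← map_mul, ← map_mul, (D.mem_T.1 ht).eq])

theorem exists_T {y : Spor.Co1} (hy : y ∈ Ca) : ∃ t, t ∈ D.T ∧ projC t = y := by
  obtain ⟨t, rfl⟩ := QuotientGroup.mk'_surjective (Subgroup.center Co0) y
  have e : projC ((D.a : Co0) * t) = projC (t * (D.a : Co0)) := by
    rw [map_mul, map_mul]
    exact Subgroup.mem_centralizer_iff.1 hy _ (Subgroup.mem_zpowers _)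
  rcases projC_eq_cases e with h | h
  · exact ⟨t, D.mem_T.2 h, rfl⟩
  · exfalso
    have hz := Subgroup.mem_center_iff.1 negCo0_mem_center
    have e' : t * (D.a : Co0) * t⁻¹ = negCo0 * (D.a : Co0) := by rw [h]; group
    have h3 := congrArg (· ^ 3) e'
    simp only [conj_pow, a_pow_three, mul_one, mul_inv_cancel] at h3
    rw [Commute.mul_pow (hz (D.a : Co0)).symm, a_pow_three, mul_one, pow_succ,
      SecData.center_sq negCo0_mem_center, one_mul] at h3
    exact negCo0_not_mem (h3 ▸ one_mem _)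

/-- The projection. -/
noncomputable def fT : D.T →* Ca :=
  (projC.comp D.T.subtype).codRestrict _ fun t => mem_Ca_proj t.2

theorem fT_surjective : Function.Surjective fT := fun y => by
  obtain ⟨t, ht, e⟩ := exists_T y.2
  exact ⟨⟨t, ht⟩, Subtype.ext e⟩

theorem fT_mem {t : D.T} :
    fT t ∈ (Subgroup.zpowers aOneThree).subgroupOf Ca ↔ D.proj t = 1 := by
  rw [D.proj_eq_one, D.mem_sup, Subgroup.mem_subgroupOf]
  constructor
  · intro h
    obtain ⟨i, hi⟩ := Subgroup.mem_zpowers_iff.1 h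
    have e : projC ((D.a : Co0) ^ i) = projC (t : Co0) := by rw [map_zpow]; exact hi
    refine ⟨_, Subgroup.zpow_mem_zpowers _ i, ?_⟩
    rcases projC_eq_cases e with r | r
    · exact ⟨1, one_mem _, by rw [mul_one, r]⟩
    · exact ⟨negCo0, negCo0_mem_center, by rw [Subgroup.mem_center_iff.1 negCo0_mem_center, r]⟩
  · rintro ⟨y, ⟨i, rfl⟩, c, hc, e⟩
    refine ⟨i, ?_⟩
    show projC (D.a : Co0) ^ i = projC (t : Co0)
    rw [← e, ← map_zpow, map_mul, show projC c = 1 from (QuotientGroup.eq_one_iff c).2 hc, mul_one]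

/-- The map onto the section. -/
theorem exists_to_S : ∃ f : Ca →* D.S, Function.Surjective f ∧
    f.ker = (Subgroup.zpowers aOneThree).subgroupOf Ca := by
  have hk : fT.ker ≤ D.proj.ker := fun t ht => by
    rw [MonoidHom.mem_ker] at ht ⊢
    exact fT_mem.1 (by rw [ht]; exact one_mem _)
  let f : Ca →* D.S := fT.liftOfSurjective fT_surjective ⟨D.proj, hk⟩
  have hf : ∀ t, f (fT t) = D.proj t := fun t =>
    fT.liftOfRightInverse_comp_apply _ (Function.rightInverse_surjInv fT_surjective) ⟨D.proj, hk⟩ t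
  refine ⟨f, fun s => ?_, ?_⟩
  · obtain ⟨t, rfl⟩ := QuotientGroup.mk'_surjective D.M s
    exact ⟨fT t, hf t⟩
  · ext y
    obtain ⟨t, rfl⟩ := fT_surjective y
    rw [MonoidHom.mem_ker, hf, fT_mem]

/-- Moves for an element commuting with the element of order three. -/
def gW : List Mv := [
    .xi,
    .mono 26439313011207574414176807923793745151628383399893271811 0,
    .xi,
    .mono 566073426779046459040877649791461066728553822781039575296 2702848]

/-- Moves for its inverse. -/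
def gWi : List Mv := [
    .mono 566073426779046459040877649791461066728553822781039575296 2702848,
    .xi,
    .mono 123657007619777086781338687674084155559334981573214934786 0,
    .xi]

/-- Moves for a second one. -/
def hW : List Mv := [
    .mono 540402993748394415831309290218104926330483324908569562131 4800613]

/-- Moves for its inverse. -/
def hWi : List Mv := [
    .mono 222888685064782303569191816774891013689464964829153725706 560668]

/-- Moves for their commutator, shortened. -/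
def cW : List Mv := [
    .mono 222888685064782303569191816774891013689464964829153725706 2207772,
    .xi,
    .mono 123657007619777086781338687674084155559334981573214934786 0,
    .xi,
    .mono 540402993748394415831309290218104926330483324908569562131 4800613,
    .xi,
    .mono 26439313011207574414176807923793745151628383399893271811 0,
    .xi,
    .mono 566073426779046459040877649791461066728553822781039575296 2702848]

theorem cert : ((gW.all Mv.ok && gWi.all Mv.ok && hW.all Mv.ok && hWi.all Mv.ok && cW.all Mv.ok) &&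
    sameMoves (gWi ++ gW) [] && sameMoves (hWi ++ hW) [] &&
    sameMoves (CoOneSection.Suz.aMoves ++ gW) (gW ++ CoOneSection.Suz.aMoves) &&
    sameMoves (CoOneSection.Suz.aMoves ++ hW) (hW ++ CoOneSection.Suz.aMoves) &&
    sameMoves (hWi ++ gWi ++ hW ++ gW) cW &&
    sameMoves (List.replicate 7 cW).flatten (CoOneSection.Suz.aMoves ++ CoOneSection.Suz.aMoves)) = true := by
  decide +kernel

theorem hasMoves_a : HasMoves (D.a : Co0) CoOneSection.Suz.aMoves :=
  (exists_elt (ms := CoOneSection.Suz.aMoves) (by decide +kernel)).choose_spec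

/-- The element lies in the commutator subgroup of its centralizer. -/
theorem a_mem_commutator (h : aOneThree ∈ Ca) : (⟨aOneThree, h⟩ : Ca) ∈ commutator Ca := by
  have hc := cert
  simp only [Bool.and_eq_true] at hc
  obtain ⟨⟨⟨⟨⟨⟨⟨⟨⟨⟨o1, o2⟩, o3⟩, o4⟩, o5⟩, ei⟩, ej⟩, cg⟩, ch⟩, ec⟩, e7⟩ := hc
  obtain ⟨g, hg⟩ := exists_hasMoves o1
  obtain ⟨g', hg'⟩ := exists_hasMoves o2
  obtain ⟨k, hk⟩ := exists_hasMoves o3
  obtain ⟨k', hk'⟩ := exists_hasMoves o4
  have eg : g' = g⁻¹ := eq_inv_of_mul_eq_one_right ((hg.mul hg').eq HasMoves.one ei)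
  have ek : k' = k⁻¹ := eq_inv_of_mul_eq_one_right ((hk.mul hk').eq HasMoves.one ej)
  have gT : g ∈ D.T := D.mem_T.2 (hg.commute hasMoves_a cg)
  have kT : k ∈ D.T := D.mem_T.2 (hk.commute hasMoves_a ch)
  obtain ⟨u, hu⟩ := exists_hasMoves o5
  have hcM : HasMoves (g * k * g⁻¹ * k⁻¹) cW := by
    rw [← eg, ← ek]
    have h := ((hg.mul hk).mul hg').mul hk'
    simp only [← List.append_assoc] at h
    rw [h.eq hu ec]
    exact hu
  have e := (hcM.pow 7).eq (hasMoves_a.mul hasMoves_a) e7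
  have hm : (fT ⟨g, gT⟩ * fT ⟨k, kT⟩ * (fT ⟨g, gT⟩)⁻¹ * (fT ⟨k, kT⟩)⁻¹) ^ 7 ∈ commutator Ca :=
    pow_mem (by
      rw [← commutatorElement_def, commutator_def]
      exact Subgroup.commutator_mem_commutator (Subgroup.mem_top _) (Subgroup.mem_top _)) 7
  have e2 : (⟨aOneThree, h⟩ : Ca) =
      ((fT ⟨g, gT⟩ * fT ⟨k, kT⟩ * (fT ⟨g, gT⟩)⁻¹ * (fT ⟨k, kT⟩)⁻¹) ^ 7) ^ 2 := Subtype.ext (by
    show projC (D.a : Co0) = ((projC g * projC k * (projC g)⁻¹ * (projC k)⁻¹) ^ 7) ^ 2
    rw [← map_inv, ← map_inv, ← map_mul, ← map_mul, ← map_mul, ← map_pow, ← map_pow, e, ← sq,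
      ← pow_mul, pow_succ (D.a : Co0) 3, a_pow_three, one_mul])
  rw [e2]
  exact pow_mem hm 2

theorem isQuasisimple_Ca (hS : IsSimpleGroup D.S) (hna : ¬ IsMulCommutative D.S) :
    Cfsg.IsQuasisimple Ca := by
  have := hS
  obtain ⟨f, hf, hker⟩ := exists_to_S
  have ha : aOneThree ∈ Ca := mem_Ca rfl
  have hperf : commutator Ca = ⊤ := by
    have hn : (commutator Ca).map f = ⊤ := by
      rw [commutator_def, Subgroup.map_commutator, Subgroup.map_top_of_surjective f hf, ← commutator_def]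
      refine (IsSimpleGroup.eq_bot_or_eq_top_of_normal _ inferInstance).resolve_left fun e => hna ?_
      exact ⟨⟨fun a b => commutatorElement_eq_one_iff_mul_comm.1 (Subgroup.mem_bot.1 (e ▸ (by
        rw [commutator_def]
        exact Subgroup.commutator_mem_commutator (Subgroup.mem_top a) (Subgroup.mem_top b))))⟩⟩
    refine eq_top_iff.2 fun y _ => ?_
    obtain ⟨w, hw, e⟩ : f y ∈ (commutator Ca).map f := hn ▸ Subgroup.mem_top _
    have hk : w⁻¹ * y ∈ f.ker := by rw [MonoidHom.mem_ker, map_mul, map_inv, e, inv_mul_cancel]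
    rw [hker, Subgroup.mem_subgroupOf] at hk
    obtain ⟨i, hi⟩ := hk
    have hmem := mul_mem hw (zpow_mem (a_mem_commutator ha) i)
    rwa [show w * (⟨aOneThree, ha⟩ : Ca) ^ i = y from Subtype.ext (by
      rw [Subgroup.coe_mul, SubgroupClass.coe_zpow]
      show (w : Spor.Co1) * aOneThree ^ i = y
      rw [show aOneThree ^ i = ((w⁻¹ * y : Ca) : Spor.Co1) from hi, Subgroup.coe_mul, Subgroup.coe_inv,
        mul_inv_cancel_left])] at hmem
  have hzk : Subgroup.center Ca = f.ker := by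
    refine le_antisymm (fun y hy => ?_) fun y hy => ?_
    · have hc : f y ∈ Subgroup.center D.S := Subgroup.mem_center_iff.2 fun s => by
        obtain ⟨w, rfl⟩ := hf s
        rw [← map_mul, ← map_mul, Subgroup.mem_center_iff.1 hy w]
      rcases IsSimpleGroup.eq_bot_or_eq_top_of_normal (Subgroup.center D.S) inferInstance with e | e
      · exact MonoidHom.mem_ker.2 (Subgroup.mem_bot.1 (e ▸ hc))
      · exact absurd ⟨⟨fun a b => Subgroup.mem_center_iff.1 (e ▸ Subgroup.mem_top b) a⟩⟩ hna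
    · rw [hker, Subgroup.mem_subgroupOf] at hy
      exact Subgroup.mem_center_iff.2 fun w => Subtype.ext
        (Subgroup.mem_centralizer_iff.1 w.2 _ hy).symm
  exact ⟨Group.isPerfect_def.2 hperf, ((QuotientGroup.quotientMulEquivOfEq hzk).trans
    (QuotientGroup.quotientKerEquivOfSurjective f hf)).isSimpleGroup⟩

/-- The recognition of the Suzuki group from its involution centralizer, as a hypothesis. -/
abbrev SuzHyp : Prop :=
  ∀ (G : Type) [Group G] [Finite G] (z : G), orderOf z = 2 →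
    ∀ (Q : Subgroup (Subgroup.centralizer ({z} : Set G))) [Q.Normal],
      Cfsg.generalizedFittingSubgroup (Subgroup.centralizer ({z} : Set G)) = Q →
      Cfsg.IsExtraspecial 2 Q → Nat.card Q = 2 ^ 7 →
      ((Subgroup.centralizer ({z} : Set G)) ⧸ Q ≃* Cfsg.Omega (ZMod 2) (Cfsg.quadFormMinus 2 (ZMod 2) 1 1)) →
      (∃ g : G, (∃ hq : g * z * g⁻¹ ∈ Subgroup.centralizer ({z} : Set G),
        (⟨g * z * g⁻¹, hq⟩ : Subgroup.centralizer ({z} : Set G)) ∈ Q) ∧ g * z * g⁻¹ ≠ z) →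
      Cfsg.Spor.IsoSuz G

/-- The centralizer in `Co1` of such an `X`. -/
theorem centralizer_suz (hsuz : SuzHyp) (X : Subgroup C1) (hX : Nat.card X = 3)
    (hQX : Nat.card ↥⁅QOne, X⁆ = 8) (hna : ¬ IsMulCommutative ↥⁅QOne, X⁆)
    [((X.map C1.subtype).subgroupOf
      (Subgroup.centralizer ((X.map C1.subtype : Subgroup Spor.Co1) : Set Spor.Co1))).Normal] :
    Cfsg.IsQuasisimple ↥(Subgroup.centralizer ((X.map C1.subtype : Subgroup Spor.Co1) : Set Spor.Co1)) ∧
      Cfsg.Spor.IsoSuz (↥(Subgroup.centralizer ((X.map C1.subtype : Subgroup Spor.Co1) : Set Spor.Co1)) ⧸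
        (X.map C1.subtype).subgroupOf
          (Subgroup.centralizer ((X.map C1.subtype : Subgroup Spor.Co1) : Set Spor.Co1))) := by
  obtain ⟨c, hc⟩ := exists_conj hX hQX hna
  obtain ⟨hidx, hsΩ, hcΩ⟩ := omega_six
  haveI := co0_finite
  haveI : Finite D.S := Quotient.finite _
  obtain ⟨e⟩ := D.nonempty_quotient hidx
  haveI := hsΩ
  have hsimp : IsSimpleGroup (D.CS ⧸ D.QS) := e.isSimpleGroup
  have hnS : ¬ IsMulCommutative D.S := fun hcomm => by
    obtain ⟨g, -, hne⟩ := D.not_weakly_closed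
    exact hne (by rw [mul_comm' g D.zS, mul_inv_cancel_right])
  have hS : IsSimpleGroup D.S := isSimpleGroup_of_irreducible D.orderOf_zS D.QS
    (D.generalizedFitting_eq hidx hsΩ hcΩ) D.extraspecial_QS (by rw [D.card_QS]; norm_num)
    D.not_weakly_closed hsimp (D.irreducible hidx)
  have hIso : Cfsg.Spor.IsoSuz D.S := hsuz D.S D.zS D.orderOf_zS D.QS
    (D.generalizedFitting_eq hidx hsΩ hcΩ) D.extraspecial_QS D.card_QS
    (by rw [← coe_minusQ]; exact e) D.not_weakly_closed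
  obtain ⟨A, hA⟩ : ∃ A : Subgroup Spor.Co1, A = Subgroup.zpowers aOneThree := ⟨_, rfl⟩
  let ε : Spor.Co1 ≃* Spor.Co1 := MulAut.conj (c : Spor.Co1)
  have hXmap : X.map C1.subtype = A.map ε.toMonoidHom := by
    rw [hc, hA, MonoidHom.map_zpowers, MonoidHom.map_zpowers, MonoidHom.map_zpowers]
    rfl
  have hmap : Ca.map ε.toMonoidHom =
      Subgroup.centralizer ((X.map C1.subtype : Subgroup Spor.Co1) : Set Spor.Co1) := by
    rw [hXmap, hA]
    ext y
    constructor
    · rintro ⟨w, hw, rfl⟩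
      refine Subgroup.mem_centralizer_iff.2 ?_
      rintro _ ⟨v, hv, rfl⟩
      rw [← map_mul, ← map_mul, Subgroup.mem_centralizer_iff.1 hw v hv]
    · intro hy
      refine ⟨ε.symm y, Subgroup.mem_centralizer_iff.2 fun v hv => ε.injective ?_, ε.apply_symm_apply y⟩
      rw [map_mul, map_mul, ε.apply_symm_apply]
      exact Subgroup.mem_centralizer_iff.1 hy _ ⟨v, hv, rfl⟩
  let η : Ca ≃* ↥(Subgroup.centralizer ((X.map C1.subtype : Subgroup Spor.Co1) : Set Spor.Co1)) :=
    (ε.subgroupMap Ca).trans (MulEquiv.subgroupCongr hmap)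
  refine ⟨CfsgLib.Components.isQuasisimple_congr η (isQuasisimple_Ca hS hnS), ?_⟩
  obtain ⟨f, hf, hker⟩ := exists_to_S
  let F : ↥(Subgroup.centralizer ((X.map C1.subtype : Subgroup Spor.Co1) : Set Spor.Co1)) →* D.S :=
    f.comp η.symm.toMonoidHom
  have hF : Function.Surjective F := hf.comp η.symm.surjective
  have hk : F.ker = (X.map C1.subtype).subgroupOf
      (Subgroup.centralizer ((X.map C1.subtype : Subgroup Spor.Co1) : Set Spor.Co1)) := by
    ext y
    have hval : ((y : Spor.Co1)) = ε ((η.symm y : Ca) : Spor.Co1) := by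
      conv_lhs => rw [← η.apply_symm_apply y]
      rfl
    rw [MonoidHom.mem_ker, Subgroup.mem_subgroupOf, MonoidHom.comp_apply, MulEquiv.coe_toMonoidHom,
      ← MonoidHom.mem_ker, hker, Subgroup.mem_subgroupOf, hval]
    simp only [hXmap, ← hA]
    exact (Subgroup.mem_map_iff_mem ε.injective).symm
  obtain ⟨i⟩ := hIso
  exact ⟨((QuotientGroup.quotientMulEquivOfEq hk.symm).trans
    (QuotientGroup.quotientKerEquivOfSurjective F hF)).trans i⟩

end CfsgLib.CoOneAmalgam.SuzThree
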