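import Cfsg.Agent.CoOneAmalgam.SuzThree

/-!
# The centralizer of the element of order three in a group isomorphic to `Co1`
-/

set_option autoImplicit false
set_option linter.style.haveILetI false

namespace CfsgLib.CoOneAmalgam.SuzThree

open Cfsg CfsgLib.CoOneInv

/-- Transfer along an isomorphism carrying `zOne` to `z`. -/
theorem centralizer_suz_of_iso (hsuz : SuzHyp) {G : Type*} [Group G] [Finite G] (φ : Spor.Co1 ≃* G) (z : G)
    (hz : φ zOne = z) (Q : Subgroup (Subgroup.centralizer ({z} : Set G)))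
    (hF : Cfsg.generalizedFittingSubgroup (Subgroup.centralizer ({z} : Set G)) = Q) (hcard : Nat.card Q = 2 ^ 9)
    (X : Subgroup (Subgroup.centralizer ({z} : Set G))) (hX : Nat.card X = 3)
    (hQX : Nat.card ↥⁅Q, X⁆ = 8) (hna : ¬ IsMulCommutative ↥⁅Q, X⁆)
    [((X.map (Subgroup.subtype (Subgroup.centralizer ({z} : Set G)))).subgroupOf
      (Subgroup.centralizer ((X.map (Subgroup.subtype (Subgroup.centralizer ({z} : Set G)))) : Set G))).Normal] :
    Cfsg.IsQuasisimple
        ↥(Subgroup.centralizer ((X.map (Subgroup.subtype (Subgroup.centralizer ({z} : Set G)))) : Set G)) ∧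
      Cfsg.Spor.IsoSuz
        (↥(Subgroup.centralizer ((X.map (Subgroup.subtype (Subgroup.centralizer ({z} : Set G)))) : Set G)) ⧸
          (X.map (Subgroup.subtype (Subgroup.centralizer ({z} : Set G)))).subgroupOf
            (Subgroup.centralizer ((X.map (Subgroup.subtype (Subgroup.centralizer ({z} : Set G)))) : Set G))) := by
  haveI : Finite Spor.Co1 := Finite.of_equiv G φ.symm.toEquiv
  have hC : C1.map φ.toMonoidHom = Subgroup.centralizer ({z} : Set G) := by
    ext y
    rw [Subgroup.mem_map, Subgroup.mem_centralizer_singleton_iff, ← hz]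
    constructor
    · rintro ⟨w, hw, rfl⟩
      rw [MulEquiv.coe_toMonoidHom, ← map_mul, ← map_mul, Subgroup.mem_centralizer_singleton_iff.1 hw]
    · intro hy
      refine ⟨φ.symm y, Subgroup.mem_centralizer_singleton_iff.2 (φ.injective ?_), φ.apply_symm_apply y⟩
      rw [map_mul, map_mul, φ.apply_symm_apply, hy]
  let ψ : C1 ≃* ↥(Subgroup.centralizer ({z} : Set G)) := (φ.subgroupMap C1).trans (MulEquiv.subgroupCongr hC)
  have hψ : ∀ w : C1, ((ψ w : Subgroup.centralizer ({z} : Set G)) : G) = φ (w : Spor.Co1) := fun _ => rfl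
  have hQ : QOne.map ψ.toMonoidHom = Q := by
    have hc : Nat.card ↥(QOne.map ψ.toMonoidHom) = 2 ^ 9 := by
      rw [Subgroup.card_map_of_injective ψ.injective, card_QOne]
    haveI : (QOne.map ψ.toMonoidHom).Normal := QOne_normal.map _ ψ.surjective
    refine Subgroup.eq_of_le_of_card_ge ?_ (by rw [hc, hcard])
    rw [← hF]
    exact (CfsgLib.Components.le_fittingSubgroup (IsPGroup.of_card hc).isNilpotent).trans le_sup_right
  obtain ⟨Y, hY⟩ : ∃ Y : Subgroup C1, Y = X.map ψ.symm.toMonoidHom := ⟨_, rfl⟩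
  have hXY : Y.map ψ.toMonoidHom = X := by
    ext w
    rw [hY]
    refine ⟨?_, fun hw => ⟨ψ.symm w, ⟨w, hw, rfl⟩, ψ.apply_symm_apply w⟩⟩
    rintro ⟨_, ⟨a, ha, rfl⟩, rfl⟩
    simpa using ha
  have hY3 : Nat.card Y = 3 := by
    rw [← hX, ← hXY, Subgroup.card_map_of_injective ψ.injective]
  have hcomm : (⁅QOne, Y⁆).map ψ.toMonoidHom = ⁅Q, X⁆ := by rw [Subgroup.map_commutator, hQ, hXY]
  have hY8 : Nat.card ↥⁅QOne, Y⁆ = 8 := by
    rw [← hQX, ← hcomm, Subgroup.card_map_of_injective ψ.injective]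
  have hYna : ¬ IsMulCommutative ↥⁅QOne, Y⁆ := fun h => hna ⟨⟨fun a b => by
    obtain ⟨a', ha', ea⟩ : (a : Subgroup.centralizer ({z} : Set G)) ∈ (⁅QOne, Y⁆).map ψ.toMonoidHom :=
      hcomm.ge a.2
    obtain ⟨b', hb', eb⟩ : (b : Subgroup.centralizer ({z} : Set G)) ∈ (⁅QOne, Y⁆).map ψ.toMonoidHom :=
      hcomm.ge b.2
    refine Subtype.ext ?_
    rw [Subgroup.coe_mul, Subgroup.coe_mul, ← ea, ← eb, ← map_mul, ← map_mul,
      show a' * b' = b' * a' from congrArg Subtype.val
        (mul_comm' (⟨a', ha'⟩ : ↥⁅QOne, Y⁆) ⟨b', hb'⟩)]⟩⟩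
  have hmap : (Y.map C1.subtype).map φ.toMonoidHom =
      X.map (Subgroup.subtype (Subgroup.centralizer ({z} : Set G))) := by
    rw [← hXY, Subgroup.map_map, Subgroup.map_map]
    rfl
  have hcen : (Subgroup.centralizer ((Y.map C1.subtype : Subgroup Spor.Co1) : Set Spor.Co1)).map φ.toMonoidHom =
      Subgroup.centralizer ((X.map (Subgroup.subtype (Subgroup.centralizer ({z} : Set G)))) : Set G) := by
    rw [← hmap]
    ext y
    constructor
    · rintro ⟨w, hw, rfl⟩
      refine Subgroup.mem_centralizer_iff.2 ?_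
      rintro _ ⟨v, hv, rfl⟩
      rw [← map_mul, ← map_mul, Subgroup.mem_centralizer_iff.1 hw v hv]
    · intro hy
      refine ⟨φ.symm y, Subgroup.mem_centralizer_iff.2 fun v hv => φ.injective ?_, φ.apply_symm_apply y⟩
      rw [map_mul, map_mul, φ.apply_symm_apply]
      exact Subgroup.mem_centralizer_iff.1 hy _ ⟨v, hv, rfl⟩
  let η : ↥(Subgroup.centralizer ((Y.map C1.subtype : Subgroup Spor.Co1) : Set Spor.Co1)) ≃*
      ↥(Subgroup.centralizer ((X.map (Subgroup.subtype (Subgroup.centralizer ({z} : Set G)))) : Set G)) :=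
    (φ.subgroupMap _).trans (MulEquiv.subgroupCongr hcen)
  haveI : ((Y.map C1.subtype).subgroupOf
      (Subgroup.centralizer ((Y.map C1.subtype : Subgroup Spor.Co1) : Set Spor.Co1))).Normal :=
    ⟨fun n hn g => by
      rw [Subgroup.mem_subgroupOf] at hn ⊢
      rw [Subgroup.coe_mul, Subgroup.coe_mul, Subgroup.coe_inv,
        ← Subgroup.mem_centralizer_iff.1 g.2 _ hn, mul_inv_cancel_right]
      exact hn⟩
  obtain ⟨h1, ⟨i⟩⟩ := centralizer_suz hsuz Y hY3 hY8 hYna
  refine ⟨CfsgLib.Components.isQuasisimple_congr η h1, ?_⟩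
  have hN : ((Y.map C1.subtype).subgroupOf
      (Subgroup.centralizer ((Y.map C1.subtype : Subgroup Spor.Co1) : Set Spor.Co1))).map η.toMonoidHom =
      (X.map (Subgroup.subtype (Subgroup.centralizer ({z} : Set G)))).subgroupOf
        (Subgroup.centralizer ((X.map (Subgroup.subtype (Subgroup.centralizer ({z} : Set G)))) : Set G)) := by
    ext y
    obtain ⟨w, rfl⟩ := η.surjective y
    show η.toMonoidHom w ∈ Subgroup.map _ _ ↔ _
    rw [Subgroup.mem_map_iff_mem η.injective, Subgroup.mem_subgroupOf, Subgroup.mem_subgroupOf]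
    exact ((Subgroup.mem_map_iff_mem (f := φ.toMonoidHom) φ.injective).symm).trans
      (iff_of_eq (congrArg (fun S : Subgroup G => (η w : G) ∈ S) hmap))
  exact ⟨(QuotientGroup.congr _ _ η hN).symm.trans i⟩

end CfsgLib.CoOneAmalgam.SuzThree
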