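import Cfsg.Agent.CoOneAmalgam.Act
import Cfsg.Agent.ConwayType.Setup

/-!
# The centralizer in the first Conway group embeds onto the centralizer in `G`, extending the map on
the monomial part
-/

set_option autoImplicit false

namespace CfsgLib.CoOneAmalgam

open Cfsg CfsgLib.ConwayType CfsgLib.ConwayGolay
open CfsgLib.CoOneInv (zOne C1 QOne)

theorem card_C1 : Nat.card C1 = 2 ^ 21 * 42525 := by
  obtain ⟨e⟩ := CfsgLib.CoOneInv.quotient_equiv
  have hQ : (⇑CfsgLib.CoOneInv.Q8 : _ → ZMod 2) = Cfsg.quadFormPlus 4 (ZMod 2) :=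
    funext CfsgLib.CoOneInv.q8_apply
  obtain ⟨Q', π', D'⟩ := ConwayType.exists_data zOne CfsgLib.CoOneInv.orderOf_zOne QOne
    CfsgLib.CoOneInv.generalizedFitting_eq CfsgLib.CoOneInv.extraspecial_QOne
    CfsgLib.CoOneInv.card_QOne (hQ ▸ e) CfsgLib.CoOneInv.not_weakly_closed
  exact D'.card_cent

theorem finite_C1 : Finite C1 := Nat.finite_of_card_ne_zero (by rw [card_C1]; norm_num)

variable {G : Type*} [Group G] [Finite G] {z : G} {Q : Subgroup G} {π : G → V8} {D : Data z Q π}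
  (E : Emb D)

namespace Emb

include E

/-- The pairs acting alike on the extraspecial subgroups. -/
noncomputable def pairs : Subgroup (C1 × G) where
  carrier := {k | ∀ q : qOne, E.qf (cj k.1 q) = k.2 * E.qf q * k.2⁻¹}
  mul_mem' := fun {a b} ha hb q => by
    show E.qf (cj (a.1 * b.1) q) = a.2 * b.2 * E.qf q * (a.2 * b.2)⁻¹
    rw [cj_comp, ha, hb]; group
  one_mem' := fun q => by simp [cj_one]
  inv_mem' := fun {a} ha q => by
    have h := ha (cj a.1⁻¹ q)
    rw [← cj_comp, mul_inv_cancel, cj_one] at h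
    show E.qf (cj a.1⁻¹ q) = a.2⁻¹ * E.qf q * a.2⁻¹⁻¹
    rw [h]; group

theorem pairs_comm_z {k : C1 × G} (hk : k ∈ E.pairs) : k.2 * z = z * k.2 := by
  have h := hk ⟨zOne, E.zOne_mem_qOne⟩
  rw [E.cj_z, E.qf_z] at h
  exact (mul_inv_eq_iff_eq_mul.1 h.symm)

theorem pairs_ker {d : G} (h : ((1 : C1), d) ∈ E.pairs) : d = 1 ∨ d = z :=
  D.sub.mem_of_commutes fun x hx => by
    obtain ⟨q, rfl⟩ := E.qf_surj x hx
    have := h q
    rw [cj_one] at this
    exact (eq_mul_inv_iff_mul_eq.1 this)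

theorem pOne_pair (x : pOne) : ((⟨x, x.2.2⟩ : C1), E.eP x) ∈ E.pairs := fun q => by
  rw [E.qf_apply, E.qf_apply, ← map_inv, ← map_mul, ← map_mul]
  rfl

theorem exists_theta : ∃ θ : C1 →* G, Function.Injective θ ∧
    θ.range = Subgroup.centralizer ({z} : Set G) ∧ ∀ x : pOne, θ ⟨x, x.2.2⟩ = E.eP x := by
  classical
  haveI := finite_C1
  set K := E.pairs with hK
  let u : K := ⟨((1 : C1), z), fun q => by
    rw [cj_one, ← D.sub.z_comm (E.qf_mem q), mul_inv_cancel_right]⟩
  have hu2 : u * u = 1 := Subtype.ext (Prod.ext (one_mul 1) D.sub.mul_self)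
  have hucen : ∀ k : K, k * u = u * k := fun k => Subtype.ext (Prod.ext
    (show (k : C1 × G).1 * 1 = 1 * (k : C1 × G).1 by rw [mul_one, one_mul]) (E.pairs_comm_z k.2))
  let dP : pOne →* K := ((Subgroup.inclusion (show pOne ≤ C1 from fun _ h => h.2)).prod E.eP).codRestrict K
    fun x => E.pOne_pair x
  have huD : u ∉ dP.range := by
    rintro ⟨x, hx⟩
    have h1 : ((x : Spor.Co1)) = 1 := congrArg (fun k : K => ((k : C1 × G).1 : Spor.Co1)) hx
    have h2 : E.eP x = z := congrArg (fun k : K => (k : C1 × G).2) hx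
    rw [show x = 1 from Subtype.ext h1, map_one] at h2
    exact D.sub.ne_one h2.symm
  let pr1 : K →* C1 := (MonoidHom.fst C1 G).comp K.subtype
  have hsurj : Function.Surjective pr1 := fun c => by
    obtain ⟨d, -, hd⟩ := E.exists_imitator c
    exact ⟨⟨(c, d), hd⟩, rfl⟩
  set Pc : Subgroup C1 := pOne.subgroupOf C1 with hPc
  have hodd : Odd (Pc.comap pr1).index := by
    rw [Subgroup.index_comap_of_surjective _ hsurj]
    have h1 : Nat.card Pc = 660602880 := by
      rw [hPc, Nat.card_congr (Subgroup.subgroupOfEquivOfLe (show pOne ≤ C1 from fun _ h => h.2)).toEquiv,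
        E.card]
    have h2 := Pc.card_mul_index
    rw [h1, card_C1] at h2
    exact ⟨67, by omega⟩
  have hB : ∀ b ∈ Pc.comap pr1, b ∈ dP.range ∨ b * u ∈ dP.range := by
    intro b hb
    let x : pOne := ⟨((b : C1 × G).1 : Spor.Co1), hb⟩
    have hk : (dP x)⁻¹ * b ∈ K.subtype.ker ∨ (dP x)⁻¹ * b * u ∈ K.subtype.ker := by
      have hfst : (((dP x)⁻¹ * b : K) : C1 × G).1 = 1 := by
        show (⟨(x : Spor.Co1), x.2.2⟩ : C1)⁻¹ * (b : C1 × G).1 = 1
        exact inv_mul_eq_one.2 rfl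
      have hmem : ((1 : C1), (((dP x)⁻¹ * b : K) : C1 × G).2) ∈ K := by
        rw [← hfst]; exact ((dP x)⁻¹ * b).2
      rcases E.pairs_ker hmem with e | e
      · exact Or.inl (Prod.ext hfst e)
      · refine Or.inr (Prod.ext ?_ ?_)
        · show (((dP x)⁻¹ * b : K) : C1 × G).1 * 1 = 1
          rw [mul_one, hfst]
        · show (((dP x)⁻¹ * b : K) : C1 × G).2 * z = 1
          rw [e, D.sub.mul_self]
    rcases hk with e | e
    · exact Or.inl ⟨x, inv_mul_eq_one.1 (Subtype.ext e)⟩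
    · exact Or.inr ⟨x, inv_mul_eq_one.1 (by rw [← mul_assoc]; exact Subtype.ext e)⟩
  obtain ⟨t, ht⟩ := exists_hom_of_central u hu2 hucen dP.range (Pc.comap pr1) huD hB hodd
  have htd : ∀ x, t (dP x) = 1 := fun x => DFunLike.congr_fun (pOne_hom_eq_one (t.comp dP)) x
  have hinj : Function.Injective (pr1.comp t.ker.subtype) := by
    refine (injective_iff_map_eq_one _).2 fun k hk => ?_
    have hfst : ((k : K) : C1 × G).1 = 1 := hk
    have hmem : ((1 : C1), ((k : K) : C1 × G).2) ∈ K := by rw [← hfst]; exact (k : K).2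
    rcases E.pairs_ker hmem with e | e
    · exact Subtype.ext (Subtype.ext (Prod.ext hfst e))
    · exfalso
      have : (k : K) = u := Subtype.ext (Prod.ext hfst e)
      exact ht (this ▸ k.2)
  have hsurjL : Function.Surjective (pr1.comp t.ker.subtype) := fun c => by
    obtain ⟨k, hk⟩ := hsurj c
    by_cases hkt : t k = 1
    · exact ⟨⟨k, hkt⟩, hk⟩
    · refine ⟨⟨k * u, ?_⟩, ?_⟩
      · show t (k * u) = 1
        have h2 : ∀ a b : Multiplicative (ZMod 2), a ≠ 1 → b ≠ 1 → a * b = 1 := by decide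
        rw [map_mul]; exact h2 _ _ hkt ht
      · show pr1 (k * u) = c
        rw [map_mul, hk]; exact mul_one c
  let eL : t.ker ≃* C1 := MulEquiv.ofBijective (pr1.comp t.ker.subtype) ⟨hinj, hsurjL⟩
  let θ : C1 →* G := (MonoidHom.snd C1 G).comp (K.subtype.comp (t.ker.subtype.comp eL.symm.toMonoidHom))
  have hmemK : ∀ c, (c, θ c) ∈ K := fun c => by
    have h1 : (((eL.symm c : t.ker) : K) : C1 × G).1 = c := eL.apply_symm_apply c
    have h2 : (((eL.symm c : t.ker) : K) : C1 × G) = (c, θ c) := Prod.ext h1 rfl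
    rw [← h2]; exact ((eL.symm c : t.ker) : K).2
  have hext : ∀ x : pOne, θ ⟨x, x.2.2⟩ = E.eP x := fun x => by
    have e : eL.symm ⟨x, x.2.2⟩ = ⟨dP x, htd x⟩ := eL.symm_apply_eq.2 rfl
    show (((eL.symm ⟨x, x.2.2⟩ : t.ker) : K) : C1 × G).2 = _
    rw [e]; rfl
  have hθ : Function.Injective θ := by
    refine (injective_iff_map_eq_one _).2 fun c hc => ?_
    have h := hmemK c
    rw [hc] at h
    rcases E.cent_qOne (c := c) fun q => E.qf_injective (by rw [h q]; group) with e | e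
    · exact Subtype.ext e
    · exfalso
      have := hext ⟨zOne, zOne_mem_pOne⟩
      rw [show (⟨zOne, zOne_mem_pOne.2⟩ : C1) = c from Subtype.ext e.symm, hc, E.map_z] at this
      exact D.sub.ne_one this.symm
  refine ⟨θ, hθ, Subgroup.eq_of_le_of_card_ge ?_ ?_, hext⟩
  · rintro _ ⟨c, rfl⟩
    exact Subgroup.mem_centralizer_singleton_iff.2 (E.pairs_comm_z (k := (c, θ c)) (hmemK c))
  · rw [D.card_cent, ← card_C1]
    exact le_of_eq (Nat.card_congr (MonoidHom.ofInjective hθ).toEquiv)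

end Emb

end CfsgLib.CoOneAmalgam
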