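import Cfsg.Agent.CoOneAmalgam.SevenThreeData
import Cfsg.Agent.CoOneInv.Centralizer
import Cfsg.Agent.MonsterType.SevenClasses
import Cfsg.Agent.JOffender.Product

/-!
# The normalizer of a subgroup of order three of the first Conway group

For `tOne` the image of the fixed-point-free monomial element `T`, an involution `jOne` inverts
`tOne` and `L = C(tOne) ⊓ C(jOne)` maps isomorphically onto the alternating group on the nine
subspaces, so that the normalizer is `⟨tOne, jOne⟩ × L`.
-/

set_option autoImplicit false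

namespace CfsgLib.CoOneAmalgam.SevenThree

open Cfsg CfsgLib.Leech CfsgLib.Mathieu CfsgLib.MonsterType CfsgLib.MonsterType.Three
open CfsgLib.MonsterType.Five (Acts exists_acts)
open CfsgLib.MonsterType.Seven (compL acts_mul acts_one acts_pow eq_of_acts sameGen)
open CfsgLib.CoOneInv (projC projC_eq_cases projC_negCo0)

local notation "P9" => Equiv.Perm (Fin 9)

theorem projC_surj : Function.Surjective projC := QuotientGroup.mk'_surjective _

/-! ### The permutation of the subspaces on the whole centralizer -/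

theorem perm_of_genC {p : P9} {g : Co0} (hg : g ∈ genC) (hp : LinesTo g p) :
    p ∈ alternatingGroup (Fin 9) := by
  obtain ⟨h1, h2⟩ := perms_mem
  induction hg using Subgroup.closure_induction generalizing p with
  | mem x hx =>
    rcases hx with rfl | rfl | rfl | rfl
    exacts [hp.unique linesTo_g ▸ h1, hp.unique linesTo_p ▸ h2,
      hp.unique linesTo_T ▸ one_mem _, hp.unique linesTo_neg ▸ one_mem _]
  | one => exact hp.unique linesTo_one ▸ one_mem _
  | mul a b ha hb iha ihb =>
    obtain ⟨qa, hqa⟩ := (genC_le_stab ha).2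
    obtain ⟨qb, hqb⟩ := (genC_le_stab hb).2
    exact hp.unique (hqa.mul (genC_le_stab ha).1 (genC_le_stab hb).1 hqb) ▸
      mul_mem (iha hqa) (ihb hqb)
  | inv a ha iha =>
    obtain ⟨q, hq⟩ := (genC_le_stab ha).2
    have h := hq.mul (genC_le_stab ha).1 (inv_mem (genC_le_stab ha).1) hp
    rw [mul_inv_cancel] at h
    rw [← inv_eq_of_mul_eq_one_right (h.unique linesTo_one)]
    exact inv_mem (iha hq)

theorem linesTo_T_pow : ∀ k : ℕ, LinesTo (T ^ k) 1
  | 0 => by rw [pow_zero]; exact linesTo_one
  | k + 1 => by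
    rw [pow_succ]
    simpa using (linesTo_T_pow k).mul (pow_mem T_mem k) T_mem linesTo_T

theorem linesTo_kerElt (x : Fin 3 × Bool) : LinesTo (kerElt x) 1 := by
  obtain ⟨i, s⟩ := x
  cases s
  · simpa [kerElt] using linesTo_T_pow i
  · simpa [kerElt] using linesTo_neg.mul neg_mem_C0 (pow_mem T_mem _) (linesTo_T_pow (i : ℕ))

theorem kerElt_mem (x : Fin 3 × Bool) : kerElt x ∈ genC := by
  have hT : T ∈ genC := Subgroup.subset_closure (by simp)
  have hn : negCo0 ∈ genC := Subgroup.subset_closure (by simp)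
  obtain ⟨i, s⟩ := x
  cases s
  · exact pow_mem hT _
  · exact mul_mem hn (pow_mem hT _)

/-- The centralizer permutes the subspaces, evenly and with kernel of order six. -/
theorem C0_lines : (∀ g ∈ C0, ∃ p ∈ alternatingGroup (Fin 9), LinesTo g p) ∧
    ∀ g ∈ C0, LinesTo g 1 → ∃ x, g = kerElt x := by
  classical
  haveI := co0_finite
  let ι : genC →* P9 := lineHom.comp (Subgroup.inclusion genC_le_stab)
  have hι : ∀ (g : Co0) (hg : g ∈ genC) (p : P9), LinesTo g p → ι ⟨g, hg⟩ = p := fun g hg p h =>
    lineHom_eq h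
  have hge : alternatingGroup (Fin 9) ≤ ι.range :=
    alternating_le_of_perms ⟨⟨_, Subgroup.subset_closure (by simp)⟩, hι _ _ _ linesTo_g⟩
      ⟨⟨_, Subgroup.subset_closure (by simp)⟩, hι _ _ _ linesTo_p⟩
  let kf : Fin 3 × Bool → ι.ker := fun x =>
    ⟨⟨kerElt x, kerElt_mem x⟩, hι _ _ _ (linesTo_kerElt x)⟩
  have hkf : Function.Injective kf := fun a b h =>
    kerElt_injective (congrArg (fun y : ι.ker => ((y : genC) : Co0)) h)
  have h6 : 6 ≤ Nat.card ι.ker :=
    le_of_eq_of_le (by simp) (Nat.card_le_card_of_injective kf hkf)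
  have hrng : 181440 ≤ Nat.card ι.range := by
    refine le_of_eq_of_le ?_ (Nat.card_le_card_of_injective (Subgroup.inclusion hge)
      (Subgroup.inclusion_injective hge))
    rw [nat_card_alternatingGroup, Nat.card_fin]
    decide
  have hmul : Nat.card ι.ker * Nat.card ι.range = Nat.card genC := by
    rw [← Subgroup.index_ker]; exact ι.ker.card_mul_index
  have hsub : genC ≤ C0 := fun g hg => (genC_le_stab hg).1
  have hbound := card_C0_le
  have heq : genC = C0 := by
    refine Subgroup.eq_of_le_of_card_ge hsub ?_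
    nlinarith [Nat.mul_le_mul h6 hrng]
  have hle6 : Nat.card ι.ker ≤ 6 := by
    rw [← heq] at hbound
    by_contra hc
    nlinarith [Nat.mul_le_mul (show 7 ≤ Nat.card ι.ker by omega) hrng]
  refine ⟨fun g hg => ?_, fun g hg h => ?_⟩
  · obtain ⟨p, hp⟩ := (genC_le_stab (heq ▸ hg)).2
    exact ⟨p, perm_of_genC (heq ▸ hg) hp, hp⟩
  · obtain ⟨x, hx⟩ := (hkf.bijective_of_nat_card_le (hle6.trans (by simp))).2
      ⟨⟨g, heq ▸ hg⟩, hι _ _ _ h⟩
    exact ⟨x, (congrArg (fun y : ι.ker => ((y : genC) : Co0)) hx).symm⟩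

/-! ### The centralizer in the first Conway group -/

/-- The class of the element of order three. -/
noncomputable def tOne : Spor.Co1 := projC T

theorem tOne_pow_three : tOne ^ 3 = 1 := by rw [tOne, ← map_pow, T_pow_three, map_one]

theorem tOne_ne_one : tOne ≠ 1 := fun h => by
  rcases projC_eq_cases (a := (1 : Co0)) (b := T) (by rw [map_one]; exact h.symm) with e | e
  · exact T_ne_one e
  · exact neg_ne_pow 1 (by rw [pow_one, e, mul_one])

/-- The centralizer of the element of order three. -/
noncomputable def cT : Subgroup Spor.Co1 := Subgroup.centralizer {tOne}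

theorem projC_mem_cT {g : Co0} (hg : g ∈ C0) : projC g ∈ cT :=
  Subgroup.mem_centralizer_singleton_iff.2 (by
    rw [tOne, ← map_mul, ← map_mul, Subgroup.mem_centralizer_singleton_iff.1 hg])

theorem mem_C0_of_cT {g : Co0} (hg : projC g ∈ cT) : g ∈ C0 := by
  have h := Subgroup.mem_centralizer_singleton_iff.1 hg
  rw [tOne, ← map_mul, ← map_mul] at h
  refine Subgroup.mem_centralizer_singleton_iff.2 ?_
  rcases projC_eq_cases h with e | e
  · exact e.symm
  · exfalso
    refine negCo0_ne_one ?_
    have hconj : g⁻¹ * T * g = negCo0 * T := by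
      rw [mul_assoc, e, ← mul_assoc g⁻¹, Subgroup.mem_center_iff.1 negCo0_mem_center g⁻¹,
        mul_assoc, inv_mul_cancel_left]
    have h3 : (g⁻¹ * T * g) ^ 3 = 1 := by
      have hh := conj_pow (i := 3) (a := g⁻¹) (b := T)
      rw [inv_inv] at hh
      rw [hh, T_pow_three]
      group
    rw [hconj, (show Commute negCo0 T from (Subgroup.mem_center_iff.1 negCo0_mem_center T).symm).mul_pow,
      T_pow_three, mul_one, pow_succ, sq negCo0, negCo0_sq, one_mul] at h3
    exact h3

/-- The lifts of a member of the centralizer. -/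
theorem exists_lift {x : Spor.Co1} (hx : x ∈ cT) : ∃ g ∈ C0, projC g = x := by
  obtain ⟨g, rfl⟩ := projC_surj x
  exact ⟨g, mem_C0_of_cT hx, rfl⟩

/-- The permutation of the subspaces is a class function of the image in the quotient. -/
theorem linesTo_of_projC {g h : Co0} (hh : h ∈ C0) (e : projC h = projC g) {p : P9}
    (hp : LinesTo h p) : LinesTo g p := by
  rcases projC_eq_cases e with rfl | rfl
  · exact hp
  · simpa using linesTo_neg.mul neg_mem_C0 hh hp

theorem exists_perm (x : cT) : ∃ p : alternatingGroup (Fin 9),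
    ∀ g ∈ C0, projC g = x → LinesTo g p := by
  obtain ⟨g, hg, e⟩ := exists_lift x.2
  obtain ⟨p, hp, h⟩ := C0_lines.1 g hg
  exact ⟨⟨p, hp⟩, fun g' _ e' => linesTo_of_projC hg (e.trans e'.symm) h⟩

/-- The action on the nine subspaces. -/
noncomputable def chi : cT →* alternatingGroup (Fin 9) :=
  MonoidHom.mk' (fun x => (exists_perm x).choose) fun x y => by
    obtain ⟨g, hg, e⟩ := exists_lift x.2
    obtain ⟨h, hh, e'⟩ := exists_lift y.2
    refine Subtype.ext (((exists_perm (x * y)).choose_spec (g * h) (mul_mem hg hh) (by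
      rw [map_mul, e, e']; rfl)).unique ?_)
    exact ((exists_perm x).choose_spec g hg e).mul hg hh ((exists_perm y).choose_spec h hh e')

theorem chi_projC {g : Co0} (hg : g ∈ C0) {p : P9} (hp : LinesTo g p) :
    (chi ⟨projC g, projC_mem_cT hg⟩ : P9) = p :=
  ((exists_perm ⟨projC g, projC_mem_cT hg⟩).choose_spec g hg rfl).unique hp

theorem chi_eq_one {x : cT} (h : chi x = 1) : ∃ k : ℕ, (x : Spor.Co1) = tOne ^ k := by
  obtain ⟨g, hg, e⟩ := exists_lift x.2
  have hl : LinesTo g ((chi x : alternatingGroup (Fin 9)) : P9) :=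
    (exists_perm x).choose_spec g hg e
  rw [h, OneMemClass.coe_one] at hl
  obtain ⟨⟨i, s⟩, rfl⟩ := C0_lines.2 g hg hl
  refine ⟨i, ?_⟩
  rw [← e]
  cases s <;> simp [kerElt, tOne, projC_negCo0]

theorem tOne_mem_cT : tOne ∈ cT := Subgroup.mem_centralizer_singleton_iff.2 rfl

/-! ### The involution and the complement -/

theorem jMoves_ok : jMoves.all Mv.ok = true := by decide +kernel

/-- The involution of the lattice. -/
noncomputable def jE : Co0 := Classical.choose (exists_acts jMoves jMoves_ok)

theorem jE_acts : Acts jE (runMoves jMoves) := Classical.choose_spec (exists_acts jMoves jMoves_ok)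

theorem jE_sq : jE * jE = 1 := eq_of_acts (acts_mul jE_acts jE_acts) acts_one (by decide +kernel)

theorem jE_T : jE * T = T * T * jE :=
  eq_of_acts (acts_mul jE_acts Three.acts_T)
    (acts_mul (acts_mul Three.acts_T Three.acts_T) jE_acts) (by decide +kernel)

/-- The class of the involution. -/
noncomputable def jOne : Spor.Co1 := projC jE

theorem jOne_sq : jOne * jOne = 1 := by rw [jOne, ← map_mul, jE_sq, map_one]

theorem tOne_inv : tOne⁻¹ = tOne * tOne :=
  inv_eq_of_mul_eq_one_right (by rw [← mul_assoc, ← tOne_pow_three, pow_succ, pow_two])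

theorem jOne_tOne : jOne * tOne * jOne = tOne⁻¹ := by
  rw [tOne_inv, jOne, tOne, ← map_mul, jE_T, map_mul, map_mul, mul_assoc _ (projC jE)]
  rw [show projC jE * projC jE = 1 from jOne_sq, mul_one]

/-- The complement. -/
noncomputable def lOne : Subgroup Spor.Co1 := Subgroup.centralizer {tOne, jOne}

theorem lOne_le : lOne ≤ cT := Subgroup.centralizer_le (by simp)

theorem mem_lOne {x : Spor.Co1} : x ∈ lOne ↔ x * tOne = tOne * x ∧ x * jOne = jOne * x := by
  simp [lOne, Subgroup.mem_centralizer_iff, eq_comm]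

/-- An element commuting with both lifts lies in the complement. -/
theorem projC_mem_lOne {g : Co0} (hg : g ∈ C0) (h : g * jE = jE * g) : projC g ∈ lOne :=
  mem_lOne.2 ⟨Subgroup.mem_centralizer_singleton_iff.1 (projC_mem_cT hg), by
    rw [jOne, ← map_mul, ← map_mul, h]⟩

theorem gMovesL_ok : gMovesL.all Mv.ok = true := by decide +kernel

theorem pMovesL_ok : pMovesL.all Mv.ok = true := by decide +kernel

theorem gLift_comm : gE * T ^ 2 * jE = jE * (gE * T ^ 2) := by
  obtain ⟨g, hg⟩ := exists_acts gMovesL gMovesL_ok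
  have e : gE * T ^ 2 = g := eq_of_acts (acts_mul gE_acts (acts_pow Three.acts_T 2)) hg (by decide +kernel)
  rw [e]
  exact eq_of_acts (acts_mul hg jE_acts) (acts_mul jE_acts hg) (by decide +kernel)

theorem pLift_comm : pE * T ^ 2 * jE = jE * (pE * T ^ 2) := by
  obtain ⟨g, hg⟩ := exists_acts pMovesL pMovesL_ok
  have e : pE * T ^ 2 = g := eq_of_acts (acts_mul pE_acts (acts_pow Three.acts_T 2)) hg (by decide +kernel)
  rw [e]
  exact eq_of_acts (acts_mul hg jE_acts) (acts_mul jE_acts hg) (by decide +kernel)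

/-- The action of the complement. -/
noncomputable def chiL : lOne →* alternatingGroup (Fin 9) := chi.comp (Subgroup.inclusion lOne_le)

theorem chiL_projC {g : Co0} (hg : g ∈ C0) (h : g * jE = jE * g) {p : P9} (hp : LinesTo g p) :
    (chiL ⟨projC g, projC_mem_lOne hg h⟩ : P9) = p :=
  chi_projC hg hp

theorem chiL_injective : Function.Injective chiL := by
  refine (injective_iff_map_eq_one _).2 fun x hx => ?_
  obtain ⟨k, hk⟩ := chi_eq_one hx
  have hk' : (x : Spor.Co1) = tOne ^ k := hk
  have hj := (mem_lOne.1 x.2).2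
  rw [hk'] at hj
  have h2 : (tOne ^ k) * (tOne ^ k) = 1 := by
    have e : jOne⁻¹ = jOne := inv_eq_of_mul_eq_one_right jOne_sq
    have hc := conj_pow (i := k) (a := jOne) (b := tOne)
    rw [e, jOne_tOne, inv_pow, ← hj, mul_assoc, jOne_sq, mul_one] at hc
    exact inv_eq_iff_mul_eq_one.1 hc
  refine Subtype.ext ?_
  show (x : Spor.Co1) = 1
  rw [hk']
  have h3 : (tOne ^ k) ^ 3 = 1 := by rw [← pow_mul, mul_comm, pow_mul, tOne_pow_three, one_pow]
  rwa [pow_succ, pow_two, h2, one_mul] at h3

theorem chiL_surjective : Function.Surjective chiL := by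
  have hg : gE * T ^ 2 ∈ C0 := mul_mem gE_mem (pow_mem T_mem 2)
  have hp : pE * T ^ 2 ∈ C0 := mul_mem pE_mem (pow_mem T_mem 2)
  have e1 := chiL_projC hg gLift_comm (linesTo_g.mul gE_mem (pow_mem T_mem 2) (linesTo_T_pow 2))
  have e2 := chiL_projC hp pLift_comm (linesTo_p.mul pE_mem (pow_mem T_mem 2) (linesTo_T_pow 2))
  rw [mul_one] at e1 e2
  intro y
  have hle : alternatingGroup (Fin 9) ≤
      chiL.range.map (alternatingGroup (Fin 9)).subtype :=
    alternating_le_of_perms ⟨_, ⟨_, rfl⟩, e1⟩ ⟨_, ⟨_, rfl⟩, e2⟩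
  obtain ⟨z, ⟨x, rfl⟩, e⟩ := hle y.2
  exact ⟨x, Subtype.ext e⟩

/-! ### The normalizer -/

/-- The symmetric group of degree three acting. -/
noncomputable def dihHom : DihedralGroup 3 →* Spor.Co1 :=
  JOffender.dihedralThreeHom jOne tOne jOne_sq tOne_pow_three jOne_tOne

theorem exists_normalizer_three : ∃ W : Subgroup Spor.Co1, Nat.card W = 3 ∧
    Nonempty (Subgroup.normalizer (W : Set Spor.Co1) ≃*
      Equiv.Perm (Fin 3) × alternatingGroup (Fin 9)) := by
  classical
  haveI := Fact.mk Nat.prime_three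
  have ho : orderOf tOne = 3 := orderOf_eq_prime tOne_pow_three tOne_ne_one
  refine ⟨Subgroup.zpowers tOne, by rw [Nat.card_zpowers, ho], ?_⟩
  set W := Subgroup.zpowers tOne with hW
  have hcases : ∀ k : ℕ, tOne ^ k = 1 ∨ tOne ^ k = tOne ∨ tOne ^ k = tOne⁻¹ := by
    intro k
    rw [← pow_mod_orderOf, ho]
    have hk : k % 3 < 3 := Nat.mod_lt _ (by norm_num)
    interval_cases h : k % 3
    · exact Or.inl (pow_zero _)
    · exact Or.inr (Or.inl (pow_one _))
    · exact Or.inr (Or.inr (by rw [pow_two, tOne_inv]))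
  have hnorm : ∀ n, n * tOne * n⁻¹ = tOne ∨ n * tOne * n⁻¹ = tOne⁻¹ →
      n ∈ Subgroup.normalizer (W : Set Spor.Co1) := by
    intro n h
    refine Subgroup.mem_normalizer_iff.2 fun x => ?_
    have hm : W.map (MulAut.conj n).toMonoidHom = W := by
      rw [hW, MonoidHom.map_zpowers,
        show (MulAut.conj n).toMonoidHom tOne = n * tOne * n⁻¹ from rfl]
      rcases h with h | h <;> rw [h]
      exact Subgroup.zpowers_inv
    constructor
    · exact fun hx => hm.le ⟨x, hx, rfl⟩
    · intro hx
      obtain ⟨y, hy, e⟩ := hm.ge hx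
      have e' : n * y * n⁻¹ = n * x * n⁻¹ := e
      rwa [← mul_left_cancel (mul_right_cancel e')]
  have hj : jOne⁻¹ = jOne := inv_eq_of_mul_eq_one_right jOne_sq
  have hcomm : ∀ (d : DihedralGroup 3) (x : lOne), Commute (dihHom d) ((lOne.subtype) x) := by
    intro d x
    obtain ⟨ht, hjx⟩ := mem_lOne.1 x.2
    have ct : Commute tOne (x : Spor.Co1) := ht.symm
    have cj : Commute jOne (x : Spor.Co1) := hjx.symm
    cases d with
    | r k => exact ct.pow_left _
    | sr k => exact cj.mul_left (ct.pow_left _)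
  let Φ : DihedralGroup 3 × lOne →* Spor.Co1 := dihHom.noncommCoprod lOne.subtype hcomm
  have hΦ : ∀ d x, Φ (d, x) = dihHom d * (x : Spor.Co1) := fun d x => rfl
  have hinj : Function.Injective Φ := by
    refine (injective_iff_map_eq_one Φ).2 ?_
    rintro ⟨d, x⟩ h
    rw [hΦ] at h
    have hd : dihHom d ∈ lOne := by rw [eq_inv_of_mul_eq_one_left h]; exact inv_mem x.2
    obtain ⟨hdt, hdj⟩ := mem_lOne.1 hd
    have hd1 : dihHom d = 1 ∧ d = 1 := by
      cases d with
      | r k =>
        have hk : k.val < 3 := ZMod.val_lt k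
        have hv : dihHom (DihedralGroup.r k) = tOne ^ k.val := rfl
        rw [hv] at hdj ⊢
        have h2 : (tOne ^ k.val) * (tOne ^ k.val) = 1 := by
          have hc := conj_pow (i := k.val) (a := jOne) (b := tOne)
          rw [hj, jOne_tOne, inv_pow, ← hdj, mul_assoc, jOne_sq, mul_one] at hc
          exact inv_eq_iff_mul_eq_one.1 hc
        have h1 : tOne ^ k.val = 1 := by
          have h3 : (tOne ^ k.val) ^ 3 = 1 := by
            rw [← pow_mul, mul_comm, pow_mul, tOne_pow_three, one_pow]
          rwa [pow_succ, pow_two, h2, one_mul] at h3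
        refine ⟨h1, ?_⟩
        have := orderOf_dvd_of_pow_eq_one h1
        rw [ho] at this
        have hk0 : k.val = 0 := Nat.eq_zero_of_dvd_of_lt this hk
        rw [(ZMod.val_eq_zero k).1 hk0]
        rfl
      | sr k =>
        exfalso
        have hv : dihHom (DihedralGroup.sr k) = jOne * tOne ^ k.val := rfl
        rw [hv, mul_assoc, ← pow_succ, ← mul_assoc tOne] at hdt
        have h2 : jOne * tOne * jOne = tOne := by
          have e : jOne * tOne * tOne ^ k.val = tOne * jOne * tOne ^ k.val := by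
            rw [mul_assoc jOne, ← pow_succ', hdt]
          rw [mul_right_cancel e, mul_assoc, jOne_sq, mul_one]
        rw [jOne_tOne] at h2
        refine tOne_ne_one ?_
        have h3 := tOne_pow_three
        rwa [pow_succ, pow_two, inv_eq_iff_mul_eq_one.1 h2, one_mul] at h3
    rw [hd1.1, one_mul] at h
    exact Prod.ext hd1.2 (Subtype.ext h)
  have hrange : Φ.range = Subgroup.normalizer (W : Set Spor.Co1) := by
    refine le_antisymm ?_ ?_
    · rintro _ ⟨⟨d, x⟩, rfl⟩
      rw [hΦ]
      refine mul_mem ?_ (hnorm _ (Or.inl ?_))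
      · cases d with
        | r k =>
          refine hnorm _ (Or.inl ?_)
          show tOne ^ k.val * tOne * (tOne ^ k.val)⁻¹ = tOne
          rw [← pow_succ, pow_succ', mul_inv_cancel_right]
        | sr k =>
          refine hnorm _ (Or.inr ?_)
          show jOne * tOne ^ k.val * tOne * (jOne * tOne ^ k.val)⁻¹ = tOne⁻¹
          rw [mul_inv_rev, hj, mul_assoc jOne, ← pow_succ, pow_succ', ← jOne_tOne]
          group
      · rw [(mem_lOne.1 x.2).1, mul_inv_cancel_right]
    · intro n hn
      have hmem : n * tOne * n⁻¹ ∈ W :=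
        (Subgroup.mem_normalizer_iff.1 hn tOne).1 (Subgroup.mem_zpowers _)
      obtain ⟨k, hk⟩ : ∃ k : ℕ, tOne ^ k = n * tOne * n⁻¹ :=
        Submonoid.mem_powers_iff _ _ |>.1 (mem_powers_iff_mem_zpowers.2 hmem)
      have hC : ∀ y ∈ cT, y ∈ Φ.range := by
        intro y hy
        obtain ⟨x, hx⟩ := chiL_surjective (chi ⟨y, hy⟩)
        have h1 : chi (⟨y, hy⟩ * (Subgroup.inclusion lOne_le x)⁻¹) = 1 := by
          rw [map_mul, map_inv, show chi (Subgroup.inclusion lOne_le x) = chiL x from rfl, hx,
            mul_inv_cancel]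
        obtain ⟨i, hi⟩ := chi_eq_one h1
        refine ⟨(DihedralGroup.r (i : ZMod 3), x), ?_⟩
        rw [hΦ, show dihHom (DihedralGroup.r (i : ZMod 3)) = tOne ^ (i : ZMod 3).val from rfl,
          ZMod.val_natCast, ← ho, pow_mod_orderOf, ← hi]
        exact inv_mul_cancel_right y (x : Spor.Co1)
      rcases hcases k with e | e | e
      · exfalso
        rw [e, eq_comm, mul_inv_eq_one, mul_eq_left] at hk
        exact tOne_ne_one hk
      · refine hC n (Subgroup.mem_centralizer_singleton_iff.2 ?_)
        rw [e, eq_mul_inv_iff_mul_eq] at hk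
        exact hk.symm
      · have h' : jOne * n ∈ cT := by
          refine Subgroup.mem_centralizer_singleton_iff.2 ?_
          rw [e, eq_mul_inv_iff_mul_eq, ← jOne_tOne] at hk
          rw [mul_assoc, ← hk, ← mul_assoc, ← mul_assoc, ← mul_assoc, jOne_sq, one_mul, mul_assoc]
        have hjr : jOne ∈ Φ.range := ⟨(DihedralGroup.sr 0, 1), by
          rw [hΦ, OneMemClass.coe_one, mul_one,
            show dihHom (DihedralGroup.sr 0) = jOne * tOne ^ (0 : ZMod 3).val from rfl]
          simp⟩
        have := mul_mem hjr (hC _ h')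
        rwa [← mul_assoc, jOne_sq, one_mul] at this
  let eL : lOne ≃* alternatingGroup (Fin 9) :=
    MulEquiv.ofBijective chiL ⟨chiL_injective, chiL_surjective⟩
  exact ⟨((MulEquiv.subgroupCongr hrange.symm).trans (MonoidHom.ofInjective hinj).symm).trans
    (JOffender.dihedralThreeEquiv.prodCongr eL)⟩

end CfsgLib.CoOneAmalgam.SevenThree
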