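import Cfsg.Agent.CoOneAmalgam.NModel
import Cfsg.Agent.CoOneAmalgam.VecOrbits
import Cfsg.Agent.ConwayGolay.Split

/-!
# The normalizer of the subgroup of order `2 ^ 11` is the monomial group of the first Conway group
-/

set_option autoImplicit false

namespace CfsgLib.CoOneAmalgam

open Cfsg CfsgLib.Mathieu CfsgLib.ConwayType CfsgLib.ConwayGolay
open CfsgLib.CoOneInv (zOne)
open CfsgLib.MTwentyThreeUnique.Gl11 CfsgLib.MTwentyFourUnique CfsgLib.MTwentyFourUnique.Gl11
open CfsgLib.FusionEssential Matrix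

variable {G : Type*} [Group G] [Finite G] {z s : G} {Q P : Subgroup G} {π : G → V8}

theorem exists_iso (F : ConwayType.Frame z Q π P s) (hgood : ConwayGolay.Good F) :
    ∃ e : N24 ≃* Subgroup.normalizer (theA F.data : Set G),
      ((e (SemidirectProduct.inl (Multiplicative.ofAdd (vecOf 2000))) : _) : G) = z ∧
      ∀ x : N24, x.right = 1 ↔ (e x : G) ∈ theA F.data := by
  classical
  set A := theA F.data with hA
  set N := Subgroup.normalizer (A : Set G) with hN
  have hel := theA_elem F hgood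
  have hcardA := card_theA F hgood
  obtain ⟨hnorm, -, hcardN, -⟩ := structure_facts F hgood
  obtain ⟨K, hK⟩ := exists_complement F hgood
  set A' := A.subgroupOf N with hA'
  have hAN : A ≤ N := Subgroup.le_normalizer
  have hA'c : Nat.card A' = 2048 := by
    rw [Nat.card_congr (Subgroup.subgroupOfEquivOfLe hAN).toEquiv, hcardA]; norm_num
  have hKc : Nat.card K = 244823040 := by
    have := hK.card_mul_card
    rw [hA'c, hcardN] at this
    omega
  have : Fact (Nat.Prime 2) := ⟨Nat.prime_two⟩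
  obtain ⟨f₀⟩ := exists_mulEquiv_fin_of_elementary (H := A)
    (fun a b => hel.1.is_comm.comm a b) (fun x => Subtype.ext (hel.2 x x.2)) hcardA
  let c₀ : K →* MulAut A := A.normalizerMonoidHom.comp K.subtype
  let rho : K →* GL (Fin 11) (ZMod 2) := ((autMatrix f₀).comp c₀).toHomUnits
  have hc₀ : Function.Injective c₀ := by
    refine (injective_iff_map_eq_one _).2 fun k hk => ?_
    have hkA : (k : N) ∈ A' := by
      refine ConwayGolay.centralizer_le F (Subgroup.mem_centralizer_iff.2 fun a ha => ?_)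
      have h : ((c₀ k ⟨a, ha⟩ : A) : G) = a := by rw [hk]; rfl
      exact (mul_inv_eq_iff_eq_mul.1 h).symm
    have hb := hK.disjoint.le_bot ⟨hkA, k.2⟩
    exact Subtype.ext (Subgroup.mem_bot.1 hb)
  have hrho : Function.Injective rho := fun a b h =>
    hc₀ (autMatrix_injective f₀ (congrArg Units.val h))
  obtain ⟨a, b, ha, hb, hab⟩ := ConwayGolay.exists_frobenius rho hKc hrho
  obtain ⟨d, hd, hdb⟩ := ConwayGolay.exists_ten rho hKc hrho hb
  obtain ⟨X, hX⟩ := exists_range_of_rep hKc rho hrho a b d ha hb hd hab hdb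
  -- coordinates adapted to the model
  let f : A ≃* Multiplicative V := f₀.trans (AddEquiv.toMultiplicative
    { toFun := fun v => (X : M) *ᵥ v
      invFun := fun v => (↑X⁻¹ : M) *ᵥ v
      left_inv := fun v => by
        simp only [Matrix.mulVec_mulVec, Units.inv_mul, Matrix.one_mulVec]
      right_inv := fun v => by
        simp only [Matrix.mulVec_mulVec, Units.mul_inv, Matrix.one_mulVec]
      map_add' := fun u v => Matrix.mulVec_add _ u v })
  have hfconj : ∀ (k : K) (x : A), (f (c₀ k x)).toAdd =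
      ((MulAut.conj X).toMonoidHom.comp rho k : M) *ᵥ (f x).toAdd := by
    intro k x
    show (X : M) *ᵥ (f₀ (c₀ k x)).toAdd = _
    have h1 : ((MulAut.conj X).toMonoidHom.comp rho k : M) =
        (X : M) * autMatrix f₀ (c₀ k) * (↑X⁻¹ : M) := rfl
    have h2 : (↑X⁻¹ : M) *ᵥ (f x).toAdd = (f₀ x).toAdd := by
      show (↑X⁻¹ : M) *ᵥ ((X : M) *ᵥ (f₀ x).toAdd) = _
      rw [Matrix.mulVec_mulVec, Units.inv_mul, Matrix.one_mulVec]
    rw [h1, ← Matrix.mulVec_mulVec, h2, ← Matrix.mulVec_mulVec, autMatrix_mulVec, ofAdd_toAdd,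
      MulEquiv.symm_apply_apply]
  -- the orbit of `z`
  have hzA : z ∈ A := wTil_le F.data (z_mem_wTil F.data)
  let S : Set V := {v | ((f.symm (Multiplicative.ofAdd v) : A) : G) ∈ orb N z}
  have horbA : ∀ x ∈ orb N z, x ∈ A := fun x hx => by
    obtain ⟨n, hn, rfl⟩ := mem_orb.1 hx
    exact (Subgroup.mem_normalizer_iff.1 hn z).1 hzA
  have hScard : Nat.card S = 759 := by
    have h := card_orb N z
    rw [hcardN, card_normalizer_inf F hgood] at h
    have h759 : (orb N z).card = 759 := by omega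
    rw [← h759, ← Nat.card_eq_finsetCard]
    exact Nat.card_congr {
      toFun := fun v => ⟨_, v.2⟩
      invFun := fun x => ⟨(f ⟨x.1, horbA x.1 x.2⟩).toAdd, by
        show ((f.symm (Multiplicative.ofAdd (f ⟨x.1, _⟩).toAdd) : A) : G) ∈ orb N z
        rw [ofAdd_toAdd, MulEquiv.symm_apply_apply]; exact x.2⟩
      left_inv := fun v => Subtype.ext (by simp)
      right_inv := fun x => Subtype.ext (by simp) }
  have h0 : (0 : V) ∉ S := by
    intro h
    have h' : ((f.symm 1 : A) : G) ∈ orb N z := h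
    rw [map_one] at h'
    obtain ⟨n, -, e⟩ := mem_orb.1 h'
    exact F.data.sub.ne_one (conj_eq_one_iff.1 e)
  have hinv : ∀ k : K, ∀ v ∈ S, ((MulAut.conj X).toMonoidHom.comp rho k : M) *ᵥ v ∈ S := by
    intro k v hv
    obtain ⟨x, hx⟩ : ∃ x : A, x = f.symm (Multiplicative.ofAdd v) := ⟨_, rfl⟩
    have hx' : v = (f x).toAdd := by rw [hx, MulEquiv.apply_symm_apply, toAdd_ofAdd]
    show ((f.symm (Multiplicative.ofAdd (_ *ᵥ v)) : A) : G) ∈ orb N z
    rw [hx', ← hfconj, ofAdd_toAdd, MulEquiv.symm_apply_apply]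
    exact orb_conj (k : N).2 (show (x : G) ∈ orb N z from hx ▸ hv)
  have hinvσ : ∀ {Fm : M24 →* M}, ((MulAut.conj X).toMonoidHom.comp rho).range = Fm.toHomUnits.range →
      ∀ σ, ∀ v ∈ S, Fm σ *ᵥ v ∈ S := by
    intro Fm h σ v hv
    obtain ⟨k, hk⟩ : Fm.toHomUnits σ ∈ ((MulAut.conj X).toMonoidHom.comp rho).range := h ▸ ⟨σ, rfl⟩
    have := hinv k v hv
    rwa [hk] at this
  rcases hX with hX | hX
  swap
  · exact (not_cocode hScard h0 (hinvσ hX)).elim
  have h2000 : vecOf 2000 ∈ S := mem_code hScard h0 (hinvσ hX)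
  obtain ⟨n, hn, hnz⟩ := mem_orb.1 h2000
  -- the isomorphism
  have hFu : Function.Injective repM24.toHomUnits := fun s t e =>
    repM24_injective (congrArg Units.val e)
  have hπ : Function.Injective ((MulAut.conj X).toMonoidHom.comp rho) :=
    (MulAut.conj X).injective.comp hrho
  let ψ : M24 ≃* K := (MonoidHom.ofInjective hFu).trans
    ((MulEquiv.subgroupCongr hX.symm).trans (MonoidHom.ofInjective hπ).symm)
  have hψ : ∀ σ, ((MulAut.conj X).toMonoidHom.comp rho (ψ σ) : M) = repM24 σ := by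
    intro σ
    have h := MonoidHom.ofInjective_apply hπ (x := ψ σ)
    have e : MonoidHom.ofInjective hπ (ψ σ) =
        MulEquiv.subgroupCongr hX.symm (MonoidHom.ofInjective hFu σ) := by
      simp only [ψ, MulEquiv.trans_apply, MulEquiv.apply_symm_apply]
    rw [← h, e]
    rfl
  let fn : Multiplicative V →* N := (Subgroup.inclusion hAN).comp f.symm.toMonoidHom
  let fg : M24 →* N := K.subtype.comp ψ.toMonoidHom
  let e₀ : N24 →* N := SemidirectProduct.lift fn fg fun σ => MonoidHom.ext fun v => by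
    refine Subtype.ext ?_
    have hv : f (c₀ (ψ σ) (f.symm v)) = codeAut σ v := by
      refine Multiplicative.toAdd.injective ?_
      rw [hfconj, MulEquiv.apply_symm_apply, hψ]
      rfl
    show ((f.symm (codeAut σ v) : A) : G) = _
    rw [← hv, MulEquiv.symm_apply_apply]
    rfl
  have he₀ : ∀ x : N24, e₀ x = fn x.left * fg x.right := fun x => by
    conv_lhs => rw [← SemidirectProduct.inl_left_mul_inr_right x]
    rw [map_mul, SemidirectProduct.lift_inl, SemidirectProduct.lift_inr]
  have hfnA : ∀ v, fn v ∈ A' := fun v => (f.symm v).2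
  have hright : ∀ x : N24, (e₀ x : G) ∈ A ↔ x.right = 1 := by
    intro x
    rw [he₀]
    refine ⟨fun h => ?_, fun h => ?_⟩
    · have hk : fg x.right ∈ A' := by
        have := A'.mul_mem (A'.inv_mem (hfnA x.left)) (show fn x.left * fg x.right ∈ A' from h)
        rwa [inv_mul_cancel_left] at this
      have h1 : fg x.right = 1 := Subgroup.mem_bot.1 (hK.disjoint.le_bot ⟨hk, (ψ x.right).2⟩)
      exact ψ.injective (by rw [map_one]; exact Subtype.ext h1)
    · rw [h, map_one, mul_one]
      exact (f.symm x.left).2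
  have hinj : Function.Injective e₀ := by
    refine (injective_iff_map_eq_one _).2 fun x hx => ?_
    have hr : x.right = 1 := (hright x).1 (by rw [hx]; exact one_mem A)
    rw [he₀, hr, map_one, mul_one] at hx
    refine SemidirectProduct.ext (f.symm.injective ?_) hr
    rw [SemidirectProduct.one_left, map_one]
    exact Subgroup.inclusion_injective hAN (by rw [map_one]; exact hx)
  have hbij : Function.Bijective e₀ := by
    have : Finite N24 := Nat.finite_of_card_ne_zero (by rw [card_N24]; norm_num)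
    refine (Nat.bijective_iff_injective_and_card e₀).2 ⟨hinj, ?_⟩
    rw [card_N24, hcardN]
  refine ⟨(MulEquiv.ofBijective e₀ hbij).trans (MulAut.conj (⟨n, hn⟩ : N)⁻¹), ?_, fun x => ?_⟩
  · show n⁻¹ * ((e₀ _ : N) : G) * n⁻¹⁻¹ = z
    rw [SemidirectProduct.lift_inl]
    show n⁻¹ * ((f.symm (Multiplicative.ofAdd (vecOf 2000)) : A) : G) * n⁻¹⁻¹ = z
    rw [← hnz]
    group
  · show x.right = 1 ↔ n⁻¹ * ((e₀ x : N) : G) * n⁻¹⁻¹ ∈ A
    rw [← (Subgroup.mem_normalizer_iff.1 (inv_mem hn) _), hright]

/-- The monomial group of the first Conway group is the normalizer of the subgroup of order `2 ^ 11`,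
with the sign changes going onto that subgroup and the octad involution to `z`. -/
theorem exists_nEquiv (F : ConwayType.Frame z Q π P s) (hgood : ConwayGolay.Good F) :
    ∃ e : nOne ≃* Subgroup.normalizer (theA F.data : Set G),
      ((e ⟨zOne, zOne_mem_nOne⟩ : _) : G) = z ∧
      ∀ x : nOne, (x : Spor.Co1) ∈ aOne ↔ (e x : G) ∈ theA F.data := by
  obtain ⟨e, hz, hA⟩ := exists_iso F hgood
  refine ⟨nEquiv.symm.trans e, ?_, fun x => ?_⟩
  · have h : nEquiv (SemidirectProduct.inl (Multiplicative.ofAdd (vecOf 2000))) =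
        ⟨zOne, zOne_mem_nOne⟩ := Subtype.ext nHom_octad
    rw [MulEquiv.trans_apply, ← h, MulEquiv.symm_apply_apply, hz]
  · rw [MulEquiv.trans_apply, ← hA, ← nHom_inl_range]
    have hx : (x : Spor.Co1) = nHom (nEquiv.symm x) := by
      rw [← nEquiv_apply, MulEquiv.apply_symm_apply]
    rw [hx]
    refine ⟨fun ⟨v, hv⟩ => ?_, fun h => ⟨(nEquiv.symm x).left, ?_⟩⟩
    · have h := nHom_injective (a₁ := SemidirectProduct.inl v) (a₂ := nEquiv.symm x)
        (by rw [nHom, SemidirectProduct.lift_inl]; exact hv)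
      rw [← h]
      rfl
    · conv_rhs => rw [← SemidirectProduct.inl_left_mul_inr_right (nEquiv.symm x), h, map_one, mul_one]
      rw [nHom, SemidirectProduct.lift_inl]

omit [Finite G] in
/-- An isomorphism sending `zOne` to `z` respects the centralizers. -/
theorem nEquiv_mem_centralizer {N : Subgroup G} (e : nOne ≃* N)
    (hz : ((e ⟨zOne, zOne_mem_nOne⟩ : _) : G) = z) (x : nOne) :
    (x : Spor.Co1) ∈ Subgroup.centralizer ({zOne} : Set Spor.Co1) ↔
      (e x : G) ∈ Subgroup.centralizer ({z} : Set G) := by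
  rw [Subgroup.mem_centralizer_singleton_iff, Subgroup.mem_centralizer_singleton_iff, ← hz,
    ← Subgroup.coe_mul, ← Subgroup.coe_mul, Subtype.coe_inj, ← map_mul, ← map_mul,
    e.injective.eq_iff, Subtype.ext_iff]
  rfl

end CfsgLib.CoOneAmalgam
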