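import Cfsg.Agent.CoZeroStd.Facts
import Cfsg.Agent.Leech.Orbits
import Cfsg.Agent.CoOneAmalgam.Defs

/-!
# The centralizer of a dodecad sign change is monomial

The lattice vectors of norm 32 supported on a dodecad are the vectors with two entries `±4`, and the
only sums of an orthogonal pair of them that split in more than two ways are the vectors `±8e`.
-/

set_option autoImplicit false
set_option linter.style.haveILetI false

namespace CfsgLib.CoOneAmalgam

open Cfsg CfsgLib.Mathieu CfsgLib.Leech CfsgLib.CoOneInv CfsgLib.CoZeroInvol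
open scoped symmDiff

local notation "Supp" => supports (golayCode : Set (GolayPt → ZMod 2))

/-- The vector with two given entries. -/
def pairFun (a : GolayPt) (A : ℤ) (b : GolayPt) (B : ℤ) : GolayPt → ℤ := Pi.single a A + Pi.single b B

theorem dotInt_pairFun (a : GolayPt) (A : ℤ) (b : GolayPt) (B : ℤ) (w : GolayPt → ℤ) :
    dotInt (pairFun a A b B) w = A * w a + B * w b := by
  simp [dotInt, pairFun, Pi.single_apply, add_mul, ite_mul, Finset.sum_add_distrib]

theorem pairFun_left {a b : GolayPt} (h : a ≠ b) (A B : ℤ) : pairFun a A b B a = A := by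
  simp [pairFun, h]

theorem pairFun_right {a b : GolayPt} (h : a ≠ b) (A B : ℤ) : pairFun a A b B b = B := by
  simp [pairFun, h.symm]

theorem pairFun_other {a b p : GolayPt} (A B : ℤ) (h : p ≠ a) (h' : p ≠ b) : pairFun a A b B p = 0 := by
  simp [pairFun, h, h']

/-- An entry `±4`. -/
abbrev IsFour (A : ℤ) : Prop := A = 4 ∨ A = -4

theorem pairFun_mem {a b : GolayPt} (h : a ≠ b) {A B : ℤ} (hA : IsFour A) (hB : IsFour B) :
    pairFun a A b B ∈ leechLattice := by
  refine mem_leech.2 ⟨0, pairFun a (A / 2) b (B / 2), fun p => ?_, ?_, ?_⟩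
  · rcases eq_or_ne p a with rfl | ha
    · rw [pairFun_left h, pairFun_left h]; rcases hA with rfl | rfl <;> norm_num
    rcases eq_or_ne p b with rfl | hb
    · rw [pairFun_right h, pairFun_right h]; rcases hB with rfl | rfl <;> norm_num
    rw [pairFun_other _ _ ha hb, pairFun_other _ _ ha hb]; norm_num
  · rw [show ∑ p, pairFun a A b B p = A + B by simp [pairFun, Finset.sum_add_distrib]]
    rcases hA with rfl | rfl <;> rcases hB with rfl | rfl <;> decide
  · have e : res2 (pairFun a (A / 2) b (B / 2)) = 0 := by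
      funext p
      show ((pairFun a (A / 2) b (B / 2) p : ℤ) : ZMod 2) = 0
      rcases eq_or_ne p a with rfl | ha
      · rw [pairFun_left h]; rcases hA with rfl | rfl <;> decide
      rcases eq_or_ne p b with rfl | hb
      · rw [pairFun_right h]; rcases hB with rfl | rfl <;> decide
      rw [pairFun_other _ _ ha hb]; rfl
    rw [e]; exact zero_mem _

theorem sqNorm_pairFun {a b : GolayPt} (h : a ≠ b) {A B : ℤ} (hA : IsFour A) (hB : IsFour B) :
    sqNorm (pairFun a A b B) = 32 := by
  have e : sqNorm (pairFun a A b B) = dotInt (pairFun a A b B) (pairFun a A b B) :=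
    Finset.sum_congr rfl fun p _ => sq _
  rw [e, dotInt_pairFun, pairFun_left h, pairFun_right h]
  rcases hA with rfl | rfl <;> rcases hB with rfl | rfl <;> norm_num

/-- A vector of norm 32 supported on a dodecad has two entries `±4`. -/
theorem exists_pairFun {x : GolayPt → ℤ} (hx : x ∈ leechLattice) (hn : sqNorm x = 32)
    {U : Finset GolayPt} (hU : U ∈ Supp) (hcard : U.card = 12) (hs : ∀ p, p ∉ U → x p = 0) :
    ∃ a ∈ U, ∃ b ∈ U, ∃ A B : ℤ, a ≠ b ∧ IsFour A ∧ IsFour B ∧ x = pairFun a A b B := by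
  have hn' : sqNorm x ≤ 80 := by omega
  obtain ⟨p₀, hp₀⟩ : ∃ p, p ∉ U := by
    by_contra h
    push Not at h
    rw [Finset.eq_univ_iff_forall.2 h, Finset.card_univ,
      show Fintype.card GolayPt = 24 by simp [ZMod.card]] at hcard
    omega
  have hev : (x none).natAbs % 2 = 0 := by rw [← parity_pt hx p₀, hs p₀ hp₀]; rfl
  have hodd : ∀ v, v % 2 = 1 → nv x v = 0 := fun v hv => nv_parity hx (by omega)
  have hmem : ∀ v, v ≠ 0 → lev x v ⊆ U := fun v hv p hp => by
    by_contra hpU
    rw [mem_lev, hs p hpU] at hp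
    exact hv hp.symm
  have hsub : lev x 2 ∪ lev x 6 ⊆ U := Finset.union_subset (hmem 2 (by norm_num)) (hmem 6 (by norm_num))
  have hS := lev_twos_mem hx hn' hev
  obtain ⟨s1, s2⟩ := nv_sums hn'
  rw [hodd 1 rfl, hodd 3 rfl, hodd 5 rfl, hodd 7 rfl, hn] at s2
  have hw := twos_weight hx hn' hev
  have hd : (lev x 2 ∪ lev x 6).card = nv x 2 + nv x 6 :=
    Finset.card_union_of_disjoint (Finset.disjoint_left.mpr fun p h2 h6 => by
      rw [mem_lev] at h2 h6; omega)
  have h8 : nv x 2 + nv x 6 ≠ 8 := fun h => by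
    have h1 := card_symmDiff_add (lev x 2 ∪ lev x 6) U
    rw [Finset.inter_eq_left.2 hsub, hd, h, hcard] at h1
    have h2 := supports_card (supports_symmDiff hS hU)
    omega
  have hle : nv x 2 + nv x 6 ≤ 12 := hd ▸ hcard ▸ Finset.card_le_card hsub
  push_cast at s2
  have h4 : nv x 4 = 2 ∧ nv x 8 = 0 ∧ nv x 2 = 0 ∧ nv x 6 = 0 := by omega
  obtain ⟨a, b, hab, e⟩ := Finset.card_eq_two.1 h4.1
  have ha : a ∈ lev x 4 := e ▸ Finset.mem_insert_self a _
  have hb : b ∈ lev x 4 := e ▸ Finset.mem_insert_of_mem (Finset.mem_singleton_self b)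
  have four : ∀ p, p ∈ lev x 4 → IsFour (x p) := fun p hp => by
    rw [mem_lev] at hp; show x p = 4 ∨ x p = -4; omega
  refine ⟨a, hmem 4 (by norm_num) ha, b, hmem 4 (by norm_num) hb, x a, x b, hab, four a ha, four b hb,
    funext fun p => ?_⟩
  rcases eq_or_ne p a with rfl | hpa
  · rw [pairFun_left hab]
  rcases eq_or_ne p b with rfl | hpb
  · rw [pairFun_right hab]
  rw [pairFun_other _ _ hpa hpb]
  by_contra h0
  have h8' := natAbs_le_eight hn' p
  have hne : ∀ v, nv x v = 0 → (x p).natAbs ≠ v := fun v hv hpv =>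
    absurd (mem_lev.2 hpv) (by rw [Finset.card_eq_zero.1 hv]; exact Finset.notMem_empty p)
  have := hne 1 (hodd 1 rfl); have := hne 3 (hodd 3 rfl); have := hne 5 (hodd 5 rfl)
  have := hne 7 (hodd 7 rfl); have := hne 2 h4.2.2.1; have := hne 6 h4.2.2.2
  have := hne 8 h4.2.1
  have h4' : (x p).natAbs = 4 := by omega
  have hp : p ∈ lev x 4 := mem_lev.2 h4'
  rw [e, Finset.mem_insert, Finset.mem_singleton] at hp
  exact hp.elim hpa hpb

theorem pairFun_dot_sixteen {a b : GolayPt} {A B : ℤ} (hA : IsFour A) (hB : IsFour B)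
    {x y : GolayPt} {X Y : ℤ} (hX : IsFour X) (hY : IsFour Y) (hab : a ≠ b) (hxy : x ≠ y)
    (h : dotInt (pairFun a A b B) (pairFun x X y Y) = 16) :
    (x = a ∧ X = A ∧ y ≠ b) ∨ (x = b ∧ X = B ∧ y ≠ a) ∨ (y = a ∧ Y = A ∧ x ≠ b) ∨
      (y = b ∧ Y = B ∧ x ≠ a) := by
  rw [dotInt_pairFun] at h
  rcases eq_or_ne x a with rfl | hxa
  · rw [pairFun_left hxy] at h
    rcases eq_or_ne y b with rfl | hyb
    · rw [pairFun_right hxy] at h
      rcases hA with rfl | rfl <;> rcases hB with rfl | rfl <;> rcases hX with rfl | rfl <;>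
        rcases hY with rfl | rfl <;> norm_num at h
    · rw [pairFun_other X Y hab.symm hyb.symm] at h
      exact Or.inl ⟨rfl, by rcases hA with rfl | rfl <;> rcases hX with rfl | rfl <;> omega, hyb⟩
  rcases eq_or_ne x b with rfl | hxb
  · rw [pairFun_left hxy] at h
    rcases eq_or_ne y a with rfl | hya
    · rw [pairFun_right hxy] at h
      rcases hA with rfl | rfl <;> rcases hB with rfl | rfl <;> rcases hX with rfl | rfl <;>
        rcases hY with rfl | rfl <;> norm_num at h
    · rw [pairFun_other X Y hab hya.symm] at h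
      exact Or.inr (Or.inl ⟨rfl, by rcases hB with rfl | rfl <;> rcases hX with rfl | rfl <;> omega, hya⟩)
  rcases eq_or_ne y a with rfl | hya
  · rw [pairFun_right hxy, pairFun_other X Y hxb.symm hab.symm] at h
    exact Or.inr (Or.inr (Or.inl ⟨rfl, by rcases hA with rfl | rfl <;> rcases hY with rfl | rfl <;> omega, hxb⟩))
  rcases eq_or_ne y b with rfl | hyb
  · rw [pairFun_right hxy, pairFun_other X Y hxa.symm hya.symm] at h
    exact Or.inr (Or.inr (Or.inr ⟨rfl, by rcases hB with rfl | rfl <;> rcases hY with rfl | rfl <;> omega, hxa⟩))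
  rw [pairFun_other X Y hxa.symm hya.symm, pairFun_other X Y hxb.symm hyb.symm] at h
  norm_num at h

theorem pairFun_comm (a : GolayPt) (A : ℤ) (b : GolayPt) (B : ℤ) : pairFun a A b B = pairFun b B a A :=
  add_comm _ _

/-- Roots with product 16 with two orthogonal roots of disjoint support: one of four. -/
theorem candidates {a b c d : GolayPt} {A B C D : ℤ} (hA : IsFour A) (hB : IsFour B) (hC : IsFour C)
    (hD : IsFour D) (hab : a ≠ b) (hcd : c ≠ d) (hac : a ≠ c) (had : a ≠ d) (hbc : b ≠ c) (hbd : b ≠ d)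
    {x y : GolayPt} {X Y : ℤ} (hX : IsFour X) (hY : IsFour Y) (hxy : x ≠ y)
    (h1 : dotInt (pairFun a A b B) (pairFun x X y Y) = 16)
    (h2 : dotInt (pairFun c C d D) (pairFun x X y Y) = 16) :
    pairFun x X y Y ∈ ({pairFun a A c C, pairFun a A d D, pairFun b B c C, pairFun b B d D} :
      Finset (GolayPt → ℤ)) := by
  simp only [Finset.mem_insert, Finset.mem_singleton]
  rcases pairFun_dot_sixteen hA hB hX hY hab hxy h1 with ⟨rfl, rfl, -⟩ | ⟨rfl, rfl, -⟩ | ⟨rfl, rfl, -⟩ |
      ⟨rfl, rfl, -⟩ <;>
    rcases pairFun_dot_sixteen hC hD hX hY hcd hxy h2 with ⟨rfl, rfl, -⟩ | ⟨rfl, rfl, -⟩ | ⟨rfl, rfl, -⟩ |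
      ⟨rfl, rfl, -⟩ <;>
    first
      | exact absurd rfl hac
      | exact absurd rfl had
      | exact absurd rfl hbc
      | exact absurd rfl hbd
      | simp [pairFun_comm]

/-- A root between two points, as a lattice vector. -/
def pairL {a b : GolayPt} (h : a ≠ b) (s : Bool) : leechLattice :=
  ⟨pairFun a 4 b (if s then 4 else -4), pairFun_mem h (Or.inl rfl) (by cases s <;> simp [IsFour])⟩

/-- An element carrying the vectors supported on one dodecad to those supported on another is monomial. -/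
theorem mem_monoGroup_of_supported {g : Co0} {U W : Finset GolayPt} (hU : U.card = 12) (hW : W ∈ Supp)
    (hWc : W.card = 12)
    (h : ∀ v : leechLattice, (∀ p, p ∉ U → (v : GolayPt → ℤ) p = 0) →
      ∀ p, p ∉ W → ((g • v : leechLattice) : GolayPt → ℤ) p = 0) : g ∈ monoGroup := by
  classical
  obtain ⟨i, hi, j, hj, hij⟩ := Finset.one_lt_card.1 (by omega : 1 < U.card)
  have four : ∀ s : Bool, IsFour (if s then (4 : ℤ) else -4) := fun s => by cases s <;> simp [IsFour]
  have root : ∀ {k : GolayPt} (_ : k ∈ U) (hik : i ≠ k) (s : Bool), ∃ a ∈ W, ∃ b ∈ W, ∃ A B : ℤ,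
      a ≠ b ∧ IsFour A ∧ IsFour B ∧ ((g • pairL hik s : leechLattice) : GolayPt → ℤ) = pairFun a A b B :=
    fun {k} hk hik s => exists_pairFun (g • pairL hik s).2
      ((co0_norm g _).trans (sqNorm_pairFun hik (Or.inl rfl) (four s))) hW hWc
      (h _ fun p hp => pairFun_other _ _ (fun e => hp (e ▸ hi)) (fun e => hp (e ▸ hk)))
  obtain ⟨a, ha, b, hb, A, B, hab, hA, hB, er⟩ := root hj hij true
  obtain ⟨c, hc, d, hd, C, D, hcd, hC, hD, es⟩ := root hj hij false
  have hsum : pairL hij true + pairL hij false = eightL i := by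
    refine Subtype.ext (funext fun p => ?_)
    show pairFun i 4 j 4 p + pairFun i 4 j (-4) p = eight i p
    simp only [pairFun, eight, Pi.add_apply, Pi.single_apply]
    split_ifs <;> norm_num
  have hv : ((g • eightL i : leechLattice) : GolayPt → ℤ) = pairFun a A b B + pairFun c C d D := by
    rw [← hsum, co0_add, AddSubgroup.coe_add, er, es]
  have hdot : A * pairFun c C d D a + B * pairFun c C d D b = 0 := by
    rw [← dotInt_pairFun, ← er, ← es, co0_dot]
    show dotInt (pairFun i 4 j 4) (pairFun i 4 j (-4)) = 0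
    rw [dotInt_pairFun, pairFun_left hij, pairFun_right hij]; norm_num
  refine mem_monoGroup_iff.2 (preservesCross_of_mem (q := i) ?_)
  rw [hv]
  -- the common case: two roots with the same support
  have same : ∀ (C' D' : ℤ), IsFour C' → IsFour D' → A * C' + B * D' = 0 →
      pairFun a A b B + pairFun a C' b D' ∈ stdCross := by
    intro C' D' hC' hD' e
    have h8 : (A + C' = 0 ∧ (B + D' = 8 ∨ B + D' = -8)) ∨ (B + D' = 0 ∧ (A + C' = 8 ∨ A + C' = -8)) := by
      rcases hA with rfl | rfl <;> rcases hB with rfl | rfl <;> rcases hC' with rfl | rfl <;>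
        rcases hD' with rfl | rfl <;> omega
    rw [show pairFun a A b B + pairFun a C' b D' = pairFun a (A + C') b (B + D') from funext fun p => by
      simp only [pairFun, Pi.add_apply, Pi.single_apply]; split_ifs <;> ring]
    rcases h8 with ⟨e1, e2⟩ | ⟨e1, e2⟩
    · rw [e1, mem_stdCross_iff]
      refine ⟨b, ?_⟩
      rcases e2 with e2 | e2 <;> rw [e2]
      · exact Or.inl (by simp [pairFun, eight])
      · exact Or.inr (by simp [pairFun, eight, ← Pi.single_neg])
    · rw [e1, mem_stdCross_iff]
      refine ⟨a, ?_⟩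
      rcases e2 with e2 | e2 <;> rw [e2]
      · exact Or.inl (by simp [pairFun, eight])
      · exact Or.inr (by simp [pairFun, eight, ← Pi.single_neg])
  by_cases hca : c = a ∨ c = b ∨ d = a ∨ d = b
  · rcases eq_or_ne c a with rfl | hca'
    · rcases eq_or_ne d b with rfl | hdb
      · rw [pairFun_left hcd, pairFun_right hcd] at hdot
        exact same C D hC hD hdot
      · rw [pairFun_left hcd, pairFun_other C D hab.symm hdb.symm] at hdot
        exfalso; rcases hA with rfl | rfl <;> rcases hC with rfl | rfl <;> norm_num at hdot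
    rcases eq_or_ne c b with rfl | hcb'
    · rcases eq_or_ne d a with rfl | hda
      · rw [pairFun_right hcd, pairFun_left hcd] at hdot
        rw [pairFun_comm c C d D]
        exact same D C hD hC hdot
      · rw [pairFun_left hcd, pairFun_other C D hab hda.symm] at hdot
        exfalso; rcases hB with rfl | rfl <;> rcases hC with rfl | rfl <;> norm_num at hdot
    rcases eq_or_ne d a with rfl | hda
    · rw [pairFun_right hcd, pairFun_other C D hcb'.symm hab.symm] at hdot
      exfalso; rcases hA with rfl | rfl <;> rcases hD with rfl | rfl <;> norm_num at hdot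
    rcases eq_or_ne d b with rfl | hdb
    · rw [pairFun_right hcd, pairFun_other C D hca'.symm hda.symm] at hdot
      exfalso; rcases hB with rfl | rfl <;> rcases hD with rfl | rfl <;> norm_num at hdot
    rcases hca with e | e | e | e
    exacts [absurd e hca', absurd e hcb', absurd e hda, absurd e hdb]
  push Not at hca
  obtain ⟨hca1, hca2, hca3, hca4⟩ := hca
  exfalso
  let S : Finset (GolayPt → ℤ) :=
    {pairFun a A c C, pairFun a A d D, pairFun b B c C, pairFun b B d D}
  have hS : S.card ≤ 4 := Finset.card_le_four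
  let T : Finset (GolayPt × Bool) := ((U.erase i).erase j) ×ˢ (Finset.univ : Finset Bool)
  have hT : 4 < T.card := by
    rw [Finset.card_product, Finset.card_erase_of_mem (Finset.mem_erase.2 ⟨hij.symm, hj⟩),
      Finset.card_erase_of_mem hi, hU]
    decide
  let φ : GolayPt × Bool → (GolayPt → ℤ) := fun q =>
    if hq : i ≠ q.1 then ((g • pairL hq q.2 : leechLattice) : GolayPt → ℤ) else 0
  have hmaps : ∀ q ∈ T, φ q ∈ S := by
    intro q hq
    simp only [T, Finset.mem_product, Finset.mem_erase, Finset.mem_univ, and_true] at hq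
    obtain ⟨hqj, hqi, hqU⟩ := hq
    show (if hq : i ≠ q.1 then ((g • pairL hq q.2 : leechLattice) : GolayPt → ℤ) else 0) ∈ S
    rw [dif_pos (Ne.symm hqi)]
    obtain ⟨x, -, y, -, X, Y, hxy, hX, hY, e⟩ := root hqU (Ne.symm hqi) q.2
    rw [e]
    have hd' : ∀ s : Bool, dotInt ((g • pairL hij s : leechLattice) : GolayPt → ℤ) (pairFun x X y Y) = 16 :=
      fun s => by
        rw [← e, co0_dot]
        show dotInt (pairFun i 4 j _) (pairFun i 4 q.1 _) = 16
        rw [dotInt_pairFun, pairFun_left (Ne.symm hqi), pairFun_other _ _ hij.symm (Ne.symm hqj)]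
        norm_num
    exact candidates hA hB hC hD hab hcd hca1.symm hca3.symm hca2.symm hca4.symm hX hY hxy
      (er ▸ hd' true) (es ▸ hd' false)
  obtain ⟨q, hq, q', hq', hne, he⟩ := Finset.exists_ne_map_eq_of_card_lt_of_maps_to (by omega) hmaps
  simp only [T, Finset.mem_product, Finset.mem_erase, Finset.mem_univ, and_true] at hq hq'
  simp only [φ] at he
  rw [dif_pos (Ne.symm hq.2.1), dif_pos (Ne.symm hq'.2.1)] at he
  have he1 : pairL (Ne.symm hq.2.1) q.2 = pairL (Ne.symm hq'.2.1) q'.2 :=
    smul_left_cancel g (Subtype.ext he)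
  have he2 := congrFun (congrArg Subtype.val he1) q.1
  simp only [pairL, pairFun_right (Ne.symm hq.2.1)] at he2
  by_cases hk : q.1 = q'.1
  · rw [hk, pairFun_right (Ne.symm hq'.2.1)] at he2
    refine hne (Prod.ext hk ?_)
    revert he2
    cases q.2 <;> cases q'.2 <;> simp
  · rw [pairFun_other _ _ hq.2.1 hk] at he2
    cases hs : q.2 <;> rw [hs] at he2 <;> simp at he2

theorem diag_smul {c : Finset GolayPt} (hc : c ∈ Supp) (v : leechLattice) (p : GolayPt) :
    ((diag c hc • v : leechLattice) : GolayPt → ℤ) p =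
      if p ∈ c then -((v : GolayPt → ℤ) p) else (v : GolayPt → ℤ) p := by
  rw [diag, monoCo0_smul]; simp [monoFun]

/-- What commutes with a dodecad sign change up to sign is monomial. -/
theorem mem_monoGroup_of_dod {g : Co0} {c : Finset GolayPt} (hc : c ∈ Supp) (hcard : c.card = 12)
    (h : g * diag c hc = diag c hc * g ∨ g * diag c hc = negCo0 * (diag c hc * g)) : g ∈ monoGroup := by
  have hsupp : ∀ v : leechLattice, (∀ p, p ∉ c → (v : GolayPt → ℤ) p = 0) → diag c hc • v = -v := by
    intro v hv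
    refine Subtype.ext (funext fun p => ?_)
    rw [diag_smul, AddSubgroup.coe_neg, Pi.neg_apply]
    split_ifs with hp
    · rfl
    · rw [hv p hp, neg_zero]
  have neg : ∀ v : leechLattice, negCo0 • v = -v := fun v => Subtype.ext (negCo0_smul v)
  rcases h with h | h
  · refine mem_monoGroup_of_supported hcard hc hcard fun v hv p hp => ?_
    have e := congrArg (fun k : Co0 => ((k • v : leechLattice) : GolayPt → ℤ) p) h
    simp only [mul_smul, hsupp v hv, co0_neg, AddSubgroup.coe_neg, Pi.neg_apply, diag_smul, if_neg hp] at e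
    omega
  · refine mem_monoGroup_of_supported hcard (supports_compl hc) (by
      rw [Finset.card_compl, hcard, M24Classes.card_golayPt]) fun v hv p hp => ?_
    rw [Finset.mem_compl, not_not] at hp
    have e := congrArg (fun k : Co0 => ((k • v : leechLattice) : GolayPt → ℤ) p) h
    simp only [mul_smul, neg, hsupp v hv, co0_neg, AddSubgroup.coe_neg, Pi.neg_apply, diag_smul,
      if_pos hp, neg_neg] at e
    omega

end CfsgLib.CoOneAmalgam
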